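import Mathlib
import Cfsg.Agent.H12.Control2

set_option autoImplicit false

namespace Cfsg.Agent.H12

open Cfsg

variable {G : Type*} [Group G]

lemma family_singleton_of_controls {p : ℕ} {W : Subgroup G → Subgroup G} {H : Subgroup G}
    (h : ControlsStrongFusionIn p W H) : FamilyControlsStrongFusionIn p {W} H := by
  obtain ⟨T, hTH, hT, hidx, hc⟩ := h
  refine ⟨T, hTH, hT, hidx, ?_⟩
  intro A k hk hA hAk
  obtain ⟨x, hx, hxa⟩ := hc A k hk hA hAk
  refine ⟨1, ![1, x], rfl, ?_, ?_, ?_⟩
  · intro i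
    refine ⟨W, rfl, ?_⟩
    have : i = 0 := Subsingleton.elim _ _
    subst this
    simpa using hx
  · intro i
    fin_cases i
    · simpa using hA
    · rintro _ ⟨a, ha, rfl⟩
      show x * a * x⁻¹ ∈ _
      rw [hxa a ha]
      exact hAk ⟨a, ha, rfl⟩
  · intro a ha
    exact hxa a ha

lemma controls_of_family_singleton {p : ℕ} {W : Subgroup G → Subgroup G} {H : Subgroup G}
    (h : FamilyControlsStrongFusionIn p {W} H) : ControlsStrongFusionIn p W H := by
  obtain ⟨T, hTH, hT, hidx, hc⟩ := h
  refine ⟨T, hTH, hT, hidx, ?_⟩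
  intro A k hk hA hAk
  obtain ⟨n, c, h0, hstep, _, hlast⟩ := hc A k hk hA hAk
  refine ⟨c (Fin.last n), ?_, hlast⟩
  have : ∀ i : Fin (n + 1), c i ∈ H ⊓ Subgroup.normalizer ((W T : Subgroup G) : Set G) := by
    intro i
    induction i using Fin.induction with
    | zero => rw [h0]; exact one_mem _
    | succ i ih =>
      obtain ⟨W', hW', hs⟩ := hstep i
      rw [Set.mem_singleton_iff] at hW'
      subst hW'
      have := mul_mem hs ih
      rwa [inv_mul_cancel_right] at this
  exact this _

end Cfsg.Agent.H12
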