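import Mathlib

set_option autoImplicit false

namespace Cfsg.Agent.H12.Dk

open Subgroup

variable {G : Type*} [Group G]

/-- commutative transitivity: centralizers of noncentral elements are abelian -/
def CT (G : Type*) [Group G] : Prop :=
  ∀ x : G, x ∉ center G → ∀ a b : G, Commute a x → Commute b x → Commute a b

/-- the centralizer of an element -/
abbrev cen (x : G) : Subgroup G := centralizer ({x} : Set G)

lemma mem_cen {x g : G} : g ∈ cen x ↔ Commute g x := by
  rw [mem_centralizer_singleton_iff]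
  exact ⟨fun h => h, fun h => h⟩

lemma self_mem_cen (x : G) : x ∈ cen x := mem_cen.mpr (Commute.refl x)

lemma center_le_cen (x : G) : center G ≤ cen x := by
  intro g hg
  rw [mem_cen]
  exact (mem_center_iff.mp hg x).symm

lemma cen_eq (h : CT G) {x y : G} (hx : x ∉ center G) (hy : y ∉ center G) (hxy : Commute x y) : cen x = cen y := by
  ext g
  rw [mem_cen, mem_cen]
  exact ⟨fun hg => h x hx g y hg hxy.symm, fun hg => h y hy g x hg hxy⟩

lemma conj_mem_center_iff {g k : G} : k⁻¹ * g * k ∈ center G ↔ g ∈ center G := by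
  constructor
  · intro h
    have := (inferInstance : (center G).Normal).conj_mem _ h k
    simpa [mul_assoc] using this
  · intro h
    have := (inferInstance : (center G).Normal).conj_mem _ h k⁻¹
    simpa [mul_assoc] using this

lemma mem_cen_conj {x g k : G} : g ∈ cen (k * x * k⁻¹) ↔ k⁻¹ * g * k ∈ cen x := by
  rw [mem_cen, mem_cen]
  constructor
  · intro h
    have h1 : g * (k * x * k⁻¹) = (k * x * k⁻¹) * g := h
    change k⁻¹ * g * k * x = x * (k⁻¹ * g * k)
    calc k⁻¹ * g * k * x = k⁻¹ * (g * (k * x * k⁻¹)) * k := by group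
      _ = k⁻¹ * ((k * x * k⁻¹) * g) * k := by rw [h1]
      _ = x * (k⁻¹ * g * k) := by group
  · intro h
    have h1 : k⁻¹ * g * k * x = x * (k⁻¹ * g * k) := h
    change g * (k * x * k⁻¹) = (k * x * k⁻¹) * g
    calc g * (k * x * k⁻¹) = k * (k⁻¹ * g * k * x) * k⁻¹ := by group
      _ = k * (x * (k⁻¹ * g * k)) * k⁻¹ := by rw [h1]
      _ = (k * x * k⁻¹) * g := by group

/-- the noncentral elements conjugate into the centralizer of `x` -/
def cls (x : G) : Set G := {g | g ∉ center G ∧ ∃ k : G, k⁻¹ * g * k ∈ cen x}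

lemma self_mem_cls {x : G} (hx : x ∉ center G) : x ∈ cls x := ⟨hx, 1, by simpa using self_mem_cen x⟩

lemma mem_normalizer_cen_of (h : CT G) {x c k : G} (hx : x ∉ center G) (hc : c ∈ cen x) (hcz : c ∉ center G)
    (hk : k * c * k⁻¹ ∈ cen x) : k ∈ normalizer (cen x : Set G) := by
  have e1 : cen c = cen x := cen_eq h hcz hx (mem_cen.mp hc)
  have hkz : k * c * k⁻¹ ∉ center G := by
    intro h1
    apply hcz
    have := (conj_mem_center_iff (g := c) (k := k⁻¹)).mp (by simpa using h1)
    exact this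
  have e2 : cen (k * c * k⁻¹) = cen x := cen_eq h hkz hx (mem_cen.mp hk)
  rw [mem_normalizer_iff]
  intro g
  have h3 : k * g * k⁻¹ ∈ cen (k * c * k⁻¹) ↔ g ∈ cen c := by
    rw [mem_cen_conj]
    have : k⁻¹ * (k * g * k⁻¹) * k = g := by group
    rw [this]
  rw [e2, e1] at h3
  exact h3.symm

lemma disjoint_cls (h : CT G) {x y : G} (hx : x ∉ center G) (hy : y ∉ center G) (hyx : y ∉ cls x) :
    Disjoint (cls x) (cls y) := by
  rw [Set.disjoint_left]
  rintro g ⟨hg, k, hk⟩ ⟨-, k', hk'⟩
  apply hyx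
  refine ⟨hy, k'⁻¹ * k, ?_⟩
  have hz1 : k⁻¹ * g * k ∉ center G := fun h1 => hg (conj_mem_center_iff.mp h1)
  have hz2 : k'⁻¹ * g * k' ∉ center G := fun h1 => hg (conj_mem_center_iff.mp h1)
  have e1 : cen (k⁻¹ * g * k) = cen x := cen_eq h hz1 hx (mem_cen.mp hk)
  have e2 : cen (k'⁻¹ * g * k') = cen y := cen_eq h hz2 hy (mem_cen.mp hk')
  have h3 : y ∈ cen (k'⁻¹ * g * k') := by rw [e2]; exact self_mem_cen y
  rw [← e1]
  have e3 : k⁻¹ * g * k = (k'⁻¹ * k)⁻¹ * (k'⁻¹ * g * k') * (k'⁻¹ * k)⁻¹⁻¹ := by group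
  rw [e3, mem_cen_conj]
  have e4 : (k'⁻¹ * k)⁻¹⁻¹ * ((k'⁻¹ * k)⁻¹ * y * (k'⁻¹ * k)) * (k'⁻¹ * k)⁻¹ = y := by group
  rw [e4]
  exact h3

variable [Finite G]

/-- the counting formula for a class of centralizers -/
theorem card_cls (h : CT G) {x : G} (hx : x ∉ center G) :
    (cls x).ncard * Nat.card (normalizer (cen x : Set G)) =
      Nat.card G * (Nat.card (cen x) - Nat.card (center G)) := by
  classical
  set C := cen x with hC
  set N := normalizer (C : Set G) with hN
  have hch : ∀ g : cls x, ∃ k : G, k⁻¹ * (g : G) * k ∈ C := fun g => g.2.2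
  choose kk hkk using hch
  let D : Set G := {c | c ∈ C ∧ c ∉ center G}
  have hDcard : D.ncard = Nat.card C - Nat.card (center G) := by
    have e : D = (C : Set G) \ (center G : Set G) := rfl
    rw [e, Set.ncard_sdiff (center_le_cen x) (Set.toFinite _)]
    rfl
  let e : (cls x) × N ≃ G × D :=
    { toFun := fun gn => (kk gn.1 * gn.2, ⟨(kk gn.1 * gn.2)⁻¹ * (gn.1 : G) * (kk gn.1 * gn.2), by
        constructor
        · have h1 := (mem_normalizer_iff.mp (inv_mem gn.2.2) _).mp (hkk gn.1)
          have e1 : (kk gn.1 * gn.2)⁻¹ * (gn.1 : G) * (kk gn.1 * gn.2) =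
              (gn.2 : G)⁻¹ * ((kk gn.1)⁻¹ * (gn.1 : G) * kk gn.1) * (gn.2 : G)⁻¹⁻¹ := by group
          rw [e1]; exact h1
        · intro h1
          exact gn.1.2.1 (conj_mem_center_iff.mp h1)⟩)
      invFun := fun kc =>
        let g : cls x := ⟨kc.1 * kc.2 * kc.1⁻¹, by
          refine ⟨?_, kc.1, ?_⟩
          · intro h1
            apply kc.2.2.2
            have := (conj_mem_center_iff (g := (kc.2 : G)) (k := kc.1⁻¹)).mp (by simpa using h1)
            exact this
          · have : kc.1⁻¹ * (kc.1 * kc.2 * kc.1⁻¹) * kc.1 = kc.2 := by group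
            rw [this]; exact kc.2.2.1⟩
        (g, ⟨(kk g)⁻¹ * kc.1, by
          apply mem_normalizer_cen_of h hx kc.2.2.1 kc.2.2.2
          have h1 := hkk g
          have e1 : (kk g)⁻¹ * kc.1 * (kc.2 : G) * ((kk g)⁻¹ * kc.1)⁻¹ = (kk g)⁻¹ * (kc.1 * kc.2 * kc.1⁻¹) * kk g := by
            group
          rw [e1]; exact h1⟩)
      left_inv := by
        rintro ⟨g, n⟩
        have e1 : (⟨(kk g * n) * ((kk g * n)⁻¹ * (g : G) * (kk g * n)) * (kk g * n)⁻¹, by
            have : (kk g * n) * ((kk g * n)⁻¹ * (g : G) * (kk g * n)) * (kk g * n)⁻¹ = g := by group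
            rw [this]; exact g.2⟩ : cls x) = g := by
          apply Subtype.ext
          simp only
          group
        simp only
        rw [Prod.mk.injEq]
        refine ⟨e1, ?_⟩
        apply Subtype.ext
        simp only
        rw [e1]
        group
      right_inv := by
        rintro ⟨k, c⟩
        simp only
        rw [Prod.mk.injEq]
        constructor
        · group
        · apply Subtype.ext
          simp only
          group }
  have h1 := Nat.card_congr e
  rw [Nat.card_prod, Nat.card_prod] at h1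
  rw [← hDcard]
  exact h1

end Cfsg.Agent.H12.Dk
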