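import Mathlib
import Cfsg.Agent.H12.Dk1

set_option autoImplicit false

namespace Cfsg.Agent.H12.Dk

open Subgroup

/-- the Diophantine end of the class equation -/
lemma dioph {q κ n m : ℕ} (hq3 : 3 ≤ q) (hodd : Odd q) (hκ2 : 2 ≤ κ) (hκ : κ + 1 ≤ q) (hn : q + 1 ≤ n) (hm : 2 ≤ m)
    (h : q * κ * n = m * (n * (q - 2) + 2)) : n = q + 1 ∨ (q = 3 ∧ κ = 2 ∧ n = 10 ∧ m = 5) := by
  obtain ⟨r, rfl⟩ : ∃ r, q = r + 2 := ⟨q - 2, by omega⟩
  simp only [Nat.add_sub_cancel] at h
  have hr1 : 1 ≤ r := by omega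
  -- work in ℤ
  have hZ : ((r : ℤ) + 2) * κ * n = m * (n * r + 2) := by exact_mod_cast h
  set δ : ℤ := ((r : ℤ) + 2) * κ - m * r with hδ
  have h1 : (n : ℤ) * δ = 2 * m := by rw [hδ]; linarith
  have hnpos : (0 : ℤ) < n := by have : 0 < n := by omega
                                 exact_mod_cast this
  have hmpos : (0 : ℤ) < m := by have : 0 < m := by omega
                                 exact_mod_cast this
  have hδpos : 0 < δ := by
    by_contra hcon
    push Not at hcon
    have : (n : ℤ) * δ ≤ 0 := mul_nonpos_of_nonneg_of_nonpos hnpos.le hcon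
    linarith
  have h2 : 2 * ((r : ℤ) + 2) * κ = δ * (2 + n * r) := by
    have : 2 * ((r : ℤ) + 2) * κ = 2 * δ + (2 * m) * r := by rw [hδ]; ring
    rw [this, ← h1]; ring
  have hrZ : (1 : ℤ) ≤ r := by exact_mod_cast hr1
  have hnZ : (r : ℤ) + 3 ≤ n := by exact_mod_cast hn
  have hκZ : (κ : ℤ) ≤ r + 1 := by have : κ ≤ r + 1 := by omega
                                   exact_mod_cast this
  have hκ2Z : (2 : ℤ) ≤ κ := by exact_mod_cast hκ2
  have hD : ((r : ℤ) + 2) * (r + 1) ≤ 2 + n * r := by nlinarith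
  have hδ2 : δ ≤ 2 := by
    by_contra hcon
    push Not at hcon
    have h3 : 3 * (2 + (n : ℤ) * r) ≤ δ * (2 + n * r) := by
      apply mul_le_mul_of_nonneg_right (by linarith) (by nlinarith)
    have h4 : 2 * ((r : ℤ) + 2) * κ ≤ 2 * ((r + 2) * (r + 1)) := by nlinarith
    nlinarith
  have hcases : δ = 1 ∨ δ = 2 := by omega
  rcases hcases with hd | hd
  · -- δ = 1
    rw [hd] at h1 h2
    -- 2 (r+2) κ = 2 + n r
    obtain ⟨j, hj⟩ := hodd
    -- r + 2 = 2 j + 1, r = 2j - 1
    have hdvd : ((r : ℤ) + 2) ∣ 2 * ((n : ℤ) - 1) := by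
      refine ⟨(n : ℤ) - 2 * κ, ?_⟩
      linarith
    have hcop : IsCoprime ((r : ℤ) + 2) 2 := by
      refine ⟨1, -(j : ℤ), ?_⟩
      have : (r : ℤ) + 2 = 2 * j + 1 := by exact_mod_cast hj
      rw [this]; ring
    obtain ⟨k, hk⟩ := hcop.dvd_of_dvd_mul_left hdvd
    have hkpos : 1 ≤ k := by
      by_contra hcon
      push Not at hcon
      have : ((r : ℤ) + 2) * k ≤ 0 := mul_nonpos_of_nonneg_of_nonpos (by linarith) (by linarith)
      linarith
    have hn' : (n : ℤ) = 1 + (r + 2) * k := by linarith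
    have h5 : 2 * (κ : ℤ) = 1 + k * r := by
      have h6 : ((r : ℤ) + 2) * (2 * κ) = (r + 2) * (1 + k * r) := by
        rw [hn'] at h2; linarith
      exact mul_left_cancel₀ (by linarith) h6
    have hk3 : k ≤ 3 := by
      by_contra hcon
      push Not at hcon
      nlinarith
    have hk' : k = 1 ∨ k = 2 ∨ k = 3 := by omega
    rcases hk' with rfl | rfl | rfl
    · left
      have : (n : ℤ) = r + 3 := by rw [hn']; ring
      omega
    · omega
    · right
      have hr : (r : ℤ) = 1 := by nlinarith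
      have hκ' : (κ : ℤ) = 2 := by rw [hr] at h5; linarith
      have hn'' : (n : ℤ) = 10 := by rw [hn', hr]; norm_num
      have hm' : (m : ℤ) = 5 := by rw [hn''] at h1; linarith
      refine ⟨by omega, by omega, by omega, by omega⟩
  · left
    rw [hd] at h2
    have h6 : ((r : ℤ) + 2) * κ = 2 + n * r := by linarith
    have h7 : (n : ℤ) * r ≤ (r + 3) * r := by nlinarith
    have h8 : (n : ℤ) ≤ r + 3 := le_of_mul_le_mul_right h7 (by linarith)
    omega

variable {G : Type*} [Group G] [Finite G]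

lemma cls_subset (x : G) : cls x ⊆ (center G : Set G)ᶜ := fun _ hg => hg.1

lemma ncard_nc : ((center G : Set G)ᶜ).ncard = Nat.card G - Nat.card (center G) := by
  rw [Set.ncard_compl]
  rfl

lemma exists_card_cen {y : G} (hy : y ∉ center G) :
    ∃ m : ℕ, 2 ≤ m ∧ Nat.card (cen y) = Nat.card (center G) * m := by
  obtain ⟨m, hm⟩ := Subgroup.card_dvd_of_le (center_le_cen y)
  refine ⟨m, ?_, hm⟩
  have hlt : Nat.card (center G) < Nat.card (cen y) := by
    have h1 : (center G : Set G) ⊂ (cen y : Set G) := by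
      refine ⟨center_le_cen y, fun h => hy (h (self_mem_cen y))⟩
    exact Set.ncard_lt_ncard h1 (Set.toFinite _)
  rw [hm] at hlt
  by_contra hcon
  have : m ≤ 1 := by omega
  have h2 : Nat.card (center G) * m ≤ Nat.card (center G) * 1 := Nat.mul_le_mul_left _ this
  omega

/-- normalized size of a class -/
lemma norm_cls (h : CT G) {y : G} (hy : y ∉ center G) {g m ε : ℕ}
    (hG : Nat.card G = Nat.card (center G) * g) (hm : 1 ≤ m)
    (hC : Nat.card (cen y) = Nat.card (center G) * m)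
    (hN : Nat.card (normalizer (cen y : Set G)) = ε * Nat.card (cen y)) :
    ∃ Y : ℚ, ((cls y).ncard : ℚ) = Nat.card (center G) * Y ∧ Y * ε * m = g * (m - 1) := by
  have hz : 0 < Nat.card (center G) := Nat.card_pos
  set z := Nat.card (center G) with hzdef
  have h1 := card_cls h hy
  rw [hN, hC, hG] at h1
  obtain ⟨m', rfl⟩ : ∃ m', m = m' + 1 := ⟨m - 1, by omega⟩
  have e : z * (m' + 1) - z = z * m' := by
    rw [Nat.mul_succ]; omega
  rw [← hzdef, e] at h1
  have hzQ : (0 : ℚ) < z := by exact_mod_cast hz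
  have h2 : ((cls y).ncard : ℚ) * (ε * (z * (m' + 1))) = z * g * (z * m') := by exact_mod_cast h1
  refine ⟨((cls y).ncard : ℚ) / z, by field_simp, ?_⟩
  have h3 : ((cls y).ncard : ℚ) * ε * (m' + 1) = z * (g * m') := by
    have : z * (((cls y).ncard : ℚ) * ε * (m' + 1)) = z * (z * (g * m')) := by linarith
    exact mul_left_cancel₀ hzQ.ne' this
  push_cast
  field_simp
  linarith

lemma Y_ge_quarter {Y g : ℚ} {m ε : ℕ} (hg : 0 ≤ g) (hm : 2 ≤ m) (hε : ε = 1 ∨ ε = 2) (h : Y * ε * m = g * (m - 1)) :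
    g / 4 ≤ Y := by
  have hmQ : (2 : ℚ) ≤ m := by exact_mod_cast hm
  rcases hε with rfl | rfl
  · push_cast at h
    by_contra hcon
    push Not at hcon
    nlinarith
  · push_cast at h
    by_contra hcon
    push Not at hcon
    nlinarith

lemma Y_ge_half {Y g : ℚ} {m : ℕ} (hg : 0 ≤ g) (hm : 2 ≤ m) (h : Y * (1 : ℕ) * m = g * (m - 1)) :
    g / 2 ≤ Y := by
  have hmQ : (2 : ℚ) ≤ m := by exact_mod_cast hm
  push_cast at h
  by_contra hcon
  push Not at hcon
  nlinarith

end Cfsg.Agent.H12.Dk
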