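import Mathlib
import Cfsg.Agent.H12.Dk2

set_option autoImplicit false

namespace Cfsg.Agent.H12.Dk

open Subgroup

variable {G : Type*} [Group G] [Finite G]

lemma total_le {S : Set G} (hS : S ⊆ (center G : Set G)ᶜ) {g : ℕ} (hG : Nat.card G = Nat.card (center G) * g)
    (hg : 1 ≤ g) : (S.ncard : ℚ) ≤ Nat.card (center G) * ((g : ℚ) - 1) := by
  have h1 := Set.ncard_le_ncard hS (Set.toFinite _)
  rw [ncard_nc, hG] at h1
  obtain ⟨g', rfl⟩ : ∃ g', g = g' + 1 := ⟨g - 1, by omega⟩
  have e : Nat.card (center G) * (g' + 1) - Nat.card (center G) = Nat.card (center G) * g' := by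
    rw [Nat.mul_succ]; omega
  rw [e] at h1
  have : (S.ncard : ℚ) ≤ Nat.card (center G) * g' := by exact_mod_cast h1
  push_cast
  linarith

lemma total_eq {S : Set G} (hS : S = (center G : Set G)ᶜ) {g : ℕ} (hG : Nat.card G = Nat.card (center G) * g)
    (hg : 1 ≤ g) : (S.ncard : ℚ) = Nat.card (center G) * ((g : ℚ) - 1) := by
  rw [hS, ncard_nc, hG]
  obtain ⟨g', rfl⟩ : ∃ g', g = g' + 1 := ⟨g - 1, by omega⟩
  have e : Nat.card (center G) * (g' + 1) - Nat.card (center G) = Nat.card (center G) * g' := by
    rw [Nat.mul_succ]; omega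
  rw [e]
  push_cast
  ring

lemma cover_or {S : Set G} (hS : S ⊆ (center G : Set G)ᶜ) :
    S = (center G : Set G)ᶜ ∨ ∃ y, y ∉ center G ∧ y ∉ S := by
  by_cases h : ∃ y, y ∉ center G ∧ y ∉ S
  · exact Or.inr h
  · left
    push Not at h
    exact Set.Subset.antisymm hS (fun y hy => h y hy)

lemma ncard_union_cls {S : Set G} {y : G} (hd : Disjoint S (cls y)) :
    ((S ∪ cls y).ncard : ℚ) = S.ncard + (cls y).ncard := by
  rw [Set.ncard_union_eq hd (Set.toFinite _) (Set.toFinite _)]
  push_cast
  rfl

set_option maxHeartbeats 3200000 in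
theorem class_equation (h : CT G) {a h0 : G} (ha : a ∉ center G) {q κ n : ℕ}
    (hCa : Nat.card (cen a) = Nat.card (center G) * q)
    (hM : Nat.card (normalizer (cen a : Set G)) = κ * Nat.card (cen a))
    (hG : Nat.card G = Nat.card (center G) * (q * κ * n))
    (hq3 : 3 ≤ q) (hodd : Odd q) (hκ1 : 1 ≤ κ) (hκ : κ + 1 ≤ q) (hn : q + 1 ≤ n)
    (H2 : ∀ y, y ∉ center G → y ∉ cls a → Nat.card (normalizer (cen y : Set G)) = 1 * Nat.card (cen y) ∨
      Nat.card (normalizer (cen y : Set G)) = 2 * Nat.card (cen y))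
    (H3 : 2 ≤ κ → h0 ∉ center G ∧ h0 ∉ cls a ∧ Nat.card (cen h0) = Nat.card (center G) * κ) :
    n = q + 1 ∨ (q = 3 ∧ κ = 2 ∧ n = 10 ∧ Nat.card (normalizer (cen h0 : Set G)) = 2 * Nat.card (cen h0) ∧
      ∃ y, y ∉ center G ∧ Nat.card (cen y) = Nat.card (center G) * 5 ∧
        ∀ g, g ∉ center G → g ∈ cls a ∨ g ∈ cls h0 ∨ g ∈ cls y) := by
  have hz : 0 < Nat.card (center G) := Nat.card_pos
  obtain ⟨z, hzdef⟩ : ∃ z, z = Nat.card (center G) := ⟨_, rfl⟩
  have norm_cls' := @norm_cls G _ _ h
  have total_le' := @total_le G _ _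
  have total_eq' := @total_eq G _ _
  have exists_card_cen' := @exists_card_cen G _ _
  rw [← hzdef] at hz hCa hG H3 norm_cls' total_le' total_eq' exists_card_cen' ⊢
  have hzQ : (0 : ℚ) < z := by exact_mod_cast hz
  have hqQ : (3 : ℚ) ≤ q := by exact_mod_cast hq3
  have hκQ : (1 : ℚ) ≤ κ := by exact_mod_cast hκ1
  have hκqQ : (κ : ℚ) + 1 ≤ q := by exact_mod_cast hκ
  have hnQ : (q : ℚ) + 1 ≤ n := by exact_mod_cast hn
  have hg1 : 1 ≤ q * κ * n := Nat.mul_pos (Nat.mul_pos (by omega) (by omega)) (by omega)
  obtain ⟨g, hgdef⟩ : ∃ g, g = q * κ * n := ⟨_, rfl⟩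
  rw [← hgdef] at hG hg1
  have hgQ : (g : ℚ) = q * κ * n := by rw [hgdef]; push_cast; ring
  have hg0 : (0 : ℚ) ≤ g := by positivity
  obtain ⟨Ya, hYa1, hYa2⟩ := norm_cls' ha hG (m := q) (ε := κ) (by omega) hCa hM
  have hYa : Ya = n * (q - 1) := by
    have h1 : (κ * q : ℚ) * Ya = (κ * q) * (n * (q - 1)) := by rw [hgQ] at hYa2; linarith
    exact mul_left_cancel₀ (by positivity) h1
  -- general facts about a further class
  have further : ∀ y, y ∉ center G → y ∉ cls a → ∃ (m ε : ℕ) (Y : ℚ), 2 ≤ m ∧ (ε = 1 ∨ ε = 2) ∧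
      Nat.card (cen y) = z * m ∧ Nat.card (normalizer (cen y : Set G)) = ε * Nat.card (cen y) ∧
      ((cls y).ncard : ℚ) = z * Y ∧ Y * ε * m = g * (m - 1) := by
    intro y hy hya
    obtain ⟨m, hm, hC⟩ := exists_card_cen' hy
    rcases H2 y hy hya with hN | hN
    · obtain ⟨Y, h1, h2⟩ := norm_cls' hy hG (m := m) (ε := 1) (by omega) hC hN
      exact ⟨m, 1, Y, hm, Or.inl rfl, hC, hN, h1, h2⟩
    · obtain ⟨Y, h1, h2⟩ := norm_cls' hy hG (m := m) (ε := 2) (by omega) hC hN
      exact ⟨m, 2, Y, hm, Or.inr rfl, hC, hN, h1, h2⟩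
  have hS1 : cls a ⊆ (center G : Set G)ᶜ := cls_subset a
  by_cases hκ2 : 2 ≤ κ
  · obtain ⟨hh0, hh0a, hCh⟩ := H3 hκ2
    have hκ2Q : (2 : ℚ) ≤ κ := by exact_mod_cast hκ2
    have hn0 : (0 : ℚ) < n := by linarith
    have hqκ : (2 : ℚ) * q ≤ q * κ := by nlinarith
    have hqκn : (2 : ℚ) * q * n ≤ q * κ * n := mul_le_mul_of_nonneg_right hqκ hn0.le
    have hqn : (3 : ℚ) * n ≤ q * n := mul_le_mul_of_nonneg_right hqQ hn0.le
    have hd12 : Disjoint (cls a) (cls h0) := disjoint_cls h ha hh0 hh0a
    have hS2 : cls a ∪ cls h0 ⊆ (center G : Set G)ᶜ := Set.union_subset hS1 (cls_subset h0)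
    have hc2 := ncard_union_cls hd12
    rcases H2 h0 hh0 hh0a with hN | hN
    · exfalso
      obtain ⟨Yh, hYh1, hYh2⟩ := norm_cls' hh0 hG (m := κ) (ε := 1) (by omega) hCh hN
      have hYh : Yh = q * n * (κ - 1) := by
        have h1 : (κ : ℚ) * Yh = κ * (q * n * (κ - 1)) := by
          rw [hgQ] at hYh2; push_cast at hYh2; linarith
        exact mul_left_cancel₀ (by positivity) h1
      rcases cover_or hS2 with hcov | ⟨y, hy, hyS⟩
      · have h1 := total_eq' hcov hG hg1
        rw [hc2, hYa1, hYh1, ← mul_add] at h1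
        have h2 := mul_left_cancel₀ hzQ.ne' h1
        rw [hYa, hYh, hgQ] at h2
        nlinarith
      · have hya : y ∉ cls a := fun h1 => hyS (Or.inl h1)
        have hyh : y ∉ cls h0 := fun h1 => hyS (Or.inr h1)
        obtain ⟨m, ε, Y, hm, hε, -, -, hY1, hY2⟩ := further y hy hya
        have hd : Disjoint (cls a ∪ cls h0) (cls y) :=
          Set.disjoint_union_left.mpr ⟨disjoint_cls h ha hy hya, disjoint_cls h hh0 hy hyh⟩
        have h1 := total_le' (Set.union_subset hS2 (cls_subset y)) hG hg1
        rw [ncard_union_cls hd, hc2, hYa1, hYh1, hY1, ← mul_add, ← mul_add] at h1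
        have h2 := le_of_mul_le_mul_left h1 hzQ
        have h3 := Y_ge_quarter hg0 hm hε hY2
        rw [hYa, hYh] at h2
        rw [hgQ] at h2 h3
        nlinarith
    · obtain ⟨Yh, hYh1, hYh2⟩ := norm_cls' hh0 hG (m := κ) (ε := 2) (by omega) hCh hN
      have hYh : 2 * Yh = q * n * (κ - 1) := by
        have h1 : (κ : ℚ) * (2 * Yh) = κ * (q * n * (κ - 1)) := by
          rw [hgQ] at hYh2; push_cast at hYh2; linarith
        exact mul_left_cancel₀ (by positivity) h1
      rcases cover_or hS2 with hcov | ⟨y, hy, hyS⟩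
      · exfalso
        have h1 := total_eq' hcov hG hg1
        rw [hc2, hYa1, hYh1, ← mul_add] at h1
        have h2 := mul_left_cancel₀ hzQ.ne' h1
        rw [hYa, hgQ] at h2
        nlinarith
      · have hya : y ∉ cls a := fun h1 => hyS (Or.inl h1)
        have hyh : y ∉ cls h0 := fun h1 => hyS (Or.inr h1)
        obtain ⟨m, ε, Y, hm, hε, hCy, -, hY1, hY2⟩ := further y hy hya
        have hmQ : (2 : ℚ) ≤ m := by exact_mod_cast hm
        have hd : Disjoint (cls a ∪ cls h0) (cls y) :=
          Set.disjoint_union_left.mpr ⟨disjoint_cls h ha hy hya, disjoint_cls h hh0 hy hyh⟩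
        have hS3 := (Set.union_subset hS2 (cls_subset y))
        have hc3 := ncard_union_cls hd
        have h1 := total_le' hS3 hG hg1
        rw [hc3, hc2, hYa1, hYh1, hY1, ← mul_add, ← mul_add] at h1
        have h2 := le_of_mul_le_mul_left h1 hzQ
        rcases hε with rfl | rfl
        · exfalso
          have h3 := Y_ge_half hg0 hm hY2
          rw [hYa] at h2
          rw [hgQ] at h2 h3
          nlinarith
        · push_cast at hY2
          rcases cover_or hS3 with hcov | ⟨y', hy', hyS'⟩
          · have h4 := total_eq' hcov hG hg1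
            rw [hc3, hc2, hYa1, hYh1, hY1, ← mul_add, ← mul_add] at h4
            have h5 := mul_left_cancel₀ hzQ.ne' h4
            rw [hYa] at h5
            -- derive the Diophantine equation
            have h6 : (q : ℚ) * κ * n = m * (n * (q - 2) + 2) := by
              have h7 : 2 * Y = 2 * (g - 1) - 2 * (n * (q - 1)) - q * n * (κ - 1) := by linarith
              have h8 : (2 * Y) * m = g * (m - 1) := by linarith
              rw [h7, hgQ] at h8
              linarith
            have h9 : q * κ * n = m * (n * (q - 2) + 2) := by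
              obtain ⟨r, rfl⟩ : ∃ r, q = r + 2 := ⟨q - 2, by omega⟩
              simp only [Nat.add_sub_cancel]
              push_cast at h6
              have : ((r : ℚ) + 2) * κ * n = m * (n * r + 2) := by
                rw [h6]; ring
              exact_mod_cast this
            rcases dioph hq3 hodd hκ2 hκ hn hm h9 with h10 | ⟨h10, h11, h12, h13⟩
            · exact Or.inl h10
            · right
              refine ⟨h10, h11, h12, hN, y, hy, by rw [hCy, h13], ?_⟩
              intro g' hg'
              have : g' ∈ cls a ∪ cls h0 ∪ cls y := by rw [hcov]; exact hg'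
              rcases this with (h14 | h14) | h14
              · exact Or.inl h14
              · exact Or.inr (Or.inl h14)
              · exact Or.inr (Or.inr h14)
          · exfalso
            have hya' : y' ∉ cls a := fun h1 => hyS' (Or.inl (Or.inl h1))
            have hyh' : y' ∉ cls h0 := fun h1 => hyS' (Or.inl (Or.inr h1))
            have hyy' : y' ∉ cls y := fun h1 => hyS' (Or.inr h1)
            obtain ⟨m', ε', Y', hm', hε', -, -, hY1', hY2'⟩ := further y' hy' hya'
            have hd' : Disjoint (cls a ∪ cls h0 ∪ cls y) (cls y') :=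
              Set.disjoint_union_left.mpr ⟨Set.disjoint_union_left.mpr
                ⟨disjoint_cls h ha hy' hya', disjoint_cls h hh0 hy' hyh'⟩, disjoint_cls h hy hy' hyy'⟩
            have h4 := total_le' (Set.union_subset hS3 (cls_subset y')) hG hg1
            rw [ncard_union_cls hd', hc3, hc2, hYa1, hYh1, hY1, hY1', ← mul_add, ← mul_add, ← mul_add] at h4
            have h5 := le_of_mul_le_mul_left h4 hzQ
            have h6 := Y_ge_quarter hg0 hm' hε' hY2'
            have h7 : g / 4 ≤ Y := Y_ge_quarter hg0 hm (Or.inr rfl) (by push_cast; linarith)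
            rw [hYa] at h5
            rw [hgQ] at h5 h6 h7
            nlinarith
  · have hκe : κ = 1 := by omega
    subst hκe
    left
    have hgQ' : (g : ℚ) = q * n := by rw [hgQ]; push_cast; ring
    rcases cover_or hS1 with hcov | ⟨y, hy, hya⟩
    · exfalso
      have h1 := total_eq' hcov hG hg1
      rw [hYa1] at h1
      have h2 := mul_left_cancel₀ hzQ.ne' h1
      rw [hYa, hgQ'] at h2
      nlinarith
    · obtain ⟨m, ε, Y, hm, hε, hCy, -, hY1, hY2⟩ := further y hy hya
      have hmQ : (2 : ℚ) ≤ m := by exact_mod_cast hm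
      have hd : Disjoint (cls a) (cls y) := disjoint_cls h ha hy hya
      have hS2 := (Set.union_subset hS1 (cls_subset y))
      have hc2 := ncard_union_cls hd
      have h1 := total_le' hS2 hG hg1
      rw [hc2, hYa1, hY1, ← mul_add] at h1
      have h2 := le_of_mul_le_mul_left h1 hzQ
      rw [hYa, hgQ'] at h2
      have hYle : Y ≤ n - 1 := by linarith
      have h3 := Y_ge_quarter hg0 hm hε hY2
      rw [hgQ'] at h3
      have hq4 : (q : ℚ) < 4 := by
        by_contra hcon
        push Not at hcon
        nlinarith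
      have hq : q = 3 := by
        have : q < 4 := by exact_mod_cast hq4
        omega
      subst hq
      push_cast at hgQ' h3 hnQ
      rcases hε with rfl | rfl
      · exfalso
        have h4 := Y_ge_half hg0 hm hY2
        rw [hgQ'] at h4
        linarith
      · push_cast at hY2
        rw [hgQ'] at hY2
        have hm3 : (m : ℚ) < 3 := by
          by_contra hcon
          push Not at hcon
          nlinarith
        have hm2 : m = 2 := by
          have : m < 3 := by exact_mod_cast hm3
          omega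
        subst hm2
        push_cast at hY2
        have hY : Y = 3 * n / 4 := by linarith
        rcases cover_or hS2 with hcov | ⟨y', hy', hyS'⟩
        · have h4 := total_eq' hcov hG hg1
          rw [hc2, hYa1, hY1, ← mul_add] at h4
          have h5 := mul_left_cancel₀ hzQ.ne' h4
          rw [hYa, hY, hgQ'] at h5
          push_cast at h5
          have : (n : ℚ) = 4 := by linarith
          exact_mod_cast this
        · exfalso
          have hya' : y' ∉ cls a := fun h1 => hyS' (Or.inl h1)
          have hyy' : y' ∉ cls y := fun h1 => hyS' (Or.inr h1)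
          obtain ⟨m', ε', Y', hm', hε', -, -, hY1', hY2'⟩ := further y' hy' hya'
          have hd' : Disjoint (cls a ∪ cls y) (cls y') :=
            Set.disjoint_union_left.mpr ⟨disjoint_cls h ha hy' hya', disjoint_cls h hy hy' hyy'⟩
          have h4 := total_le' (Set.union_subset hS2 (cls_subset y')) hG hg1
          rw [ncard_union_cls hd', hc2, hYa1, hY1, hY1', ← mul_add, ← mul_add] at h4
          have h5 := le_of_mul_le_mul_left h4 hzQ
          have h6 := Y_ge_quarter hg0 hm' hε' hY2'
          rw [hYa, hY] at h5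
          rw [hgQ'] at h5 h6
          push_cast at h5
          linarith

end Cfsg.Agent.H12.Dk
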