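import Mathlib

set_option autoImplicit false

namespace Cfsg.Agent.H12.Dk

open Matrix

variable {F : Type*} [Field F]

/-- entries of an element of `SL₂` -/
def e00 (g : SpecialLinearGroup (Fin 2) F) : F := g.1 0 0
def e01 (g : SpecialLinearGroup (Fin 2) F) : F := g.1 0 1
def e10 (g : SpecialLinearGroup (Fin 2) F) : F := g.1 1 0
def e11 (g : SpecialLinearGroup (Fin 2) F) : F := g.1 1 1

lemma sl_ext {g h : SpecialLinearGroup (Fin 2) F} (h00 : e00 g = e00 h) (h01 : e01 g = e01 h) (h10 : e10 g = e10 h)
    (h11 : e11 g = e11 h) : g = h := by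
  apply Subtype.ext
  ext i j
  fin_cases i <;> fin_cases j
  · exact h00
  · exact h01
  · exact h10
  · exact h11

lemma sl_det (g : SpecialLinearGroup (Fin 2) F) : e00 g * e11 g - e01 g * e10 g = 1 := by
  have := g.2
  rw [det_fin_two] at this
  exact this

@[simp] lemma e00_mul (g h : SpecialLinearGroup (Fin 2) F) : e00 (g * h) = e00 g * e00 h + e01 g * e10 h := by
  simp [e00, e01, e10, mul_apply, Fin.sum_univ_two]
@[simp] lemma e01_mul (g h : SpecialLinearGroup (Fin 2) F) : e01 (g * h) = e00 g * e01 h + e01 g * e11 h := by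
  simp [e00, e01, e11, mul_apply, Fin.sum_univ_two]
@[simp] lemma e10_mul (g h : SpecialLinearGroup (Fin 2) F) : e10 (g * h) = e10 g * e00 h + e11 g * e10 h := by
  simp [e00, e10, e11, mul_apply, Fin.sum_univ_two]
@[simp] lemma e11_mul (g h : SpecialLinearGroup (Fin 2) F) : e11 (g * h) = e10 g * e01 h + e11 g * e11 h := by
  simp [e01, e10, e11, mul_apply, Fin.sum_univ_two]

@[simp] lemma e00_inv (g : SpecialLinearGroup (Fin 2) F) : e00 g⁻¹ = e11 g := by
  simp [e00, e11, adjugate_fin_two]
@[simp] lemma e01_inv (g : SpecialLinearGroup (Fin 2) F) : e01 g⁻¹ = - e01 g := by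
  simp [e01, adjugate_fin_two]
@[simp] lemma e10_inv (g : SpecialLinearGroup (Fin 2) F) : e10 g⁻¹ = - e10 g := by
  simp [e10, adjugate_fin_two]
@[simp] lemma e11_inv (g : SpecialLinearGroup (Fin 2) F) : e11 g⁻¹ = e00 g := by
  simp [e00, e11, adjugate_fin_two]

@[simp] lemma e00_one : e00 (1 : SpecialLinearGroup (Fin 2) F) = 1 := by simp [e00]
@[simp] lemma e01_one : e01 (1 : SpecialLinearGroup (Fin 2) F) = 0 := by simp [e01]
@[simp] lemma e10_one : e10 (1 : SpecialLinearGroup (Fin 2) F) = 0 := by simp [e10]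
@[simp] lemma e11_one : e11 (1 : SpecialLinearGroup (Fin 2) F) = 1 := by simp [e11]

@[simp] lemma e00_neg (g : SpecialLinearGroup (Fin 2) F) : e00 (-g) = - e00 g := by simp [e00]
@[simp] lemma e01_neg (g : SpecialLinearGroup (Fin 2) F) : e01 (-g) = - e01 g := by simp [e01]
@[simp] lemma e10_neg (g : SpecialLinearGroup (Fin 2) F) : e10 (-g) = - e10 g := by simp [e10]
@[simp] lemma e11_neg (g : SpecialLinearGroup (Fin 2) F) : e11 (-g) = - e11 g := by simp [e11]

/-- upper unitriangular -/
def xx (s : F) : SpecialLinearGroup (Fin 2) F := ⟨!![1, s; 0, 1], by simp [det_fin_two]⟩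
/-- lower unitriangular -/
def yy (r : F) : SpecialLinearGroup (Fin 2) F := ⟨!![1, 0; r, 1], by simp [det_fin_two]⟩

@[simp] lemma e00_xx (s : F) : e00 (xx s) = 1 := by simp [e00, xx]
@[simp] lemma e01_xx (s : F) : e01 (xx s) = s := by simp [e01, xx]
@[simp] lemma e10_xx (s : F) : e10 (xx s) = 0 := by simp [e10, xx]
@[simp] lemma e11_xx (s : F) : e11 (xx s) = 1 := by simp [e11, xx]
@[simp] lemma e00_yy (s : F) : e00 (yy s) = 1 := by simp [e00, yy]
@[simp] lemma e01_yy (s : F) : e01 (yy s) = 0 := by simp [e01, yy]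
@[simp] lemma e10_yy (s : F) : e10 (yy s) = s := by simp [e10, yy]
@[simp] lemma e11_yy (s : F) : e11 (yy s) = 1 := by simp [e11, yy]

/-- scalar matrices -/
def IsSc (g : SpecialLinearGroup (Fin 2) F) : Prop := e01 g = 0 ∧ e10 g = 0 ∧ e00 g = e11 g

lemma commute_iff (g h : SpecialLinearGroup (Fin 2) F) : Commute g h ↔
    e01 g * e10 h = e01 h * e10 g ∧ e01 h * (e00 g - e11 g) = e01 g * (e00 h - e11 h) ∧
      e10 h * (e00 g - e11 g) = e10 g * (e00 h - e11 h) := by
  constructor
  · intro hc
    have h1 : g * h = h * g := hc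
    have a00 := congrArg e00 h1
    have a01 := congrArg e01 h1
    have a10 := congrArg e10 h1
    simp only [e00_mul, e01_mul, e10_mul] at a00 a01 a10
    refine ⟨by linear_combination a00, by linear_combination a01, by linear_combination (-1 : F) * a10⟩
  · rintro ⟨h1, h2, h3⟩
    apply sl_ext
    · simp only [e00_mul]; linear_combination h1
    · simp only [e01_mul]; linear_combination h2
    · simp only [e10_mul]; linear_combination (-1 : F) * h3
    · simp only [e11_mul]; linear_combination (-1 : F) * h1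

lemma IsSc.commute {g : SpecialLinearGroup (Fin 2) F} (hg : IsSc g) (h : SpecialLinearGroup (Fin 2) F) :
    Commute g h := by
  obtain ⟨h1, h2, h3⟩ := hg
  rw [commute_iff, h1, h2, h3]
  simp

/-- commutative transitivity in `SL₂` -/
lemma ct_sl {x a b : SpecialLinearGroup (Fin 2) F} (hx : ¬ IsSc x) (ha : Commute a x) (hb : Commute b x) :
    Commute a b := by
  obtain ⟨a1, a2, a3⟩ := (commute_iff a x).mp ha
  obtain ⟨b1, b2, b3⟩ := (commute_iff b x).mp hb
  rw [commute_iff]
  by_cases h01 : e01 x = 0
  · by_cases h10 : e10 x = 0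
    · have hd : e00 x - e11 x ≠ 0 := by
        intro h
        exact hx ⟨h01, h10, sub_eq_zero.mp h⟩
      rw [h01] at a2 b2
      rw [h10] at a3 b3
      have ha01 : e01 a = 0 := by
        have : e01 a * (e00 x - e11 x) = 0 := by linear_combination (-1 : F) * a2
        exact (mul_eq_zero.mp this).resolve_right hd
      have hb01 : e01 b = 0 := by
        have : e01 b * (e00 x - e11 x) = 0 := by linear_combination (-1 : F) * b2
        exact (mul_eq_zero.mp this).resolve_right hd
      have ha10 : e10 a = 0 := by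
        have : e10 a * (e00 x - e11 x) = 0 := by linear_combination (-1 : F) * a3
        exact (mul_eq_zero.mp this).resolve_right hd
      have hb10 : e10 b = 0 := by
        have : e10 b * (e00 x - e11 x) = 0 := by linear_combination (-1 : F) * b3
        exact (mul_eq_zero.mp this).resolve_right hd
      rw [ha01, hb01, ha10, hb10]
      simp
    · have G1 : e01 a * e10 b = e01 b * e10 a := by
        apply mul_left_cancel₀ h10
        linear_combination e10 b * a1 - e10 a * b1
      have G3 : e10 b * (e00 a - e11 a) = e10 a * (e00 b - e11 b) := by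
        apply mul_left_cancel₀ h10
        linear_combination e10 b * a3 - e10 a * b3
      refine ⟨G1, ?_, G3⟩
      apply mul_left_cancel₀ h10
      linear_combination (e00 a - e11 a) * b1 - (e00 b - e11 b) * a1 + e01 x * G3
  · have G1 : e01 a * e10 b = e01 b * e10 a := by
      apply mul_left_cancel₀ h01
      linear_combination (-e01 a) * b1 + e01 b * a1
    have G2 : e01 b * (e00 a - e11 a) = e01 a * (e00 b - e11 b) := by
      apply mul_left_cancel₀ h01
      linear_combination e01 b * a2 - e01 a * b2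
    refine ⟨G1, G2, ?_⟩
    apply mul_left_cancel₀ h01
    linear_combination (-(e00 a - e11 a)) * b1 + (e00 b - e11 b) * a1 + e10 x * G2

end Cfsg.Agent.H12.Dk
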