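import Mathlib
import Cfsg.Agent.H12.Dk4

set_option autoImplicit false
set_option linter.unusedSimpArgs false

namespace Cfsg.Agent.H12.Dk

open Matrix

variable {F : Type*} [Field F]

/-- the trace -/
def tr (g : SpecialLinearGroup (Fin 2) F) : F := e00 g + e11 g

lemma tr_conj (n h : SpecialLinearGroup (Fin 2) F) : tr (n * h * n⁻¹) = tr h := by
  unfold tr
  simp only [e00_mul, e01_mul, e10_mul, e11_mul, e00_inv, e01_inv, e10_inv, e11_inv]
  linear_combination (e00 h + e11 h) * sl_det n

lemma disc (g : SpecialLinearGroup (Fin 2) F) : (e00 g - e11 g) ^ 2 + 4 * (e01 g * e10 g) = tr g ^ 2 - 4 := by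
  unfold tr
  linear_combination (-4 : F) * sl_det g

lemma isSc_conj_iff (n h : SpecialLinearGroup (Fin 2) F) : IsSc (n * h * n⁻¹) ↔ IsSc h := by
  have key : ∀ n h : SpecialLinearGroup (Fin 2) F, IsSc h → IsSc (n * h * n⁻¹) := by
    intro n h hh
    have : n * h * n⁻¹ = h := by
      have := (hh.commute n).eq
      rw [← this]; group
    rw [this]; exact hh
  constructor
  · intro h1
    have := key n⁻¹ _ h1
    have e : n⁻¹ * (n * h * n⁻¹) * n⁻¹⁻¹ = h := by group
    rwa [e] at this
  · exact key n h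

/-- an element commuting with a semisimple `h`, with the same trace, is `h` or `h⁻¹` -/
lemma eq_or_eq_inv (h2 : (2 : F) ≠ 0) {g h : SpecialLinearGroup (Fin 2) F} (hc : Commute g h) (ht : tr g = tr h)
    (hd : tr h ^ 2 - 4 ≠ 0) : g = h ∨ g = h⁻¹ := by
  obtain ⟨c1, c2, c3⟩ := (commute_iff g h).mp hc
  have dg := disc g
  have dh := disc h
  rw [ht] at dg
  set Δ := tr h ^ 2 - 4 with hΔ
  have ht' : e00 g + e11 g = e00 h + e11 h := ht
  -- it suffices to find a sign
  have fin : ∀ ε : F, (ε = 1 ∨ ε = -1) → e01 g = ε * e01 h → e10 g = ε * e10 h →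
      e00 g - e11 g = ε * (e00 h - e11 h) → g = h ∨ g = h⁻¹ := by
    intro ε hε h01 h10 hl
    rcases hε with rfl | rfl
    · left
      apply sl_ext
      · apply mul_left_cancel₀ h2; linear_combination ht' + hl
      · rw [h01]; ring
      · rw [h10]; ring
      · apply mul_left_cancel₀ h2; linear_combination ht' - hl
    · right
      apply sl_ext
      · rw [e00_inv]; apply mul_left_cancel₀ h2; linear_combination ht' + hl
      · rw [e01_inv, h01]; ring
      · rw [e10_inv, h10]; ring
      · rw [e11_inv]; apply mul_left_cancel₀ h2; linear_combination ht' - hl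
  have sq : ∀ u v : F, u ^ 2 * Δ = v ^ 2 * Δ → u = 1 * v ∨ u = -1 * v := by
    intro u v huv
    have h1 : u ^ 2 = v ^ 2 := mul_right_cancel₀ hd huv
    rcases sq_eq_sq_iff_eq_or_eq_neg.mp h1 with h | h
    · left; rw [h]; ring
    · right; rw [h]; ring
  by_cases h01 : e01 h = 0
  · by_cases h10 : e10 h = 0
    · have hdd : e00 h - e11 h ≠ 0 := by
        intro h
        apply hd
        rw [← dh, h, h01]; ring
      have g01 : e01 g = 0 := by
        rw [h01] at c2
        have : e01 g * (e00 h - e11 h) = 0 := by linear_combination (-1 : F) * c2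
        exact (mul_eq_zero.mp this).resolve_right hdd
      have g10 : e10 g = 0 := by
        rw [h10] at c3
        have : e10 g * (e00 h - e11 h) = 0 := by linear_combination (-1 : F) * c3
        exact (mul_eq_zero.mp this).resolve_right hdd
      have h3 : (e00 g - e11 g) ^ 2 = (e00 h - e11 h) ^ 2 := by
        rw [g01] at dg; rw [h01] at dh
        linear_combination dg - dh
      rcases sq_eq_sq_iff_eq_or_eq_neg.mp h3 with h | h
      · exact fin 1 (Or.inl rfl) (by rw [g01, h01]; ring) (by rw [g10, h10]; ring) (by rw [h]; ring)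
      · exact fin (-1) (Or.inr rfl) (by rw [g01, h01]; ring) (by rw [g10, h10]; ring) (by rw [h]; ring)
    · have h3 : e10 g ^ 2 * Δ = e10 h ^ 2 * Δ := by
        linear_combination (-(e10 g ^ 2)) * dh + e10 h ^ 2 * dg
          - (e10 h * (e00 g - e11 g) + e10 g * (e00 h - e11 h)) * c3 - 4 * e10 g * e10 h * c1
      rcases sq _ _ h3 with h | h
      · refine fin 1 (Or.inl rfl) ?_ h ?_
        · apply mul_left_cancel₀ h10
          rw [h] at c1; linear_combination c1
        · apply mul_left_cancel₀ h10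
          rw [h] at c3; linear_combination c3
      · refine fin (-1) (Or.inr rfl) ?_ h ?_
        · apply mul_left_cancel₀ h10
          rw [h] at c1; linear_combination c1
        · apply mul_left_cancel₀ h10
          rw [h] at c3; linear_combination c3
  · have h3 : e01 g ^ 2 * Δ = e01 h ^ 2 * Δ := by
      linear_combination (-(e01 g ^ 2)) * dh + e01 h ^ 2 * dg
        - (e01 h * (e00 g - e11 g) + e01 g * (e00 h - e11 h)) * c2 + 4 * e01 g * e01 h * c1
    rcases sq _ _ h3 with h | h
    · refine fin 1 (Or.inl rfl) h ?_ ?_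
      · apply mul_left_cancel₀ h01
        rw [h] at c1; linear_combination (-1 : F) * c1
      · apply mul_left_cancel₀ h01
        rw [h] at c2; linear_combination c2
    · refine fin (-1) (Or.inr rfl) h ?_ ?_
      · apply mul_left_cancel₀ h01
        rw [h] at c1; linear_combination (-1 : F) * c1
      · apply mul_left_cancel₀ h01
        rw [h] at c2; linear_combination c2

/-- powers of an element of trace `2` -/
lemma pow_of_tr_two {v : SpecialLinearGroup (Fin 2) F} (hv : tr v = 2) (k : ℕ) :
    e00 (v ^ k) = 1 + k * (e00 v - 1) ∧ e01 (v ^ k) = k * e01 v ∧ e10 (v ^ k) = k * e10 v ∧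
      e11 (v ^ k) = 1 + k * (e11 v - 1) := by
  have hv' : e00 v + e11 v = 2 := hv
  have hdet := sl_det v
  induction k with
  | zero => simp
  | succ k ih =>
    obtain ⟨i00, i01, i10, i11⟩ := ih
    rw [pow_succ]
    simp only [e00_mul, e01_mul, e10_mul, e11_mul, i00, i01, i10, i11]
    push_cast
    refine ⟨?_, ?_, ?_, ?_⟩
    · linear_combination (-(k : F)) * hdet + (k : F) * e00 v * hv'
    · linear_combination (k : F) * e01 v * hv'
    · linear_combination (k : F) * e10 v * hv'
    · linear_combination (-(k : F)) * hdet + (k : F) * e11 v * hv'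

lemma pow_char_of_tr_two (p : ℕ) [CharP F p] {v : SpecialLinearGroup (Fin 2) F} (hv : tr v = 2) : v ^ p = 1 := by
  obtain ⟨h00, h01, h10, h11⟩ := pow_of_tr_two hv p
  have hp : (p : F) = 0 := CharP.cast_eq_zero F p
  apply sl_ext
  · rw [h00, hp]; simp
  · rw [h01, hp]; simp
  · rw [h10, hp]; simp
  · rw [h11, hp]; simp

/-- Cayley–Hamilton for the square -/
lemma sq_entries (y : SpecialLinearGroup (Fin 2) F) :
    e00 (y * y) = tr y * e00 y - 1 ∧ e01 (y * y) = tr y * e01 y ∧ e10 (y * y) = tr y * e10 y ∧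
      e11 (y * y) = tr y * e11 y - 1 := by
  have hdet := sl_det y
  unfold tr
  simp only [e00_mul, e01_mul, e10_mul, e11_mul]
  refine ⟨?_, ?_, ?_, ?_⟩
  · linear_combination (-1 : F) * hdet
  · ring
  · ring
  · linear_combination (-1 : F) * hdet

lemma tr_sq (y : SpecialLinearGroup (Fin 2) F) : tr (y * y) = tr y ^ 2 - 2 := by
  obtain ⟨h00, -, -, h11⟩ := sq_entries y
  have : tr (y * y) = e00 (y * y) + e11 (y * y) := rfl
  rw [this, h00, h11]
  unfold tr
  ring

lemma e10_conj_xx (k : SpecialLinearGroup (Fin 2) F) (s : F) : e10 (k * xx s * k⁻¹) = - s * e10 k ^ 2 := by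
  simp only [e00_mul, e01_mul, e10_mul, e11_mul, e00_inv, e01_inv, e10_inv, e11_inv, e00_xx, e01_xx, e10_xx, e11_xx]
  ring

lemma e01_conj_xx (k : SpecialLinearGroup (Fin 2) F) (s : F) : e01 (k * xx s * k⁻¹) = s * e00 k ^ 2 := by
  simp only [e00_mul, e01_mul, e10_mul, e11_mul, e00_inv, e01_inv, e10_inv, e11_inv, e00_xx, e01_xx, e10_xx, e11_xx]
  ring

lemma eq_xx_iff (g : SpecialLinearGroup (Fin 2) F) (s : F) : g = xx s ↔ e00 g = 1 ∧ e01 g = s ∧ e10 g = 0 := by
  constructor
  · rintro rfl; simp
  · rintro ⟨h1, h2, h3⟩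
    have hdet := sl_det g
    rw [h1, h3] at hdet
    apply sl_ext
    · simp [h1]
    · simp [h2]
    · simp [h3]
    · simp only [e11_xx]; linear_combination hdet

end Cfsg.Agent.H12.Dk
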