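import Mathlib
import Cfsg.Agent.H12.Dk3
import Cfsg.Agent.H12.Dk5

set_option autoImplicit false
set_option linter.unusedSimpArgs false
set_option linter.unusedSectionVars false

namespace Cfsg.Agent.H12.Dk

open Matrix Subgroup

variable {F : Type*} [Field F] {G : Type*} [Group G]

/-- the standing hypotheses -/
structure Setup (ρ : G →* SpecialLinearGroup (Fin 2) F) (a b ζ : G) (s0 r0 : F) : Prop where
  inj : Function.Injective ρ
  two : (2 : F) ≠ 0
  hs : s0 ≠ 0
  hr : r0 ≠ 0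
  ha : ρ a = xx s0
  hb : ρ b = yy r0
  hζ : ρ ζ = -1

variable {ρ : G →* SpecialLinearGroup (Fin 2) F} {a b ζ : G} {s0 r0 : F}

namespace Setup

variable (S : Setup ρ a b ζ s0 r0)
include S

lemma commute_iff' (g h : G) : Commute g h ↔ Commute (ρ g) (ρ h) := by
  constructor
  · intro hc; exact hc.map ρ
  · intro hc
    apply S.inj
    rw [map_mul, map_mul]
    exact hc

lemma not_commute : ¬ Commute a b := by
  rw [S.commute_iff', S.ha, S.hb, commute_iff]
  simp only [e00_xx, e01_xx, e10_xx, e11_xx, e00_yy, e01_yy, e10_yy, e11_yy]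
  rintro ⟨h1, -, -⟩
  have : s0 * r0 = 0 := by linear_combination h1
  rcases mul_eq_zero.mp this with h | h
  · exact S.hs h
  · exact S.hr h

lemma mem_center_iff' (g : G) : g ∈ center G ↔ IsSc (ρ g) := by
  constructor
  · intro hg
    by_contra hsc
    apply S.not_commute
    rw [S.commute_iff']
    apply ct_sl hsc
    · rw [← S.commute_iff']; exact (mem_center_iff.mp hg a)
    · rw [← S.commute_iff']; exact (mem_center_iff.mp hg b)
  · intro hg
    rw [mem_center_iff]
    intro x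
    exact ((S.commute_iff' g x).mpr (hg.commute _)).symm

lemma ct : CT G := by
  intro x hx u v hu hv
  rw [S.mem_center_iff'] at hx
  rw [S.commute_iff'] at hu hv ⊢
  exact ct_sl hx hu hv

lemma a_not_mem : a ∉ center G := by
  rw [S.mem_center_iff', S.ha]
  rintro ⟨h1, -, -⟩
  simp at h1
  exact S.hs h1

lemma b_not_mem : b ∉ center G := by
  rw [S.mem_center_iff', S.hb]
  rintro ⟨-, h1, -⟩
  simp at h1
  exact S.hr h1

lemma mem_cen_a (g : G) : g ∈ cen a ↔ e10 (ρ g) = 0 ∧ e00 (ρ g) = e11 (ρ g) := by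
  rw [mem_cen, S.commute_iff', S.ha, commute_iff]
  simp only [e00_xx, e01_xx, e10_xx, e11_xx]
  constructor
  · rintro ⟨h1, h2, -⟩
    constructor
    · have : s0 * e10 (ρ g) = 0 := by linear_combination (-1 : F) * h1
      exact (mul_eq_zero.mp this).resolve_left S.hs
    · have : s0 * (e00 (ρ g) - e11 (ρ g)) = 0 := by linear_combination h2
      exact sub_eq_zero.mp ((mul_eq_zero.mp this).resolve_left S.hs)
  · rintro ⟨h1, h2⟩
    rw [h1, h2]
    simp

lemma mem_cen_b (g : G) : g ∈ cen b ↔ e01 (ρ g) = 0 ∧ e00 (ρ g) = e11 (ρ g) := by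
  rw [mem_cen, S.commute_iff', S.hb, commute_iff]
  simp only [e00_yy, e01_yy, e10_yy, e11_yy]
  constructor
  · rintro ⟨h1, -, h2⟩
    constructor
    · have : r0 * e01 (ρ g) = 0 := by linear_combination h1
      exact (mul_eq_zero.mp this).resolve_left S.hr
    · have : r0 * (e00 (ρ g) - e11 (ρ g)) = 0 := by linear_combination h2
      exact sub_eq_zero.mp ((mul_eq_zero.mp this).resolve_left S.hr)
  · rintro ⟨h1, h2⟩
    rw [h1, h2]
    simp

lemma mem_normalizer_a (g : G) : g ∈ normalizer (cen a : Set G) ↔ e10 (ρ g) = 0 := by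
  constructor
  · intro hg
    have h1 := (mem_normalizer_iff.mp hg a).mp (self_mem_cen a)
    rw [S.mem_cen_a, map_mul, map_mul, map_inv, S.ha, e10_conj_xx] at h1
    have h2 : s0 * e10 (ρ g) ^ 2 = 0 := by linear_combination (-1 : F) * h1.1
    exact pow_eq_zero_iff (two_ne_zero) |>.mp ((mul_eq_zero.mp h2).resolve_left S.hs)
  · intro hg
    have key : ∀ g : G, e10 (ρ g) = 0 → ∀ c ∈ cen a, g * c * g⁻¹ ∈ cen a := by
      intro g hg c hc
      rw [S.mem_cen_a] at hc ⊢
      obtain ⟨c1, c2⟩ := hc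
      rw [map_mul, map_mul, map_inv]
      simp only [e00_mul, e01_mul, e10_mul, e11_mul, e00_inv, e01_inv, e10_inv, e11_inv, hg, c1, c2]
      constructor <;> ring
    rw [mem_normalizer_iff]
    intro c
    constructor
    · exact key g hg c
    · intro hc
      have := key g⁻¹ (by rw [map_inv, e10_inv, hg, neg_zero]) _ hc
      have e : g⁻¹ * (g * c * g⁻¹) * g⁻¹⁻¹ = c := by group
      rwa [e] at this

/-- the unipotent subgroup -/
def U (ρ : G →* SpecialLinearGroup (Fin 2) F) : Subgroup G where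
  carrier := {g | e10 (ρ g) = 0 ∧ e00 (ρ g) = 1 ∧ e11 (ρ g) = 1}
  mul_mem' := by
    rintro g h ⟨g1, g2, g3⟩ ⟨h1, h2, h3⟩
    simp only [Set.mem_ofPred_eq, map_mul, e00_mul, e10_mul, e11_mul, g1, g2, g3, h1, h2, h3]
    simp
  one_mem' := by simp
  inv_mem' := by
    rintro g ⟨g1, g2, g3⟩
    simp only [Set.mem_ofPred_eq, map_inv, e00_inv, e10_inv, e11_inv, g1, g2, g3]
    simp

omit S in
lemma mem_U (g : G) : g ∈ U ρ ↔ e10 (ρ g) = 0 ∧ e00 (ρ g) = 1 ∧ e11 (ρ g) = 1 := Iff.rfl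

omit S in
lemma mem_U_iff (g : G) : g ∈ U ρ ↔ ρ g = xx (e01 (ρ g)) := by
  rw [mem_U, eq_xx_iff]
  constructor
  · rintro ⟨h1, h2, h3⟩; exact ⟨h2, rfl, h1⟩
  · rintro ⟨h1, -, h3⟩
    refine ⟨h3, h1, ?_⟩
    have := sl_det (ρ g)
    rw [h1, h3] at this
    linear_combination this

lemma a_mem_U : a ∈ U ρ := by rw [mem_U, S.ha]; simp

lemma U_le_cen : U ρ ≤ cen a := by
  intro g hg
  rw [S.mem_cen_a]
  exact ⟨hg.1, by rw [hg.2.1, hg.2.2]⟩

end Setup

end Cfsg.Agent.H12.Dk
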