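import Mathlib
import Cfsg.Agent.H12.Dk6

set_option autoImplicit false
set_option linter.unusedSimpArgs false
set_option linter.unusedSectionVars false

namespace Cfsg.Agent.H12.Dk

open Matrix Subgroup

section abstract

variable {G : Type*} [Group G]

lemma card_mul_relIndex' {H K : Subgroup G} (h : H ≤ K) : Nat.card H * H.relIndex K = Nat.card K := by
  have := Subgroup.relIndex_mul_relIndex ⊥ H K bot_le h
  rwa [relIndex_bot_left, relIndex_bot_left] at this

lemma cen_le_normalizer (y : G) : cen y ≤ normalizer (cen y : Set G) := le_normalizer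

lemma card_normalizer_of_invert {y : G}
    (hinv : ∀ n ∈ normalizer (cen y : Set G), n * y * n⁻¹ = y ∨ n * y * n⁻¹ = y⁻¹) :
    Nat.card (normalizer (cen y : Set G)) = 1 * Nat.card (cen y) ∨
      Nat.card (normalizer (cen y : Set G)) = 2 * Nat.card (cen y) := by
  have hmem : ∀ n : G, n ∈ cen y ↔ n * y * n⁻¹ = y := by
    intro n
    rw [mem_cen]
    constructor
    · intro h; rw [h.eq]; group
    · intro h
      change n * y = y * n
      calc n * y = (n * y * n⁻¹) * n := by group
        _ = y * n := by rw [h]
  by_cases hN : normalizer (cen y : Set G) ≤ cen y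
  · left
    rw [le_antisymm hN (cen_le_normalizer y), one_mul]
  · right
    obtain ⟨n0, hn0, hn0c⟩ := SetLike.not_le_iff_exists.mp hN
    have h2 : (cen y).relIndex (normalizer (cen y : Set G)) = 2 := by
      rw [relIndex_eq_two_iff_exists_notMem_and]
      refine ⟨n0, hn0, hn0c, fun b hb => ?_⟩
      by_cases hbc : b ∈ cen y
      · exact Or.inr hbc
      · left
        have h3 : b * y * b⁻¹ = y⁻¹ := (hinv b hb).resolve_left (fun h => hbc ((hmem b).mpr h))
        have h4 : n0 * y * n0⁻¹ = y⁻¹ := (hinv n0 hn0).resolve_left (fun h => hn0c ((hmem n0).mpr h))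
        rw [hmem]
        calc b * n0 * y * (b * n0)⁻¹ = b * (n0 * y * n0⁻¹) * b⁻¹ := by group
          _ = (b * y * b⁻¹)⁻¹ := by rw [h4]; group
          _ = y := by rw [h3, inv_inv]
    rw [← card_mul_relIndex' (cen_le_normalizer y), h2, mul_comm]

variable [Finite G]

/-- noncentral `p`-elements are conjugate into the centralizer of a given noncentral `p`-element -/
lemma mem_cls_of_pElement (h : CT G) {p : ℕ} [Fact p.Prime] {a v : G} (ha : a ∉ center G) (hv : v ∉ center G)
    (hap : IsPGroup p (zpowers a)) (hvp : IsPGroup p (zpowers v))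
    (hZ : ∀ c ∈ center G, IsPGroup p (zpowers c) → c = 1) : v ∈ cls a := by
  obtain ⟨P, hP⟩ := hap.exists_le_sylow
  obtain ⟨P', hP'⟩ := hvp.exists_le_sylow
  have haP : a ∈ (P : Subgroup G) := hP (mem_zpowers a)
  have hvP' : v ∈ (P' : Subgroup G) := hP' (mem_zpowers v)
  have hPle : (P : Subgroup G) ≤ cen a := by
    have hnt : Nontrivial (P : Subgroup G) := by
      refine ⟨⟨a, haP⟩, 1, ?_⟩
      intro h1
      apply ha
      have : a = 1 := congrArg Subtype.val h1
      rw [this]; exact one_mem _
    have := P.2.center_nontrivial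
    obtain ⟨c, hc⟩ := exists_ne (1 : center (P : Subgroup G))
    have hc1 : ((c : (P : Subgroup G)) : G) ≠ 1 := by
      intro h1
      apply hc
      apply Subtype.ext
      apply Subtype.ext
      exact h1
    have hcz : ((c : (P : Subgroup G)) : G) ∉ center G := by
      intro h1
      apply hc1
      apply hZ _ h1
      apply P.2.to_le
      rw [zpowers_le]
      exact (c : (P : Subgroup G)).2
    have hcomm : ∀ g ∈ (P : Subgroup G), Commute g ((c : (P : Subgroup G)) : G) := by
      intro g hg
      have := mem_center_iff.mp c.2 ⟨g, hg⟩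
      exact congrArg Subtype.val this
    have e : cen ((c : (P : Subgroup G)) : G) = cen a := cen_eq h hcz ha (hcomm a haP).symm
    intro g hg
    rw [← e, mem_cen]
    exact hcomm g hg
  obtain ⟨k, hk⟩ := MulAction.exists_smul_eq G P P'
  refine ⟨hv, k, ?_⟩
  apply hPle
  have h1 : v ∈ ((k • P : Sylow p G) : Subgroup G) := by rw [hk]; exact hvP'
  rw [Sylow.coe_subgroup_smul, mem_smul_pointwise_iff_exists] at h1
  obtain ⟨x, hx, hxv⟩ := h1
  rw [← hxv]
  have : k⁻¹ * (MulAut.conj k • x) * k = x := by
    rw [MulAut.smul_def, MulAut.conj_apply]; group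
  rw [this]
  exact hx

end abstract

end Cfsg.Agent.H12.Dk
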