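import Mathlib
import Cfsg.Agent.H12.Dk7

set_option autoImplicit false
set_option linter.unusedSimpArgs false
set_option linter.unusedSectionVars false

namespace Cfsg.Agent.H12.Dk

open Matrix Subgroup

variable {F : Type*} [Field F] {G : Type*} [Group G]
variable {ρ : G →* SpecialLinearGroup (Fin 2) F} {a b ζ : G} {s0 r0 : F}

lemma IsSc.eq_one_or {g : SpecialLinearGroup (Fin 2) F} (hg : IsSc g) : g = 1 ∨ g = -1 := by
  obtain ⟨h1, h2, h3⟩ := hg
  have hdet := sl_det g
  rw [h1, ← h3] at hdet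
  have h4 : (e00 g - 1) * (e00 g + 1) = 0 := by linear_combination hdet
  rcases mul_eq_zero.mp h4 with h | h
  · left
    have h5 : e00 g = 1 := by linear_combination h
    apply sl_ext <;> simp [h1, h2, ← h3, h5]
  · right
    have h5 : e00 g = -1 := by linear_combination h
    apply sl_ext <;> simp [h1, h2, ← h3, h5]

namespace Setup

variable (S : Setup ρ a b ζ s0 r0)
include S

lemma eq_one_or_of_mem_center {g : G} (hg : g ∈ center G) : g = 1 ∨ g = ζ := by
  rcases ((S.mem_center_iff' g).mp hg).eq_one_or with h | h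
  · left; apply S.inj; rw [h, map_one]
  · right; apply S.inj; rw [h, S.hζ]

lemma zeta_mem : ζ ∈ center G := by
  rw [S.mem_center_iff', S.hζ]
  refine ⟨by simp, by simp, by simp⟩

lemma zeta_ne_one : ζ ≠ 1 := by
  intro h
  have h1 := S.hζ
  rw [h, map_one] at h1
  have h2 := congrArg e00 h1
  simp at h2
  apply S.two
  linear_combination h2

lemma card_center : Nat.card (center G) = 2 := by
  rw [Nat.card_eq_two_iff]
  refine ⟨1, ⟨ζ, S.zeta_mem⟩, ?_, ?_⟩
  · intro h
    exact S.zeta_ne_one (congrArg Subtype.val h).symm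
  · ext ⟨g, hg⟩
    simp only [Set.mem_insert_iff, Set.mem_singleton_iff, Set.mem_univ, iff_true]
    rcases S.eq_one_or_of_mem_center hg with h | h
    · left; exact Subtype.ext h
    · right; exact Subtype.ext h

lemma e00_sq_of_mem_cen {g : G} (hg : g ∈ cen a) : e00 (ρ g) = 1 ∨ e00 (ρ g) = -1 := by
  obtain ⟨h1, h2⟩ := (S.mem_cen_a g).mp hg
  have hdet := sl_det (ρ g)
  rw [h1, ← h2] at hdet
  have h4 : (e00 (ρ g) - 1) * (e00 (ρ g) + 1) = 0 := by linear_combination hdet
  rcases mul_eq_zero.mp h4 with h | h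
  · left; linear_combination h
  · right; linear_combination h

lemma card_cen_a : Nat.card (cen a) = Nat.card (center G) * Nat.card (U ρ) := by
  have h2 : (U ρ).relIndex (cen a) = 2 := by
    rw [relIndex_eq_two_iff_exists_notMem_and]
    refine ⟨ζ, center_le_cen a S.zeta_mem, ?_, ?_⟩
    · rw [mem_U, S.hζ]
      rintro ⟨-, h, -⟩
      simp at h
      apply S.two
      linear_combination (-1 : F) * h
    · intro g hg
      obtain ⟨h1, h3⟩ := (S.mem_cen_a g).mp hg
      rcases S.e00_sq_of_mem_cen hg with h | h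
      · right
        exact ⟨h1, h, by rw [← h3, h]⟩
      · left
        rw [mem_U, map_mul, S.hζ]
        simp only [e00_mul, e10_mul, e11_mul, e00_neg, e01_neg, e10_neg, e11_neg, e00_one, e01_one, e10_one, e11_one,
          h1, ← h3, h]
        simp
  rw [← card_mul_relIndex' S.U_le_cen, h2, S.card_center, mul_comm]

lemma tr_sq_of_mem_cls {g : G} (hg : g ∈ cls a) : tr (ρ g) ^ 2 - 4 = 0 := by
  obtain ⟨-, k, hk⟩ := hg
  have h1 : tr (ρ (k⁻¹ * g * k)) = tr (ρ g) := by
    have := tr_conj (ρ k⁻¹) (ρ g)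
    rw [map_mul, map_mul]
    rw [map_inv, inv_inv] at this
    rw [map_inv]
    exact this
  obtain ⟨-, h3⟩ := (S.mem_cen_a _).mp hk
  rw [← h1]
  unfold tr
  rw [← h3]
  rcases S.e00_sq_of_mem_cen hk with h | h <;> rw [h] <;> ring

section fin

variable [Finite G] (p : ℕ) [hpp : Fact p.Prime] [hcp : CharP F p]
include hpp hcp

lemma pow_p_of_tr_two {v : G} (hv : tr (ρ v) = 2) : v ^ p = 1 := by
  apply S.inj
  rw [map_pow, map_one]
  exact pow_char_of_tr_two p hv

lemma isPGroup_zpowers_of_tr_two {v : G} (hv : tr (ρ v) = 2) : IsPGroup p (zpowers v) := by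
  rintro ⟨g, hg⟩
  obtain ⟨k, rfl⟩ := mem_zpowers_iff.mp hg
  refine ⟨1, ?_⟩
  apply Subtype.ext
  simp only [pow_one, SubmonoidClass.mk_pow, OneMemClass.coe_one]
  rw [← zpow_natCast, ← _root_.zpow_mul, mul_comm, _root_.zpow_mul, zpow_natCast, S.pow_p_of_tr_two p hv, _root_.one_zpow]

lemma isPGroup_U : IsPGroup p (U ρ) := by
  rintro ⟨g, hg⟩
  refine ⟨1, ?_⟩
  apply Subtype.ext
  simp only [pow_one, SubmonoidClass.mk_pow, OneMemClass.coe_one]
  apply S.pow_p_of_tr_two p
  unfold tr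
  rw [hg.2.1, hg.2.2]; norm_num

lemma p_ne_two : p ≠ 2 := by
  intro h
  apply S.two
  have := CharP.cast_eq_zero F p
  rw [h] at this
  exact_mod_cast this

lemma center_no_p {c : G} (hc : c ∈ center G) (hcp : IsPGroup p (zpowers c)) : c = 1 := by
  rcases S.eq_one_or_of_mem_center hc with h | h
  · exact h
  · exfalso
    obtain ⟨k, hk⟩ := hcp ⟨c, mem_zpowers c⟩
    have hk' : c ^ p ^ k = 1 := congrArg Subtype.val hk
    have h2 : c ^ 2 = 1 := by
      apply S.inj
      rw [h, map_pow, S.hζ, map_one]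
      simp
    have hodd : Odd (p ^ k) := ((Fact.out : p.Prime).odd_of_ne_two (S.p_ne_two p)).pow
    obtain ⟨j, hj⟩ := hodd
    rw [hj, pow_succ, pow_mul, h2, one_pow, one_mul] at hk'
    exact S.zeta_ne_one (h ▸ hk')

lemma card_U : 3 ≤ Nat.card (U ρ) ∧ Odd (Nat.card (U ρ)) := by
  obtain ⟨k, hk⟩ := IsPGroup.iff_card.mp (S.isPGroup_U p)
  have hp := (Fact.out : p.Prime)
  have hodd := hp.odd_of_ne_two (S.p_ne_two p)
  have hk0 : k ≠ 0 := by
    rintro rfl
    rw [pow_zero] at hk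
    have := (Nat.card_eq_one_iff_unique.mp hk).1
    have h1 : (⟨a, S.a_mem_U⟩ : U ρ) = 1 := Subsingleton.elim _ _
    have h2 : a = 1 := congrArg Subtype.val h1
    exact S.a_not_mem (h2 ▸ one_mem _)
  rw [hk]
  refine ⟨?_, hodd.pow⟩
  have h3 : 3 ≤ p := by
    have := hp.two_le
    have := S.p_ne_two p
    omega
  calc 3 ≤ p := h3
    _ ≤ p ^ k := Nat.le_self_pow hk0 p

/-- noncentral elements of trace `±2` are conjugate into `C(a)` -/
lemma mem_cls_of_tr {y : G} (hy : y ∉ center G) (ht : tr (ρ y) ^ 2 - 4 = 0) : y ∈ cls a := by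
  have ht0 : tr (ρ y) ≠ 0 := by
    intro h
    rw [h] at ht
    apply S.two
    have h4 : (2 : F) * 2 = 0 := by linear_combination (-1 : F) * ht
    exact (mul_self_eq_zero.mp h4)
  set v := y * y with hv
  have htv : tr (ρ v) = 2 := by
    rw [hv, map_mul, tr_sq]; linear_combination ht
  have hvz : v ∉ center G := by
    rw [S.mem_center_iff', hv, map_mul]
    rintro ⟨h1, h2, h3⟩
    obtain ⟨q00, q01, q10, q11⟩ := sq_entries (ρ y)
    apply hy
    rw [S.mem_center_iff']
    refine ⟨?_, ?_, ?_⟩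
    · rw [q01] at h1; exact (mul_eq_zero.mp h1).resolve_left ht0
    · rw [q10] at h2; exact (mul_eq_zero.mp h2).resolve_left ht0
    · rw [q00, q11] at h3
      apply mul_left_cancel₀ ht0
      linear_combination h3
  have hta : tr (ρ a) = 2 := by rw [S.ha]; unfold tr; simp; norm_num
  obtain ⟨-, k, hk⟩ := mem_cls_of_pElement S.ct S.a_not_mem hvz (S.isPGroup_zpowers_of_tr_two p hta)
    (S.isPGroup_zpowers_of_tr_two p htv) (fun c hc hcp => S.center_no_p p hc hcp)
  refine ⟨hy, k, ?_⟩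
  have hkz : k⁻¹ * v * k ∉ center G := fun h => hvz (conj_mem_center_iff.mp h)
  rw [← cen_eq S.ct hkz S.a_not_mem (mem_cen.mp hk), mem_cen]
  change k⁻¹ * y * k * (k⁻¹ * v * k) = k⁻¹ * v * k * (k⁻¹ * y * k)
  rw [hv]; group

lemma H2 (y : G) (hy : y ∉ center G) (hya : y ∉ cls a) :
    Nat.card (normalizer (cen y : Set G)) = 1 * Nat.card (cen y) ∨
      Nat.card (normalizer (cen y : Set G)) = 2 * Nat.card (cen y) := by
  apply card_normalizer_of_invert
  intro n hn
  have h1 := (mem_normalizer_iff.mp hn y).mp (self_mem_cen y)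
  have h2 : Commute (ρ (n * y * n⁻¹)) (ρ y) := (S.commute_iff' _ _).mp (mem_cen.mp h1)
  have h3 : tr (ρ (n * y * n⁻¹)) = tr (ρ y) := by
    rw [map_mul, map_mul, map_inv]; exact tr_conj _ _
  have h4 : tr (ρ y) ^ 2 - 4 ≠ 0 := fun h => hya (S.mem_cls_of_tr p hy h)
  rcases eq_or_eq_inv S.two h2 h3 h4 with h | h
  · left; exact S.inj h
  · right; apply S.inj; rw [h, map_inv]

end fin

end Setup

end Cfsg.Agent.H12.Dk
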