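import Mathlib
import Cfsg.Agent.H12.Dk8

set_option autoImplicit false
set_option linter.unusedSimpArgs false
set_option linter.unusedSectionVars false

namespace Cfsg.Agent.H12.Dk

open Matrix Subgroup

variable {F : Type*} [Field F] {G : Type*} [Group G]
variable {ρ : G →* SpecialLinearGroup (Fin 2) F} {a b ζ : G} {s0 r0 : F}

namespace Setup

variable (S : Setup ρ a b ζ s0 r0)
include S

lemma eq_one_of_mem_U {u : G} (hu : u ∈ U ρ) (h : e01 (ρ u) = 0) : u = 1 := by
  apply S.inj
  rw [map_one, (mem_U_iff u).mp hu, h]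
  apply sl_ext <;> simp

lemma conj_a_mem_U {m : G} (hm : e10 (ρ m) = 0) : m * a * m⁻¹ ∈ U ρ := by
  have hdet := sl_det (ρ m)
  rw [hm] at hdet
  rw [mem_U, map_mul, map_mul, map_inv, S.ha]
  simp only [e00_mul, e01_mul, e10_mul, e11_mul, e00_inv, e01_inv, e10_inv, e11_inv, e00_xx, e01_xx, e10_xx, e11_xx, hm]
  refine ⟨by ring, by linear_combination hdet, by linear_combination hdet⟩

variable [Finite G]

lemma kappa_lt : (cen a).relIndex (normalizer (cen a : Set G)) < Nat.card (U ρ) := by
  classical
  set M := normalizer (cen a : Set G) with hM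
  let f : (M ⧸ (cen a).subgroupOf M) → U ρ :=
    Quotient.lift (s := QuotientGroup.leftRel ((cen a).subgroupOf M))
      (fun m : M => (⟨(m : G) * a * (m : G)⁻¹, S.conj_a_mem_U ((S.mem_normalizer_a _).mp m.2)⟩ : U ρ)) (by
        intro m m' h
        have h1 : m⁻¹ * m' ∈ (cen a).subgroupOf M := QuotientGroup.leftRel_apply.mp h
        have h2 : Commute ((m : G)⁻¹ * (m' : G)) a := mem_cen.mp (mem_subgroupOf.mp h1)
        apply Subtype.ext
        change (m : G) * a * (m : G)⁻¹ = (m' : G) * a * (m' : G)⁻¹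
        have h3 : (m : G)⁻¹ * (m' : G) * a = a * ((m : G)⁻¹ * (m' : G)) := h2
        calc (m : G) * a * (m : G)⁻¹ = (m : G) * (a * ((m : G)⁻¹ * (m' : G))) * (m' : G)⁻¹ := by group
          _ = (m : G) * ((m : G)⁻¹ * (m' : G) * a) * (m' : G)⁻¹ := by rw [h3]
          _ = (m' : G) * a * (m' : G)⁻¹ := by group)
  have hinj : Function.Injective f := by
    intro q q' h
    induction q using QuotientGroup.induction_on with
    | H m =>
    induction q' using QuotientGroup.induction_on with
    | H m' =>
      have h1 : (m : G) * a * (m : G)⁻¹ = (m' : G) * a * (m' : G)⁻¹ := congrArg Subtype.val h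
      rw [QuotientGroup.eq, mem_subgroupOf, mem_cen]
      change (m : G)⁻¹ * (m' : G) * a = a * ((m : G)⁻¹ * (m' : G))
      calc (m : G)⁻¹ * (m' : G) * a = (m : G)⁻¹ * ((m' : G) * a * (m' : G)⁻¹) * (m' : G) := by group
        _ = (m : G)⁻¹ * ((m : G) * a * (m : G)⁻¹) * (m' : G) := by rw [h1]
        _ = a * ((m : G)⁻¹ * (m' : G)) := by group
  have hne : (1 : U ρ) ∉ Set.range f := by
    rintro ⟨q, hq⟩
    induction q using QuotientGroup.induction_on with
    | H m =>
      have h1 : (m : G) * a * (m : G)⁻¹ = 1 := congrArg Subtype.val hq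
      apply S.a_not_mem
      have : a = 1 := by
        calc a = (m : G)⁻¹ * ((m : G) * a * (m : G)⁻¹) * (m : G) := by group
          _ = 1 := by rw [h1]; group
      rw [this]; exact one_mem _
  have := Fintype.ofFinite (M ⧸ (cen a).subgroupOf M)
  have := Fintype.ofFinite (U ρ)
  have h1 := Fintype.card_lt_of_injective_of_notMem f hinj hne
  rw [← Nat.card_eq_fintype_card, ← Nat.card_eq_fintype_card] at h1
  exact h1

/-- the cosets `M`, `u b M` -/
def bru (ρ : G →* SpecialLinearGroup (Fin 2) F) (a b : G) : Option (U ρ) → G ⧸ normalizer (cen a : Set G)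
  | none => ((1 : G) : G ⧸ normalizer (cen a : Set G))
  | some u => (((u : G) * b : G) : G ⧸ normalizer (cen a : Set G))

lemma bru_injective : Function.Injective (bru ρ a b) := by
  have h1 : ∀ u : U ρ, ((1 : G) : G ⧸ normalizer (cen a : Set G)) ≠ (((u : G) * b : G) : G ⧸ normalizer (cen a : Set G)) := by
    intro u h
    rw [QuotientGroup.eq, S.mem_normalizer_a, inv_one, one_mul, map_mul, S.hb] at h
    simp only [e10_mul, e00_yy, e10_yy, u.2.1, u.2.2.2] at h
    apply S.hr
    linear_combination h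
  intro x y hxy
  cases x with
  | none =>
    cases y with
    | none => rfl
    | some u => exact absurd hxy (h1 u)
  | some u =>
    cases y with
    | none => exact absurd hxy.symm (h1 u)
    | some u' =>
      have h2 : (((u : G) * b : G) : G ⧸ normalizer (cen a : Set G)) = (((u' : G) * b : G) : G ⧸ _) := hxy
      rw [QuotientGroup.eq, S.mem_normalizer_a] at h2
      have hw : (u : G)⁻¹ * (u' : G) ∈ U ρ := mul_mem (inv_mem u.2) u'.2
      have e : ((u : G) * b)⁻¹ * ((u' : G) * b) = b⁻¹ * ((u : G)⁻¹ * (u' : G)) * b := by group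
      rw [e, map_mul, map_mul, map_inv, S.hb] at h2
      simp only [e00_mul, e01_mul, e10_mul, e11_mul, e00_inv, e01_inv, e10_inv, e11_inv, e00_yy, e01_yy, e10_yy,
        e11_yy, hw.1, hw.2.1, hw.2.2] at h2
      have h3 : r0 * r0 * e01 (ρ ((u : G)⁻¹ * (u' : G))) = 0 := by linear_combination (-1 : F) * h2
      have h4 := (mul_eq_zero.mp h3).resolve_left (mul_ne_zero S.hr S.hr)
      have h5 := S.eq_one_of_mem_U hw h4
      congr 1
      apply Subtype.ext
      exact (inv_mul_eq_one.mp h5)

lemma index_ge : Nat.card (U ρ) + 1 ≤ (normalizer (cen a : Set G)).index := by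
  rw [← Finite.card_option]
  exact Nat.card_le_card_of_injective _ S.bru_injective

lemma bruhat (h : (normalizer (cen a : Set G)).index = Nat.card (U ρ) + 1) (g : G) (hg : e10 (ρ g) ≠ 0) :
    ∃ u ∈ U ρ, ∃ m : G, e10 (ρ m) = 0 ∧ g = u * b * m := by
  have hbij := S.bru_injective.bijective_of_nat_card_le (by rw [Finite.card_option, ← h]; rfl)
  obtain ⟨x, hx⟩ := hbij.2 (g : G ⧸ normalizer (cen a : Set G))
  cases x with
  | none =>
    exfalso
    have h2 : ((1 : G) : G ⧸ normalizer (cen a : Set G)) = g := hx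
    rw [QuotientGroup.eq, S.mem_normalizer_a, inv_one, one_mul] at h2
    exact hg h2
  | some u =>
    have h2 : (((u : G) * b : G) : G ⧸ normalizer (cen a : Set G)) = g := hx
    rw [QuotientGroup.eq, S.mem_normalizer_a] at h2
    exact ⟨u, u.2, _, h2, by group⟩

end Setup

end Cfsg.Agent.H12.Dk
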