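import Mathlib
import Cfsg.Agent.H12.Dk9

set_option autoImplicit false
set_option linter.unusedSimpArgs false
set_option linter.unusedSectionVars false

namespace Cfsg.Agent.H12.Dk

open Matrix Subgroup

variable {F : Type*} [Field F] {G : Type*} [Group G]
variable {ρ : G →* SpecialLinearGroup (Fin 2) F} {a b ζ : G} {s0 r0 : F}

namespace Setup

variable (S : Setup ρ a b ζ s0 r0)
include S

section h0

variable {h0 : G} (h1 : e10 (ρ h0) = 0) (h2 : e00 (ρ h0) ≠ e11 (ρ h0))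
include h1 h2

lemma h0_tr : tr (ρ h0) ^ 2 - 4 ≠ 0 := by
  rw [← disc, h1]
  intro h
  apply h2
  have : (e00 (ρ h0) - e11 (ρ h0)) ^ 2 = 0 := by linear_combination h
  exact sub_eq_zero.mp (pow_eq_zero_iff two_ne_zero |>.mp this)

lemma h0_not_center : h0 ∉ center G := by
  rw [S.mem_center_iff']
  rintro ⟨-, -, h⟩
  exact h2 h

lemma h0_not_cls : h0 ∉ cls a := fun h => S.h0_tr h1 h2 (S.tr_sq_of_mem_cls h)

lemma e10_of_mem_cen_h0 {g : G} (hg : g ∈ cen h0) : e10 (ρ g) = 0 := by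
  obtain ⟨-, -, c3⟩ := (commute_iff _ _).mp ((S.commute_iff' _ _).mp (mem_cen.mp hg))
  rw [h1] at c3
  have : e10 (ρ g) * (e00 (ρ h0) - e11 (ρ h0)) = 0 := by linear_combination (-1 : F) * c3
  exact (mul_eq_zero.mp this).resolve_right (sub_ne_zero.mpr h2)

lemma eq_one_of_mem_U_cen_h0 {u : G} (hu : u ∈ U ρ) (hc : u ∈ cen h0) : u = 1 := by
  apply S.eq_one_of_mem_U hu
  obtain ⟨-, c2, -⟩ := (commute_iff _ _).mp ((S.commute_iff' _ _).mp (mem_cen.mp hc))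
  rw [hu.2.1, hu.2.2] at c2
  have : e01 (ρ u) * (e00 (ρ h0) - e11 (ρ h0)) = 0 := by linear_combination (-1 : F) * c2
  exact (mul_eq_zero.mp this).resolve_right (sub_ne_zero.mpr h2)

lemma comm_h0_mem_U {m : G} (hm : e10 (ρ m) = 0) : m * h0 * m⁻¹ * h0⁻¹ ∈ U ρ := by
  have d1 := sl_det (ρ m)
  have d2 := sl_det (ρ h0)
  rw [hm] at d1
  rw [h1] at d2
  rw [mem_U, map_mul, map_mul, map_mul, map_inv, map_inv]
  simp only [e00_mul, e01_mul, e10_mul, e11_mul, e00_inv, e01_inv, e10_inv, e11_inv, hm, h1]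
  refine ⟨by ring, ?_, ?_⟩
  · linear_combination (e00 (ρ h0) * e11 (ρ h0)) * d1 + d2
  · linear_combination (e00 (ρ h0) * e11 (ρ h0)) * d1 + d2

variable [Finite G]

lemma exists_U_mul_cen_h0 {m : G} (hm : e10 (ρ m) = 0) : ∃ u ∈ U ρ, u⁻¹ * m ∈ cen h0 := by
  let φ : U ρ → U ρ := fun u => ⟨(u : G) * h0 * (u : G)⁻¹ * h0⁻¹, S.comm_h0_mem_U h1 h2 u.2.1⟩
  have hinj : Function.Injective φ := by
    intro u u' h
    have h3 : (u : G) * h0 * (u : G)⁻¹ * h0⁻¹ = (u' : G) * h0 * (u' : G)⁻¹ * h0⁻¹ := congrArg Subtype.val h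
    have h4 : (u : G) * h0 * (u : G)⁻¹ = (u' : G) * h0 * (u' : G)⁻¹ := mul_right_cancel h3
    have h5 : (u' : G)⁻¹ * (u : G) ∈ cen h0 := by
      rw [mem_cen]
      change (u' : G)⁻¹ * (u : G) * h0 = h0 * ((u' : G)⁻¹ * (u : G))
      calc (u' : G)⁻¹ * (u : G) * h0 = (u' : G)⁻¹ * ((u : G) * h0 * (u : G)⁻¹) * (u : G) := by group
        _ = (u' : G)⁻¹ * ((u' : G) * h0 * (u' : G)⁻¹) * (u : G) := by rw [h4]
        _ = h0 * ((u' : G)⁻¹ * (u : G)) := by group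
    have h6 := S.eq_one_of_mem_U_cen_h0 h1 h2 (mul_mem (inv_mem u'.2) u.2) h5
    apply Subtype.ext
    exact (inv_mul_eq_one.mp h6).symm
  obtain ⟨u, hu⟩ := (Finite.injective_iff_surjective.mp hinj) ⟨m * h0 * m⁻¹ * h0⁻¹, S.comm_h0_mem_U h1 h2 hm⟩
  refine ⟨u, u.2, ?_⟩
  have h3 : (u : G) * h0 * (u : G)⁻¹ * h0⁻¹ = m * h0 * m⁻¹ * h0⁻¹ := congrArg Subtype.val hu
  have h4 : (u : G) * h0 * (u : G)⁻¹ = m * h0 * m⁻¹ := mul_right_cancel h3
  rw [mem_cen]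
  change (u : G)⁻¹ * m * h0 = h0 * ((u : G)⁻¹ * m)
  calc (u : G)⁻¹ * m * h0 = (u : G)⁻¹ * (m * h0 * m⁻¹) * m := by group
    _ = (u : G)⁻¹ * ((u : G) * h0 * (u : G)⁻¹) * m := by rw [h4]
    _ = h0 * ((u : G)⁻¹ * m) := by group

lemma card_M_eq : Nat.card (normalizer (cen a : Set G)) = Nat.card (U ρ) * Nat.card (cen h0) := by
  let f : U ρ × cen h0 → normalizer (cen a : Set G) := fun x =>
    ⟨(x.1 : G) * (x.2 : G), by
      rw [S.mem_normalizer_a, map_mul, e10_mul, x.1.2.1, S.e10_of_mem_cen_h0 h1 h2 x.2.2]; ring⟩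
  have hbij : Function.Bijective f := by
    constructor
    · rintro ⟨u, c⟩ ⟨u', c'⟩ h
      have h3 : (u : G) * (c : G) = (u' : G) * (c' : G) := congrArg Subtype.val h
      have h4 : (u' : G)⁻¹ * (u : G) = (c' : G) * (c : G)⁻¹ := by
        calc (u' : G)⁻¹ * (u : G) = (u' : G)⁻¹ * ((u : G) * (c : G)) * (c : G)⁻¹ := by group
          _ = (u' : G)⁻¹ * ((u' : G) * (c' : G)) * (c : G)⁻¹ := by rw [h3]
          _ = (c' : G) * (c : G)⁻¹ := by group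
      have h5 := S.eq_one_of_mem_U_cen_h0 h1 h2 (mul_mem (inv_mem u'.2) u.2)
        (by rw [h4]; exact mul_mem c'.2 (inv_mem c.2))
      have h6 : (u : G) = u' := (inv_mul_eq_one.mp h5).symm
      have h7 : (c : G) = c' := by
        rw [h6] at h3; exact mul_left_cancel h3
      exact Prod.ext (Subtype.ext h6) (Subtype.ext h7)
    · rintro ⟨m, hm⟩
      obtain ⟨u, hu, hc⟩ := S.exists_U_mul_cen_h0 h1 h2 ((S.mem_normalizer_a m).mp hm)
      refine ⟨(⟨u, hu⟩, ⟨_, hc⟩), ?_⟩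
      apply Subtype.ext
      change u * (u⁻¹ * m) = m
      group
  rw [← Nat.card_prod]
  exact (Nat.card_congr (Equiv.ofBijective f hbij)).symm

end h0

end Setup

end Cfsg.Agent.H12.Dk
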