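import Mathlib
import Cfsg.Agent.H12.Dk10

set_option autoImplicit false
set_option linter.unusedSimpArgs false
set_option linter.unusedSectionVars false

namespace Cfsg.Agent.H12.Dk

open Matrix Subgroup

variable {F : Type*} [Field F] {G : Type*} [Group G]

/-- `X = α g + β` entrywise -/
def Lin (g X : SpecialLinearGroup (Fin 2) F) (α β : F) : Prop :=
  e00 X = α * e00 g + β ∧ e01 X = α * e01 g ∧ e10 X = α * e10 g ∧ e11 X = α * e11 g + β

lemma Lin.step {g X : SpecialLinearGroup (Fin 2) F} {α β : F} (h : Lin g X α β) :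
    Lin g (X * g) (α * tr g + β) (-α) := by
  obtain ⟨h00, h01, h10, h11⟩ := h
  have hdet := sl_det g
  unfold Lin tr
  simp only [e00_mul, e01_mul, e10_mul, e11_mul, h00, h01, h10, h11]
  refine ⟨?_, ?_, ?_, ?_⟩
  · linear_combination (-α) * hdet
  · ring
  · ring
  · linear_combination (-α) * hdet

lemma lin_pow5 (g : SpecialLinearGroup (Fin 2) F) :
    Lin g (g ^ 5) (tr g ^ 4 - 3 * tr g ^ 2 + 1) (-(tr g ^ 3 - 2 * tr g)) := by
  have h1 : Lin g g 1 0 := ⟨by ring, by ring, by ring, by ring⟩
  have h5 := h1.step.step.step.step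
  have e : g * g * g * g * g = g ^ 5 := by
    rw [show (5 : ℕ) = 1 + 1 + 1 + 1 + 1 from rfl]; simp only [pow_add, pow_one]
  rw [e] at h5
  convert h5 using 1 <;> ring

lemma isSc_of_mul_self (h2 : (2 : F) ≠ 0) {g : SpecialLinearGroup (Fin 2) F} (h : g * g = 1) : IsSc g := by
  have h1 : g = g⁻¹ := eq_inv_of_mul_eq_one_left h
  have a00 := congrArg e00 h1
  have a01 := congrArg e01 h1
  have a10 := congrArg e10 h1
  simp only [e00_inv, e01_inv, e10_inv] at a00 a01 a10
  refine ⟨?_, ?_, a00⟩
  · have : (2 : F) * e01 g = 0 := by linear_combination a01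
    exact (mul_eq_zero.mp this).resolve_left h2
  · have : (2 : F) * e10 g = 0 := by linear_combination a10
    exact (mul_eq_zero.mp this).resolve_left h2

variable {ρ : G →* SpecialLinearGroup (Fin 2) F} {a b ζ : G} {s0 r0 : F}

namespace Setup

variable (S : Setup ρ a b ζ s0 r0)
include S

variable [Finite G] (p : ℕ) [hpp : Fact p.Prime] [hcp : CharP F p]
include hpp hcp

lemma main_case (h : (normalizer (cen a : Set G)).index = Nat.card (U ρ) + 1) :
    ∃ u ∈ U ρ, e01 (ρ u) * r0 = -1 := by
  have htb : tr (ρ b) ^ 2 - 4 = 0 := by rw [S.hb]; unfold tr; simp; norm_num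
  obtain ⟨-, k, hk⟩ := S.mem_cls_of_tr p S.b_not_mem htb
  have hkz : k⁻¹ * b * k ∉ center G := fun h => S.b_not_mem (conj_mem_center_iff.mp h)
  have e1 := cen_eq S.ct hkz S.a_not_mem (mem_cen.mp hk)
  have h1 : a ∈ cen (k⁻¹ * b * k) := by rw [e1]; exact self_mem_cen a
  have h2 : k * a * k⁻¹ ∈ cen b := by
    have := (mem_cen_conj (x := b) (g := a) (k := k⁻¹)).mp (by rwa [inv_inv])
    rwa [inv_inv] at this
  have h3 := ((S.mem_cen_b _).mp h2).1
  rw [map_mul, map_mul, map_inv, S.ha, e01_conj_xx] at h3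
  have hk00 : e00 (ρ k) = 0 := pow_eq_zero_iff two_ne_zero |>.mp ((mul_eq_zero.mp h3).resolve_left S.hs)
  have hk10 : e10 (ρ k) ≠ 0 := by
    intro h4
    have := sl_det (ρ k)
    rw [hk00, h4] at this
    simp at this
  obtain ⟨u, hu, m, hm, hkum⟩ := S.bruhat h k hk10
  refine ⟨u, hu, ?_⟩
  have hdm := sl_det (ρ m)
  rw [hm] at hdm
  have hm00 : e00 (ρ m) ≠ 0 := by
    intro h4
    rw [h4] at hdm
    simp at hdm
  rw [hkum, map_mul, map_mul, S.hb] at hk00
  simp only [e00_mul, e01_mul, e00_yy, e01_yy, e10_yy, e11_yy, hm, hu.2.1] at hk00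
  have h5 : (1 + e01 (ρ u) * r0) * e00 (ρ m) = 0 := by linear_combination hk00
  have h6 := (mul_eq_zero.mp h5).resolve_right hm00
  linear_combination h6

/-- Dickson's theorem, core form -/
theorem dickson_core : ∃ (u k : G) (s : F), ρ u = xx s ∧ ((s * e10 (ρ k)) ^ 2 = 1 ∨ (s * e10 (ρ k)) ^ 2 = -1) := by
  classical
  set M := normalizer (cen a : Set G) with hM
  set κ := (cen a).relIndex M with hκ
  have hcardM : Nat.card (cen a) * κ = Nat.card M := card_mul_relIndex' (cen_le_normalizer a)
  have hκ1 : 1 ≤ κ := by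
    have h1 : 0 < Nat.card M := Nat.card_pos
    rw [← hcardM] at h1
    exact Nat.pos_of_mul_pos_left h1 |> fun h => h
  obtain ⟨hq3, hodd⟩ := S.card_U p
  -- choice of h0
  have hex : 2 ≤ κ → ∃ h0 : G, e10 (ρ h0) = 0 ∧ e00 (ρ h0) ≠ e11 (ρ h0) := by
    intro h2
    by_contra hcon
    push Not at hcon
    have hle : M ≤ cen a := by
      intro m hm
      rw [S.mem_cen_a]
      have := (S.mem_normalizer_a m).mp hm
      exact ⟨this, hcon m this⟩
    have : M = cen a := le_antisymm hle (cen_le_normalizer a)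
    have h3 : κ = 1 := by rw [hκ, this]; exact relIndex_self _
    omega
  let h0 : G := if h : 2 ≤ κ then (hex h).choose else 1
  have hh0 : 2 ≤ κ → e10 (ρ h0) = 0 ∧ e00 (ρ h0) ≠ e11 (ρ h0) := by
    intro h
    have : h0 = (hex h).choose := dif_pos h
    rw [this]; exact (hex h).choose_spec
  have key := class_equation S.ct (a := a) (h0 := h0) S.a_not_mem (q := Nat.card (U ρ)) (κ := κ) (n := M.index)
    S.card_cen_a (by rw [← hcardM, mul_comm])
    (by rw [← M.card_mul_index, ← hcardM, S.card_cen_a]; ring)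
    hq3 hodd hκ1 S.kappa_lt S.index_ge (S.H2 p)
    (by
      intro h
      obtain ⟨h1, h2⟩ := hh0 h
      refine ⟨S.h0_not_center h1 h2, S.h0_not_cls h1 h2, ?_⟩
      have h3 := S.card_M_eq h1 h2
      rw [← hM, ← hcardM, S.card_cen_a] at h3
      have hU : 0 < Nat.card (U ρ) := Nat.card_pos
      have h4 : Nat.card (U ρ) * (Nat.card (center G) * κ) = Nat.card (U ρ) * Nat.card (cen h0) := by
        rw [← h3]; ring
      exact (Nat.eq_of_mul_eq_mul_left hU h4).symm)
  rcases key with hmain | ⟨hq, hκ2, -, hN, y, hy, hCy, hcov⟩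
  · obtain ⟨u, hu, hur⟩ := S.main_case p hmain
    refine ⟨u, b, e01 (ρ u), (mem_U_iff u).mp hu, Or.inl ?_⟩
    rw [S.hb, e10_yy, hur]; ring
  · -- the exceptional case
    obtain ⟨h1, h2⟩ := hh0 (by omega)
    have h3F : (3 : F) = 0 := by
      obtain ⟨j, hj⟩ := IsPGroup.iff_card.mp (S.isPGroup_U p)
      rw [hq] at hj
      have hp3 : p = 3 := by
        have hj0 : j ≠ 0 := by rintro rfl; simp at hj
        have : p ∣ 3 := by rw [hj]; exact dvd_pow_self p hj0
        exact (Nat.prime_dvd_prime_iff_eq Fact.out Nat.prime_three).mp this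
      have := CharP.cast_eq_zero F p
      rw [hp3] at this
      exact_mod_cast this
    have hCh : Nat.card (cen h0) = 4 := by
      have h3 := S.card_M_eq h1 h2
      rw [← hM, ← hcardM, S.card_cen_a, S.card_center, hq, hκ2] at h3
      omega
    -- the inverting element
    obtain ⟨w, hwN, hwC⟩ : ∃ w ∈ normalizer (cen h0 : Set G), w ∉ cen h0 := by
      by_contra hcon
      push Not at hcon
      have : normalizer (cen h0 : Set G) = cen h0 := le_antisymm hcon (cen_le_normalizer h0)
      rw [this, hCh] at hN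
      omega
    have hinv : w * h0 * w⁻¹ = h0⁻¹ := by
      have c1 := (mem_normalizer_iff.mp hwN h0).mp (self_mem_cen h0)
      have c2 : Commute (ρ (w * h0 * w⁻¹)) (ρ h0) := (S.commute_iff' _ _).mp (mem_cen.mp c1)
      have c3 : tr (ρ (w * h0 * w⁻¹)) = tr (ρ h0) := by
        rw [map_mul, map_mul, map_inv]; exact tr_conj _ _
      rcases eq_or_eq_inv S.two c2 c3 (S.h0_tr h1 h2) with h | h
      · exfalso
        apply hwC
        rw [mem_cen]
        have h4 := S.inj h
        change w * h0 = h0 * w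
        calc w * h0 = (w * h0 * w⁻¹) * w := by group
          _ = h0 * w := by rw [h4]
      · apply S.inj; rw [h, map_inv]
    have hwh : ρ w * ρ h0 = (ρ h0)⁻¹ * ρ w := by
      rw [← map_inv, ← map_mul, ← map_mul, ← hinv]
      congr 1; group
    have q00 := congrArg e00 hwh
    have q11 := congrArg e11 hwh
    simp only [e00_mul, e01_mul, e10_mul, e11_mul, e00_inv, e01_inv, e10_inv, e11_inv, h1] at q00 q11
    have hd : e00 (ρ h0) - e11 (ρ h0) ≠ 0 := sub_ne_zero.mpr h2
    have htrw : e00 (ρ w) + e11 (ρ w) = 0 := by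
      have : (e00 (ρ w) + e11 (ρ w)) * (e00 (ρ h0) - e11 (ρ h0)) = 0 := by linear_combination q00 - q11
      exact (mul_eq_zero.mp this).resolve_right hd
    have hw10 : e10 (ρ w) ≠ 0 := by
      intro h4
      rw [h4] at q00
      have h5 : e00 (ρ w) * (e00 (ρ h0) - e11 (ρ h0)) = 0 := by linear_combination q00
      have h6 := (mul_eq_zero.mp h5).resolve_right hd
      have := sl_det (ρ w)
      rw [h6, h4] at this
      simp at this
    set μ := s0 * e10 (ρ w) with hμ
    have hμ0 : μ ≠ 0 := mul_ne_zero S.hs hw10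
    have htr : tr (ρ (a * w)) = μ := by
      rw [map_mul, S.ha]
      unfold tr
      simp only [e00_mul, e11_mul, e00_xx, e01_xx, e10_xx, e11_xx]
      rw [hμ]; linear_combination htrw
    have hawz : a * w ∉ center G := by
      rw [S.mem_center_iff', map_mul, S.ha]
      rintro ⟨-, h4, -⟩
      simp only [e10_mul, e10_xx, e11_xx] at h4
      apply hw10
      linear_combination h4
    have trconj : ∀ k : G, tr (ρ (k⁻¹ * (a * w) * k)) = μ := by
      intro k
      rw [← htr]
      have := tr_conj (ρ k⁻¹) (ρ (a * w))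
      rw [map_inv, inv_inv] at this
      rw [map_mul, map_mul, map_inv]
      exact this
    rcases hcov _ hawz with hc | hc | hc
    · refine ⟨a, w, s0, S.ha, Or.inl ?_⟩
      have := S.tr_sq_of_mem_cls hc
      rw [htr] at this
      rw [← hμ]
      linear_combination this + h3F
    · exfalso
      obtain ⟨-, k, hk⟩ := hc
      set c := k⁻¹ * (a * w) * k with hc
      have hcz : c ∉ center G := fun h => hawz (conj_mem_center_iff.mp h)
      have hc4 : c ^ 4 = 1 := by
        have := pow_card_eq_one' (G := cen h0) (x := ⟨c, hk⟩)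
        rw [hCh] at this
        exact congrArg Subtype.val this
      have h5 : IsSc (ρ (c * c)) := by
        apply isSc_of_mul_self S.two
        rw [← map_mul, ← map_one ρ]
        congr 1
        rw [← hc4, show (4 : ℕ) = 1 + 1 + 1 + 1 from rfl]; simp only [pow_add, pow_one, mul_assoc]
      obtain ⟨s1, s2, s3⟩ := h5
      rw [map_mul] at s1 s2 s3
      obtain ⟨q00', q01', q10', q11'⟩ := sq_entries (ρ c)
      rw [trconj k] at q00' q01' q10' q11'
      apply hcz
      rw [S.mem_center_iff']
      refine ⟨?_, ?_, ?_⟩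
      · rw [q01'] at s1; exact (mul_eq_zero.mp s1).resolve_left hμ0
      · rw [q10'] at s2; exact (mul_eq_zero.mp s2).resolve_left hμ0
      · rw [q00', q11'] at s3
        apply mul_left_cancel₀ hμ0
        linear_combination s3
    · obtain ⟨-, k, hk⟩ := hc
      set c := k⁻¹ * (a * w) * k with hc
      have hcz : c ∉ center G := fun h => hawz (conj_mem_center_iff.mp h)
      have hc10 : c ^ 10 = 1 := by
        have := pow_card_eq_one' (G := cen y) (x := ⟨c, hk⟩)
        rw [hCy, S.card_center] at this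
        exact congrArg Subtype.val this
      have h5 : IsSc (ρ c ^ 5) := by
        apply isSc_of_mul_self S.two
        rw [← map_pow, ← map_mul, ← map_one ρ]
        congr 1
        rw [← hc10, ← pow_add]
      obtain ⟨l00, l01, l10, l11⟩ := lin_pow5 (ρ c)
      rw [trconj k] at l00 l01 l10 l11
      obtain ⟨s1, s2, s3⟩ := h5
      have hpoly : μ ^ 4 - 3 * μ ^ 2 + 1 = 0 := by
        by_contra hne
        apply hcz
        rw [S.mem_center_iff']
        refine ⟨?_, ?_, ?_⟩
        · rw [l01] at s1; exact (mul_eq_zero.mp s1).resolve_left hne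
        · rw [l10] at s2; exact (mul_eq_zero.mp s2).resolve_left hne
        · rw [l00, l11] at s3
          apply mul_left_cancel₀ hne
          linear_combination s3
      refine ⟨a, w * a * w⁻¹, s0, S.ha, Or.inr ?_⟩
      rw [map_mul, map_mul, map_inv, S.ha, e10_conj_xx]
      have : (s0 * (-s0 * e10 (ρ w) ^ 2)) ^ 2 = μ ^ 4 := by rw [hμ]; ring
      rw [this]
      linear_combination hpoly + μ ^ 2 * h3F

end Setup

end Cfsg.Agent.H12.Dk
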