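import Mathlib
import Cfsg.Agent.H12.Dk11

set_option autoImplicit false
set_option linter.unusedSimpArgs false
set_option linter.unusedSectionVars false

namespace Cfsg.Agent.H12.Dk

open Matrix Subgroup

variable {F : Type*} [Field F]

/-- the natural action on pairs -/
def act (g : SpecialLinearGroup (Fin 2) F) (v : F × F) : F × F :=
  (e00 g * v.1 + e01 g * v.2, e10 g * v.1 + e11 g * v.2)

lemma act_mul (g h : SpecialLinearGroup (Fin 2) F) (v : F × F) : act (g * h) v = act g (act h v) := by
  unfold act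
  simp only [e00_mul, e01_mul, e10_mul, e11_mul]
  ext <;> simp <;> ring

lemma act_one (v : F × F) : act (1 : SpecialLinearGroup (Fin 2) F) v = v := by
  unfold act; simp

lemma act_add (g : SpecialLinearGroup (Fin 2) F) (v w : F × F) : act g (v + w) = act g v + act g w := by
  unfold act
  ext <;> simp <;> ring

/-- adjoining `-1` -/
def pm (H : Subgroup (SpecialLinearGroup (Fin 2) F)) : Subgroup (SpecialLinearGroup (Fin 2) F) where
  carrier := {g | g ∈ H ∨ -g ∈ H}
  mul_mem' := by
    rintro g h (hg | hg) (hh | hh)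
    · exact Or.inl (mul_mem hg hh)
    · right
      have := mul_mem hg hh
      rwa [mul_neg] at this
    · right
      have := mul_mem hg hh
      rwa [neg_mul] at this
    · left
      have := mul_mem hg hh
      rwa [neg_mul_neg] at this
  one_mem' := Or.inl (one_mem _)
  inv_mem' := by
    rintro g (hg | hg)
    · exact Or.inl (inv_mem hg)
    · right
      have := inv_mem hg
      have e : (-g)⁻¹ = -g⁻¹ := by
        apply sl_ext <;> simp
      rwa [e] at this

lemma mem_pm {H : Subgroup (SpecialLinearGroup (Fin 2) F)} {g : SpecialLinearGroup (Fin 2) F} :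
    g ∈ pm H ↔ g ∈ H ∨ -g ∈ H := Iff.rfl

/-- Dickson's theorem: a subgroup of `SL₂(F)` containing nontrivial upper and lower unitriangular elements contains a pair of
transvections generating a conjugate of `SL₂(p)`. -/
theorem dickson_pair [Finite F] (p : ℕ) [Fact p.Prime] [CharP F p] (hp : p ≠ 2)
    (H : Subgroup (SpecialLinearGroup (Fin 2) F)) {s0 r0 : F} (hs : s0 ≠ 0) (hr : r0 ≠ 0) (ha : xx s0 ∈ H)
    (hb : yy r0 ∈ H) :
    ∃ t1 ∈ H, ∃ t2 ∈ H, ∃ (e f : F × F) (c : F), e ≠ 0 ∧ (c = 1 ∨ c = -1) ∧ act t1 e = e ∧ act t1 f = f + e ∧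
      act t2 f = f ∧ act t2 e = e + c • f := by
  have h2 : (2 : F) ≠ 0 := by
    intro h
    have h1 : ((2 : ℕ) : F) = 0 := by exact_mod_cast h
    rw [CharP.cast_eq_zero_iff F p] at h1
    exact hp ((Nat.prime_dvd_prime_iff_eq Fact.out Nat.prime_two).mp h1)
  have : Finite (SpecialLinearGroup (Fin 2) F) := by
    have : Finite (Matrix (Fin 2) (Fin 2) F) := inferInstance
    exact Subtype.finite
  have S : Setup (pm H).subtype (⟨xx s0, Or.inl ha⟩ : pm H) ⟨yy r0, Or.inl hb⟩
      ⟨-1, Or.inr (by rw [neg_neg]; exact one_mem _)⟩ s0 r0 :=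
    { inj := Subtype.val_injective
      two := h2
      hs := hs
      hr := hr
      ha := rfl
      hb := rfl
      hζ := rfl }
  obtain ⟨⟨u, hu⟩, ⟨k, hk⟩, s, hus, hsq⟩ := S.dickson_core p
  have hus' : u = xx s := hus
  change ((s * e10 k) ^ 2 = 1 ∨ (s * e10 k) ^ 2 = -1) at hsq
  subst hus'
  have hup : xx s ^ p = 1 := pow_char_of_tr_two p (by unfold tr; simp; norm_num)
  have huH : xx s ∈ H := by
    rcases hu with h | h
    · exact h
    · have hodd : Odd p := (Fact.out : p.Prime).odd_of_ne_two hp
      have heven : Even (p + 1) := hodd.add_one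
      have h3 := pow_mem h (p + 1)
      rw [heven.neg_pow, pow_succ, hup, one_mul] at h3
      exact h3
  have ht2 : k * xx s * k⁻¹ ∈ H := by
    rcases hk with h | h
    · exact mul_mem (mul_mem h huH) (inv_mem h)
    · have h3 := mul_mem (mul_mem h huH) (inv_mem h)
      have e : -k * xx s * (-k)⁻¹ = k * xx s * k⁻¹ := by
        apply sl_ext <;> simp <;> ring
      rwa [e] at h3
  set μ := s * e10 k with hμ
  have hμ0 : μ ≠ 0 := by
    intro h
    rw [h] at hsq
    rcases hsq with h | h
    · simp at h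
    · have : (1 : F) = 0 := by linear_combination h
      exact one_ne_zero this
  have hdet := sl_det k
  refine ⟨xx s, huH, k * xx s * k⁻¹, ht2, (μ, 0), (e00 k, e10 k), -μ ^ 2, ?_, ?_, ?_, ?_, ?_, ?_⟩
  · intro h
    exact hμ0 (congrArg Prod.fst h)
  · rcases hsq with h | h
    · right; rw [h]
    · left; rw [h]; ring
  · unfold act; simp
  · unfold act; ext <;> simp [hμ]
  · unfold act
    simp only [e00_mul, e01_mul, e10_mul, e11_mul, e00_inv, e01_inv, e10_inv, e11_inv, e00_xx, e01_xx, e10_xx, e11_xx]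
    ext
    · simp only; linear_combination (e00 k) * hdet
    · simp only; linear_combination (e10 k) * hdet
  · unfold act
    simp only [e00_mul, e01_mul, e10_mul, e11_mul, e00_inv, e01_inv, e10_inv, e11_inv, e00_xx, e01_xx, e10_xx, e11_xx]
    ext
    · simp only [Prod.fst_add, Prod.smul_fst, smul_eq_mul]
      rw [hμ]; linear_combination (s * e10 k) * hdet
    · simp only [Prod.snd_add, Prod.smul_snd, smul_eq_mul]
      rw [hμ]; ring

end Cfsg.Agent.H12.Dk
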