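import Mathlib
import Cfsg.Agent.H12.Dk12

set_option autoImplicit false
set_option linter.unusedSimpArgs false
set_option linter.unusedSectionVars false

namespace Cfsg.Agent.H12.Dk

open Polynomial

/-- a non-(locally)-nilpotent endomorphism of a finite `𝔽_p`-space has a "field line". -/
theorem exists_field_embedding (p : ℕ) [Fact p.Prime] {A : Type*} [AddCommGroup A] [Finite A] [Module (ZMod p) A]
    (T : A →ₗ[ZMod p] A) (hT : ¬ ∀ a, ∃ n : ℕ, (T ^ n) a = 0) :
    ∃ (F : Type) (_ : Field F) (_ : Finite F) (_ : CharP F p) (β : F) (φ : F →+ A),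
      β ≠ 0 ∧ Function.Injective φ ∧ ∀ c, φ (β * c) = T (φ c) := by
  have hfin : Finite (Module.AEval' T) := Finite.of_equiv A (Module.AEval'.of T).toEquiv
  let X' : Module.End (ZMod p)[X] (Module.AEval' T) := LinearMap.lsmul (ZMod p)[X] (Module.AEval' T) X
  have hX' : ∀ m, X' m = (X : (ZMod p)[X]) • m := fun m => rfl
  have hX'pow : ∀ (n : ℕ) m, (X' ^ n) m = (X ^ n : (ZMod p)[X]) • m := by
    intro n
    induction n with
    | zero => intro m; simp
    | succ n ih => intro m; rw [pow_succ, Module.End.mul_apply, ih, hX', smul_smul, pow_succ]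
  obtain ⟨n, hn1, hn⟩ := ((Filter.eventually_ge_atTop 1).and X'.eventually_isCompl_ker_pow_range_pow).exists
  have hne : LinearMap.range (X' ^ n) ≠ ⊥ := by
    intro h
    have h1 := hn.sup_eq_top
    rw [h, sup_bot_eq] at h1
    apply hT
    intro a
    refine ⟨n, ?_⟩
    have h2 : Module.AEval'.of T a ∈ LinearMap.ker (X' ^ n) := by rw [h1]; trivial
    rw [LinearMap.mem_ker, hX'pow, Module.AEval'.X_pow_smul_of] at h2
    simpa using h2
  obtain ⟨U, hU, hUle⟩ := (eq_bot_or_exists_atom_le (LinearMap.range (X' ^ n))).resolve_left hne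
  have hsimple : IsSimpleModule (ZMod p)[X] U := isSimpleModule_iff_isAtom.mpr hU
  obtain ⟨I, hI, ⟨e⟩⟩ := isSimpleModule_iff_quot_maximal.mp hsimple
  letI : Field ((ZMod p)[X] ⧸ I) := Ideal.Quotient.field I
  have hfinU : Finite U := inferInstance
  have hfinF : Finite ((ZMod p)[X] ⧸ I) := Finite.of_equiv U e.toEquiv
  have hchar : CharP ((ZMod p)[X] ⧸ I) p := by
    have : Algebra (ZMod p) ((ZMod p)[X] ⧸ I) := inferInstance
    exact charP_of_injective_algebraMap (algebraMap (ZMod p) ((ZMod p)[X] ⧸ I)).injective p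
  let φ : ((ZMod p)[X] ⧸ I) →+ A :=
    ((Module.AEval'.of T).symm.toLinearMap.toAddMonoidHom.comp U.subtype.toAddMonoidHom).comp e.symm.toLinearMap.toAddMonoidHom
  have hφ : ∀ c, φ c = (Module.AEval'.of T).symm ((e.symm c : U) : Module.AEval' T) := fun c => rfl
  have hφinj : Function.Injective φ := by
    intro a b hab
    rw [hφ, hφ] at hab
    exact e.symm.injective (Subtype.ext ((Module.AEval'.of T).symm.injective hab))
  have hmul : ∀ c, φ (Ideal.Quotient.mk I X * c) = T (φ c) := by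
    intro c
    have h1 : Ideal.Quotient.mk I X * c = (X : (ZMod p)[X]) • c := by
      obtain ⟨c, rfl⟩ := Ideal.Quotient.mk_surjective c
      rfl
    rw [h1, hφ, hφ, map_smul, Submodule.coe_smul, Module.AEval'.of_symm_X_smul]
  refine ⟨(ZMod p)[X] ⧸ I, inferInstance, hfinF, hchar, Ideal.Quotient.mk I X, φ, ?_, hφinj, hmul⟩
  intro h0
  -- then `T` kills `φ 1`, which lies in the range of `X'^n`
  have h1 := hmul 1
  rw [h0, zero_mul, map_zero] at h1
  have h2 : ((e.symm 1 : U) : Module.AEval' T) ∈ LinearMap.ker (X' ^ n) := by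
    rw [LinearMap.mem_ker]
    obtain ⟨k, rfl⟩ : ∃ k, n = k + 1 := ⟨n - 1, by omega⟩
    rw [pow_succ, Module.End.mul_apply, hX']
    have h3 : (X : (ZMod p)[X]) • ((e.symm 1 : U) : Module.AEval' T) = 0 := by
      apply (Module.AEval'.of T).symm.injective
      rw [Module.AEval'.of_symm_X_smul, map_zero, ← hφ, ← h1]
    rw [h3, map_zero]
  have h3 : ((e.symm 1 : U) : Module.AEval' T) ∈ LinearMap.range (X' ^ n) := hUle (e.symm 1).2
  have h4 := (Submodule.disjoint_def.mp hn.disjoint) _ h2 h3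
  have h5 : (e.symm 1 : U) = 0 := Subtype.ext h4
  have h6 : (1 : (ZMod p)[X] ⧸ I) = 0 := by
    apply e.symm.injective
    rw [h5, map_zero]
  exact one_ne_zero h6

end Cfsg.Agent.H12.Dk
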