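import Mathlib
import Cfsg.Agent.H12.Dk13

set_option autoImplicit false
set_option linter.unusedSimpArgs false
set_option linter.unusedSectionVars false

namespace Cfsg.Agent.H12.Dk

open Subgroup

section abstractAction

variable {H A : Type*} [Group H] [AddCommGroup A] [DistribMulAction H A]

/-- `x - 1` as an endomorphism -/
def nn (A : Type*) [AddCommGroup A] [DistribMulAction H A] (x : H) : A →+ A :=
  DistribSMul.toAddMonoidHom A x - AddMonoidHom.id A

lemma nn_apply (x : H) (a : A) : nn A x a = x • a - a := rfl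

/-- quadratic action -/
def Quad (A : Type*) [AddCommGroup A] [DistribMulAction H A] (x : H) : Prop := ∀ a : A, nn A x (nn A x a) = 0

lemma exists_fixed_rel {N1 N2 : A →+ A} (h1 : ∀ a, N1 (N1 a) = 0) (h2 : ∀ a, N2 (N2 a) = 0) (X : AddSubgroup A)
    (n : ℕ) : ∀ w, w ∉ X → N1 w ∈ X → (fun a => N1 (N2 a))^[n] w ∈ X → ∃ v, v ∉ X ∧ N1 v ∈ X ∧ N2 v ∈ X := by
  induction n with
  | zero => intro w hw _ h; exact absurd h hw
  | succ n ih =>
    intro w hw hw1 h
    by_cases c1 : N2 w ∈ X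
    · exact ⟨w, hw, hw1, c1⟩
    by_cases c2 : N1 (N2 w) ∈ X
    · exact ⟨N2 w, c1, c2, by rw [h2]; exact zero_mem _⟩
    · apply ih (N1 (N2 w)) c2 (by rw [h1]; exact zero_mem _)
      rwa [Function.iterate_succ_apply] at h

lemma exists_fixed_rel' {N1 N2 : A →+ A} (h1 : ∀ a, N1 (N1 a) = 0) (h2 : ∀ a, N2 (N2 a) = 0) (X : AddSubgroup A)
    (hT : ∀ a, ∃ n : ℕ, (fun a => N1 (N2 a))^[n] a = 0) (hX : X ≠ ⊤) : ∃ v, v ∉ X ∧ N1 v ∈ X ∧ N2 v ∈ X := by
  obtain ⟨w, hw⟩ : ∃ w, w ∉ X := by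
    by_contra h
    push Not at h
    exact hX (eq_top_iff.mpr fun a _ => h a)
  by_cases c : N1 w ∈ X
  · obtain ⟨n, hn⟩ := hT w
    exact exists_fixed_rel h1 h2 X n w hw c (by rw [hn]; exact zero_mem _)
  · obtain ⟨n, hn⟩ := hT (N1 w)
    exact exists_fixed_rel h1 h2 X n (N1 w) c (by rw [h1]; exact zero_mem _) (by rw [hn]; exact zero_mem _)

lemma pow_smul_of_fix {m : H} {v w : A} (h1 : m • v = v + w) (h2 : m • w = w) (k : ℕ) : m ^ k • v = v + k • w := by
  induction k with
  | zero => simp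
  | succ k ih => rw [pow_succ', mul_smul, ih, smul_add, h1, smul_comm m k w, h2, add_assoc, succ_nsmul']

lemma pow_smul_fix {m : H} {a : A} (h : m • a = a) (k : ℕ) : m ^ k • a = a := by
  induction k with
  | zero => simp
  | succ k ih => rw [pow_succ', mul_smul, ih, h]

theorem unip_of_nilp [Finite A] (p : ℕ) (hA : ∀ a : A, p • a = 0) {x y : H} (hx : Quad A x) (hy : Quad A y)
    (hT : ∀ a : A, ∃ n : ℕ, (fun a => nn A x (nn A y a))^[n] a = 0) :
    ∀ l ∈ closure {x, y}, ∃ n : ℕ, ∀ a : A, l ^ (p ^ n) • a = a := by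
  let Good : AddSubgroup A → Prop := fun X =>
    (∀ l ∈ closure {x, y}, ∀ a ∈ X, l • a ∈ X) ∧ (∀ l ∈ closure {x, y}, ∃ n : ℕ, ∀ a ∈ X, l ^ (p ^ n) • a = a)
  have hbot : Good ⊥ := by
    constructor
    · intro l _ a ha
      rw [AddSubgroup.mem_bot] at ha ⊢
      rw [ha, smul_zero]
    · intro l _
      refine ⟨0, fun a ha => ?_⟩
      rw [AddSubgroup.mem_bot] at ha
      rw [ha, smul_zero]
  obtain ⟨X, hXmax⟩ := (Set.toFinite {X | Good X}).exists_maximal ⟨⊥, hbot⟩
  obtain ⟨hX, hmax⟩ := hXmax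
  obtain ⟨hinv, hun⟩ := hX
  by_cases htop : X = ⊤
  · intro l hl
    obtain ⟨n, hn⟩ := hun l hl
    exact ⟨n, fun a => hn a (by rw [htop]; trivial)⟩
  exfalso
  obtain ⟨v, hv, hv1, hv2⟩ := exists_fixed_rel' hx hy X hT htop
  have hLv : ∀ l ∈ closure {x, y}, l • v - v ∈ X := by
    intro l hl
    induction hl using Subgroup.closure_induction with
    | mem l hl =>
      rcases hl with rfl | hl
      · exact hv1
      · rw [Set.mem_singleton_iff] at hl; subst hl; exact hv2
    | one => simp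
    | mul l l' hl hl' ih ih' =>
      have : (l * l') • v - v = l • (l' • v - v) + (l • v - v) := by
        rw [mul_smul, smul_sub]; abel
      rw [this]
      exact add_mem (hinv l hl _ ih') ih
    | inv l hl ih =>
      have : l⁻¹ • v - v = - (l⁻¹ • (l • v - v)) := by
        rw [smul_sub, inv_smul_smul]; abel
      rw [this]
      exact neg_mem (hinv _ (inv_mem hl) _ ih)
  have hgood : Good (X ⊔ AddSubgroup.zmultiples v) := by
    constructor
    · intro l hl a ha
      obtain ⟨b, hb, c, hc, rfl⟩ := AddSubgroup.mem_sup.mp ha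
      obtain ⟨k, rfl⟩ := AddSubgroup.mem_zmultiples_iff.mp hc
      have : l • (b + k • v) = (l • b + k • (l • v - v)) + k • v := by
        rw [smul_add, smul_sub, smul_comm l k v]
        abel
      rw [this]
      exact AddSubgroup.mem_sup.mpr ⟨_, add_mem (hinv l hl b hb) (zsmul_mem (hLv l hl) k), _,
        AddSubgroup.mem_zmultiples_iff.mpr ⟨k, rfl⟩, rfl⟩
    · intro l hl
      obtain ⟨n, hn⟩ := hun l hl
      refine ⟨n + 1, ?_⟩
      have hm : l ^ (p ^ n) ∈ closure {x, y} := pow_mem hl _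
      have h1 : l ^ (p ^ n) • v = v + (l ^ (p ^ n) • v - v) := by abel
      have h2 := hn _ (hLv _ hm)
      have h3 := pow_smul_of_fix h1 h2 p
      rw [hA, add_zero, ← pow_mul, ← pow_succ] at h3
      intro a ha
      obtain ⟨b, hb, c, hc, rfl⟩ := AddSubgroup.mem_sup.mp ha
      obtain ⟨k, rfl⟩ := AddSubgroup.mem_zmultiples_iff.mp hc
      rw [smul_add, smul_comm _ k v, h3, pow_succ, pow_mul, pow_smul_fix (hn b hb)]
  have hle : X ≤ X ⊔ AddSubgroup.zmultiples v := le_sup_left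
  have := hmax hgood hle
  exact hv (this (AddSubgroup.mem_sup_right (AddSubgroup.mem_zmultiples v)))

end abstractAction

end Cfsg.Agent.H12.Dk
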