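import Mathlib
import Cfsg.Agent.H12.Dk14

set_option autoImplicit false
set_option linter.unusedSimpArgs false
set_option linter.unusedSectionVars false

namespace Cfsg.Agent.H12.Dk

open Subgroup Matrix

section abstractAction

variable {H A : Type*} [Group H] [AddCommGroup A] [DistribMulAction H A]

/-- transfer along a correspondence -/
lemma corr_closure {F : Type*} [Field F] (ι : F × F → A) {x y : H} {mx my : SpecialLinearGroup (Fin 2) F}
    (hx : ∀ v, x • ι v = ι (act mx v)) (hy : ∀ v, y • ι v = ι (act my v)) :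
    ∀ m ∈ closure {mx, my}, ∃ l ∈ closure {x, y}, ∀ v, l • ι v = ι (act m v) := by
  intro m hm
  induction hm using Subgroup.closure_induction with
  | mem m hm =>
    rcases hm with rfl | hm
    · exact ⟨x, subset_closure (by simp), hx⟩
    · rw [Set.mem_singleton_iff] at hm; subst hm
      exact ⟨y, subset_closure (by simp), hy⟩
  | one => exact ⟨1, one_mem _, fun v => by rw [one_smul, act_one]⟩
  | mul m m' _ _ ih ih' =>
    obtain ⟨l, hl, h⟩ := ih
    obtain ⟨l', hl', h'⟩ := ih'
    exact ⟨l * l', mul_mem hl hl', fun v => by rw [mul_smul, h', h, act_mul]⟩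
  | inv m _ ih =>
    obtain ⟨l, hl, h⟩ := ih
    refine ⟨l⁻¹, inv_mem hl, fun v => ?_⟩
    rw [inv_smul_eq_iff, h, ← act_mul, mul_inv_cancel, act_one]

theorem quad_pair [Finite A] (p : ℕ) [Fact p.Prime] (hp : p ≠ 2) (hA : ∀ a : A, p • a = 0) {x y : H}
    (hx : Quad A x) (hy : Quad A y)
    (hnp : ¬ ∀ l ∈ closure {x, y}, ∃ n : ℕ, ∀ a : A, l ^ (p ^ n) • a = a) :
    ∃ t1 ∈ closure {x, y}, ∃ t2 ∈ closure {x, y}, ∃ (e f : A) (c : ℤ), e ≠ 0 ∧ (c = 1 ∨ c = -1) ∧
      t1 • e = e ∧ t1 • f = f + e ∧ t2 • f = f ∧ t2 • e = e + c • f := by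
  have hT : ¬ ∀ a : A, ∃ n : ℕ, (fun a => nn A x (nn A y a))^[n] a = 0 := fun h => hnp (unip_of_nilp p hA hx hy h)
  let _ : Module (ZMod p) A := AddCommGroup.zmodModule hA
  let T : A →ₗ[ZMod p] A := ((nn A x).comp (nn A y)).toZModLinearMap p
  obtain ⟨F, _, _, _, β, φ, hβ, hφ, hmul⟩ := exists_field_embedding p T (by
    intro h
    apply hT
    intro a
    obtain ⟨n, hn⟩ := h a
    refine ⟨n, ?_⟩
    rw [Module.End.pow_apply] at hn
    exact hn)
  classical
  have hmul' : ∀ c, φ (β * c) = nn A x (nn A y (φ c)) := hmul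
  have hker : ∀ c, nn A x (φ c) = 0 := by
    intro c
    have : c = β * (β⁻¹ * c) := by rw [← mul_assoc, mul_inv_cancel₀ hβ, one_mul]
    rw [this, hmul', hx]
  let ι : F × F →+ A := φ.comp (AddMonoidHom.fst F F) + ((nn A y).comp φ).comp (AddMonoidHom.snd F F)
  have hι : ∀ v, ι v = φ v.1 + nn A y (φ v.2) := fun v => rfl
  have hιinj : Function.Injective ι := by
    rw [injective_iff_map_eq_zero]
    intro v hv
    rw [hι] at hv
    have h1 := congrArg (nn A x) hv
    rw [map_add, hker, zero_add, ← hmul', map_zero] at h1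
    have h2 : β * v.2 = 0 := hφ (by rw [h1, map_zero])
    have h3 : v.2 = 0 := (mul_eq_zero.mp h2).resolve_left hβ
    rw [h3, map_zero, map_zero, add_zero] at hv
    have h4 : v.1 = 0 := hφ (by rw [hv, map_zero])
    exact Prod.ext h4 h3
  have hxι : ∀ v, x • ι v = ι (act (xx β) v) := by
    intro v
    have h1 : x • ι v = ι v + nn A x (ι v) := by rw [nn_apply]; abel
    rw [h1, hι, map_add, hker, zero_add, ← hmul', hι]
    unfold act
    simp only [e00_xx, e01_xx, e10_xx, e11_xx, one_mul, zero_mul, zero_add, map_add]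
    abel
  have hyι : ∀ v, y • ι v = ι (act (yy 1) v) := by
    intro v
    have h1 : y • ι v = ι v + nn A y (ι v) := by rw [nn_apply]; abel
    rw [h1, hι, map_add, hy, add_zero, hι]
    unfold act
    simp only [e00_yy, e01_yy, e10_yy, e11_yy, one_mul, zero_mul, add_zero, map_add]
    abel
  obtain ⟨t1, ht1, t2, ht2, e, f, c, he, hc, h1, h2, h3, h4⟩ :=
    dickson_pair p hp (closure {xx β, yy 1}) hβ one_ne_zero (subset_closure (by simp)) (subset_closure (by simp))
  obtain ⟨l1, hl1, k1⟩ := corr_closure ι hxι hyι t1 ht1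
  obtain ⟨l2, hl2, k2⟩ := corr_closure ι hxι hyι t2 ht2
  refine ⟨l1, hl1, l2, hl2, ι e, ι f, if c = 1 then 1 else -1, ?_, ?_, ?_, ?_, ?_, ?_⟩
  · intro h
    exact he (hιinj (by rw [h, map_zero]))
  · split_ifs <;> simp
  · rw [k1, h1]
  · rw [k1, h2, map_add]
  · rw [k2, h3]
  · rw [k2, h4, map_add]
    rcases hc with rfl | rfl
    · simp
    · have : (-1 : F) ≠ 1 := by
        intro h
        have h2 : (2 : F) = 0 := by linear_combination (-1 : F) * h
        have h1 : ((2 : ℕ) : F) = 0 := by exact_mod_cast h2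
        rw [CharP.cast_eq_zero_iff F p] at h1
        exact hp ((Nat.prime_dvd_prime_iff_eq Fact.out Nat.prime_two).mp h1)
      rw [if_neg this]
      simp

end abstractAction

end Cfsg.Agent.H12.Dk
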