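import Mathlib
import Cfsg.Agent.H12.Dk15

set_option autoImplicit false
set_option linter.unusedSimpArgs false
set_option linter.unusedSectionVars false

namespace Cfsg.Agent.H12.Dk

open Subgroup Matrix

section gen

variable {F : Type*} [Field F]

lemma xx_mul (s t : F) : xx s * xx t = xx (s + t) := by
  apply sl_ext <;> simp [add_comm]

lemma yy_mul (s t : F) : yy s * yy t = yy (s + t) := by
  apply sl_ext <;> simp

lemma xx_pow (s : F) (k : ℕ) : xx s ^ k = xx (k * s) := by
  induction k with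
  | zero => apply sl_ext <;> simp
  | succ k ih => rw [pow_succ, ih, xx_mul]; congr 1; push_cast; ring

lemma yy_pow (s : F) (k : ℕ) : yy s ^ k = yy (k * s) := by
  induction k with
  | zero => apply sl_ext <;> simp
  | succ k ih => rw [pow_succ, ih, yy_mul]; congr 1; push_cast; ring

lemma act_inj {m m' : SpecialLinearGroup (Fin 2) F} (h : ∀ v, act m v = act m' v) : m = m' := by
  have h1 := h (1, 0)
  have h2 := h (0, 1)
  unfold act at h1 h2
  simp only [mul_one, mul_zero, add_zero, zero_add, Prod.mk.injEq] at h1 h2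
  exact sl_ext h1.1 h2.1 h1.2 h2.2

/-- decomposition -/
lemma mem_of_xx_yy (K : Subgroup (SpecialLinearGroup (Fin 2) F)) (hx : ∀ s, xx s ∈ K) (hy : ∀ s, yy s ∈ K) : K = ⊤ := by
  have key : ∀ g : SpecialLinearGroup (Fin 2) F, e10 g ≠ 0 → g ∈ K := by
    intro g hg
    have hd := sl_det g
    have : g = xx ((e00 g - 1) / e10 g) * yy (e10 g) * xx ((e11 g - 1) / e10 g) := by
      apply sl_ext
      · simp; field_simp; ring
      · simp; field_simp; linear_combination (-1 : F) * hd
      · simp
      · simp; field_simp; ring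
    rw [this]
    exact mul_mem (mul_mem (hx _) (hy _)) (hx _)
  rw [eq_top_iff]
  intro g _
  by_cases hg : e10 g = 0
  · have hd := sl_det g
    have h0 : e00 g ≠ 0 := by
      intro h
      rw [h, hg] at hd
      simp at hd
    have h1 : yy 1 * g ∈ K := key _ (by simp [hg, h0])
    have h2 := mul_mem (inv_mem (hy 1)) h1
    rwa [inv_mul_cancel_left] at h2
  · exact key g hg

end gen

lemma closure_xx_yy (p : ℕ) [Fact p.Prime] {c : ZMod p} (hc : c ≠ 0) :
    Subgroup.closure {xx (1 : ZMod p), yy c} = ⊤ := by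
  apply mem_of_xx_yy
  · intro s
    have : xx s = xx (1 : ZMod p) ^ s.val := by
      rw [xx_pow, mul_one, ZMod.natCast_zmod_val]
    rw [this]
    exact pow_mem (subset_closure (by simp)) _
  · intro s
    have : yy s = yy c ^ (s / c).val := by
      rw [yy_pow, ZMod.natCast_zmod_val, div_mul_cancel₀ _ hc]
    rw [this]
    exact pow_mem (subset_closure (by simp)) _

section hom

variable {Γ A : Type*} [Group Γ] [AddCommGroup A] [DistribMulAction Γ A] {F : Type*} [Field F]

theorem exists_hom_sl2 (ι : F × F → A) (hι : Function.Injective ι) (S : Set Γ) (hS : closure S = ⊤)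
    (h : ∀ s ∈ S, ∃ m : SpecialLinearGroup (Fin 2) F, ∀ v, s • ι v = ι (act m v)) :
    ∃ ρ : Γ →* SpecialLinearGroup (Fin 2) F, ∀ g v, g • ι v = ι (act (ρ g) v) := by
  have hall : ∀ g : Γ, ∃ m : SpecialLinearGroup (Fin 2) F, ∀ v, g • ι v = ι (act m v) := by
    intro g
    have hg : g ∈ closure S := by rw [hS]; trivial
    induction hg using Subgroup.closure_induction with
    | mem g hg => exact h g hg
    | one => exact ⟨1, fun v => by rw [one_smul, act_one]⟩
    | mul l l' _ _ ih ih' =>
      obtain ⟨m, h⟩ := ih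
      obtain ⟨m', h'⟩ := ih'
      exact ⟨m * m', fun v => by rw [mul_smul, h', h, act_mul]⟩
    | inv l _ ih =>
      obtain ⟨m, h⟩ := ih
      refine ⟨m⁻¹, fun v => ?_⟩
      rw [inv_smul_eq_iff, h, ← act_mul, mul_inv_cancel, act_one]
  choose ρ hρ using hall
  refine ⟨MonoidHom.mk' ρ ?_, hρ⟩
  intro a b
  apply act_inj
  intro v
  apply hι
  rw [← hρ, mul_smul, hρ b, hρ a, act_mul]

end hom

section pair

variable {H A : Type*} [Group H] [AddCommGroup A] [DistribMulAction H A]

/-- From a "transvection pair" to a natural `SL₂(p)`-module. -/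
theorem pair_natural (p : ℕ) [Fact p.Prime] (hA : ∀ a : A, p • a = 0) {t1 t2 : H} {e f : A} {c : ℤ}
    (he : e ≠ 0) (hc : c = 1 ∨ c = -1) (h1 : t1 • e = e) (h2 : t1 • f = f + e) (h3 : t2 • f = f)
    (h4 : t2 • e = e + c • f) :
    ∃ (ι : ZMod p × ZMod p →+ A), Function.Injective ι ∧ ι (1, 0) = e ∧ ι (0, 1) = f ∧
      (∀ v, t1 • ι v = ι (act (xx 1) v)) ∧ (∀ v, t2 • ι v = ι (act (yy (c : ZMod p)) v)) := by
  let _ : Module (ZMod p) A := AddCommGroup.zmodModule hA
  let ι : ZMod p × ZMod p →+ A :=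
    AddMonoidHom.mk' (fun v => v.1 • e + v.2 • f) (by
      intro v w
      simp only [Prod.fst_add, Prod.snd_add, add_smul]
      abel)
  have hι : ∀ v, ι v = v.1 • e + v.2 • f := fun v => rfl
  have hsm : ∀ (t : H) (i : ZMod p) (a : A), t • (i • a) = i • (t • a) := by
    intro t i a
    exact ZMod.map_smul (DistribSMul.toAddMonoidHom A t) i a
  have ht1 : ∀ v, t1 • ι v = ι (act (xx 1) v) := by
    intro v
    rw [hι, hι, smul_add, hsm, hsm, h1, h2]
    unfold act
    simp only [e00_xx, e01_xx, e10_xx, e11_xx, one_mul, zero_mul, zero_add, smul_add, add_smul]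
    abel
  have ht2 : ∀ v, t2 • ι v = ι (act (yy (c : ZMod p)) v) := by
    intro v
    rw [hι, hι, smul_add, hsm, hsm, h3, h4]
    unfold act
    simp only [e00_yy, e01_yy, e10_yy, e11_yy, one_mul, zero_mul, add_zero, smul_add, add_smul, mul_smul,
      Int.cast_smul_eq_zsmul]
    rw [smul_comm c v.1 f]
    abel
  refine ⟨ι, ?_, by simp [hι], by simp [hι], ht1, ht2⟩
  rw [injective_iff_map_eq_zero]
  intro v hv
  have h5 := ht1 v
  rw [hv, smul_zero, hι] at h5
  rw [hι] at hv
  unfold act at h5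
  simp only [e00_xx, e01_xx, e10_xx, e11_xx, one_mul, zero_mul, zero_add, add_smul] at h5
  have h6 : v.2 • e = 0 := by
    have : v.2 • e = (v.1 • e + v.2 • e + v.2 • f) - (v.1 • e + v.2 • f) := by abel
    rw [this, ← h5, hv, sub_zero]
  have hz : ∀ (i : ZMod p) (a : A), i • a = 0 → a ≠ 0 → i = 0 := by
    intro i a h ha
    by_contra hi
    apply ha
    calc a = (i⁻¹ * i) • a := by rw [inv_mul_cancel₀ hi, one_smul]
      _ = 0 := by rw [mul_smul, h, smul_zero]
  have h7 : v.2 = 0 := hz _ _ h6 he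
  rw [h7, zero_smul, add_zero] at hv
  have h8 : v.1 = 0 := hz _ _ hv he
  exact Prod.ext h8 h7

end pair

end Cfsg.Agent.H12.Dk
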