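import Mathlib
import Cfsg.Agent.H12.Dk16
import Cfsg.Prelude.Def_Transfer

set_option autoImplicit false
set_option linter.unusedSimpArgs false
set_option linter.unusedSectionVars false

namespace Cfsg.Agent.H12.Dk

open Subgroup Matrix
open scoped commutatorElement

variable {G : Type*} [Group G]

/-- natural `SL₂(p)`-module data inside a group -/
structure NatData (p : ℕ) [Fact p.Prime] (G : Type*) [Group G] (Γ : Type*) [Group Γ] where
  j : Γ →* G
  ρ : Γ →* SpecialLinearGroup (Fin 2) (ZMod p)
  ι : ZMod p × ZMod p → G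
  j_inj : Function.Injective j
  ρ_surj : Function.Surjective ρ
  ι_inj : Function.Injective ι
  ι_add : ∀ v w, ι (v + w) = ι v * ι w
  compat : ∀ k v, j k * ι v * (j k)⁻¹ = ι (act (ρ k) v)

section conjAction

variable (V : Subgroup G) (hc : ∀ a ∈ V, ∀ b ∈ V, a * b = b * a)

/-- additive commutative group structure on an abelian subgroup -/
@[reducible] def addV : AddCommGroup (Additive V) :=
  { (inferInstance : AddGroup (Additive V)) with
    add_comm := fun a b => by
      apply Additive.toMul.injective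
      exact Subtype.ext (hc _ (Additive.toMul a).2 _ (Additive.toMul b).2) }

/-- conjugation action of the normalizer -/
@[reducible] def actV : DistribMulAction (normalizer (V : Set G)) (Additive V) where
  smul n a := Additive.ofMul ⟨(n : G) * ((Additive.toMul a : V) : G) * (n : G)⁻¹,
    (mem_normalizer_iff.mp n.2 _).mp (Additive.toMul a).2⟩
  one_smul a := by
    apply Additive.toMul.injective
    apply Subtype.ext
    change (1 : G) * _ * (1 : G)⁻¹ = _
    simp
  mul_smul m n a := by
    apply Additive.toMul.injective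
    apply Subtype.ext
    change ((m : G) * (n : G)) * _ * ((m : G) * (n : G))⁻¹ = (m : G) * ((n : G) * _ * (n : G)⁻¹) * (m : G)⁻¹
    group
  smul_zero n := by
    apply Additive.toMul.injective
    apply Subtype.ext
    change (n : G) * 1 * (n : G)⁻¹ = 1
    simp
  smul_add n a b := by
    apply Additive.toMul.injective
    apply Subtype.ext
    change (n : G) * (((Additive.toMul a : V) : G) * ((Additive.toMul b : V) : G)) * (n : G)⁻¹ =
      ((n : G) * ((Additive.toMul a : V) : G) * (n : G)⁻¹) * ((n : G) * ((Additive.toMul b : V) : G) * (n : G)⁻¹)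
    group

end conjAction

/-- `x` acts quadratically on `V` -/
def QuadOn (x : G) (V : Subgroup G) : Prop := ∀ v ∈ V, x * (x * v * x⁻¹ * v⁻¹) * x⁻¹ = x * v * x⁻¹ * v⁻¹

lemma quadOn_of_comm {x : G} {V : Subgroup G} (h : ⁅⁅V, zpowers x⁆, zpowers x⁆ = ⊥) : QuadOn x V := by
  intro v hv
  have h1 : ⁅v, x⁆ ∈ ⁅V, zpowers x⁆ := commutator_mem_commutator hv (mem_zpowers x)
  have h2 : ⁅⁅v, x⁆⁻¹, x⁆ ∈ ⁅⁅V, zpowers x⁆, zpowers x⁆ := commutator_mem_commutator (inv_mem h1) (mem_zpowers x)
  rw [h, mem_bot, commutatorElement_def, commutatorElement_def] at h2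
  have h3 : (v * x * v⁻¹ * x⁻¹)⁻¹ = x * v * x⁻¹ * v⁻¹ := by group
  rw [h3] at h2
  have h4 : x * v * x⁻¹ * v⁻¹ * x = x * (x * v * x⁻¹ * v⁻¹) := by
    have := mul_inv_eq_one.mp h2
    have h5 := mul_inv_eq_iff_eq_mul.mp this
    exact h5
  rw [← h4]
  group

theorem exists_natData [Finite G] (p : ℕ) [Fact p.Prime] (hp : p ≠ 2) (V : Subgroup G)
    (hV : Cfsg.IsElementaryAbelian p V) {x y : G} (hx : x ∈ normalizer (V : Set G)) (hy : y ∈ normalizer (V : Set G))
    (qx : QuadOn x V) (qy : QuadOn y V)
    (hnp : ∃ l ∈ closure {x, y}, ∀ n : ℕ, l ^ (p ^ n) ∉ centralizer (V : Set G)) :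
    ∃ (K : Subgroup G) (D : NatData p G K), D.j = K.subtype ∧ K ≤ closure {x, y} ∧ ∀ v, D.ι v ∈ V := by
  have hc : ∀ a ∈ V, ∀ b ∈ V, a * b = b * a := by
    intro a ha b hb
    have := hV.1.is_comm.comm ⟨a, ha⟩ ⟨b, hb⟩
    exact congrArg Subtype.val this
  letI : AddCommGroup (Additive V) := addV V hc
  letI : DistribMulAction (normalizer (V : Set G)) (Additive V) := actV V
  have hsm : ∀ (n : normalizer (V : Set G)) (a : Additive V),
      ((Additive.toMul (n • a) : V) : G) = (n : G) * ((Additive.toMul a : V) : G) * (n : G)⁻¹ := fun n a => rfl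
  have hA : ∀ a : Additive V, p • a = 0 := by
    intro a
    apply Additive.toMul.injective
    apply Subtype.ext
    change ((Additive.toMul a ^ p : V) : G) = 1
    rw [Subgroup.coe_pow]
    exact hV.2 _ (Additive.toMul a).2
  have hquad : ∀ (z : G) (hz : z ∈ normalizer (V : Set G)), QuadOn z V →
      Quad (Additive V) (⟨z, hz⟩ : normalizer (V : Set G)) := by
    intro z hz qz a
    rw [nn_apply, sub_eq_zero, nn_apply]
    apply Additive.toMul.injective
    apply Subtype.ext
    rw [hsm]
    have h0 : ((Additive.toMul ((⟨z, hz⟩ : normalizer (V : Set G)) • a - a) : V) : G) =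
        z * ((Additive.toMul a : V) : G) * z⁻¹ * ((Additive.toMul a : V) : G)⁻¹ := by
      rw [toMul_sub, Subgroup.coe_div, div_eq_mul_inv, hsm]
    rw [h0]
    exact qz _ (Additive.toMul a).2
  have hclos : ∀ l ∈ closure {(⟨x, hx⟩ : normalizer (V : Set G)), ⟨y, hy⟩}, (l : G) ∈ closure {x, y} := by
    intro l hl
    have h1 : (normalizer (V : Set G)).subtype l ∈ (closure {(⟨x, hx⟩ : normalizer (V : Set G)), ⟨y, hy⟩}).map
        (normalizer (V : Set G)).subtype := mem_map_of_mem _ hl
    rw [MonoidHom.map_closure, Set.image_pair] at h1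
    exact h1
  have hnp' : ¬ ∀ l ∈ closure {(⟨x, hx⟩ : normalizer (V : Set G)), ⟨y, hy⟩}, ∃ n : ℕ, ∀ a : Additive V,
      l ^ (p ^ n) • a = a := by
    intro h
    obtain ⟨l, hl, hln⟩ := hnp
    have hl' : l ∈ (closure {(⟨x, hx⟩ : normalizer (V : Set G)), ⟨y, hy⟩}).map (normalizer (V : Set G)).subtype := by
      rw [MonoidHom.map_closure, Set.image_pair]
      exact hl
    obtain ⟨l', hl'', rfl⟩ := mem_map.mp hl'
    obtain ⟨n, hn⟩ := h l' hl''
    apply hln n
    rw [mem_centralizer_iff]
    intro v hv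
    have h1 := congrArg (fun a => ((Additive.toMul a : V) : G)) (hn (Additive.ofMul ⟨v, hv⟩))
    simp only [hsm] at h1
    change ((l' ^ (p ^ n) : normalizer (V : Set G)) : G) * v * ((l' ^ (p ^ n) : normalizer (V : Set G)) : G)⁻¹ = v at h1
    rw [Subgroup.coe_pow] at h1
    rw [Subgroup.coe_subtype]
    exact (mul_inv_eq_iff_eq_mul.mp h1).symm
  obtain ⟨t1, ht1, t2, ht2, e, f, c, he, hcc, h1, h2, h3, h4⟩ :=
    quad_pair p hp hA (hquad x hx qx) (hquad y hy qy) hnp'
  obtain ⟨ι, hιinj, -, -, k1, k2⟩ := pair_natural p hA he hcc h1 h2 h3 h4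
  have hc0 : (c : ZMod p) ≠ 0 := by
    rcases hcc with rfl | rfl
    · simp
    · simp
  obtain ⟨ρ, hρ⟩ := exists_hom_sl2 (Γ := (closure {t1, t2} : Subgroup (normalizer (V : Set G)))) (F := ZMod p) ι hιinj
    (((↑) : (closure {t1, t2} : Subgroup (normalizer (V : Set G))) → normalizer (V : Set G)) ⁻¹' {t1, t2})
    (closure_closure_coe_preimage) (by
      intro s hs
      rcases hs with hs | hs
      · refine ⟨xx 1, fun v => ?_⟩
        rw [Subgroup.smul_def, hs, k1]
      · rw [Set.mem_singleton_iff] at hs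
        refine ⟨yy (c : ZMod p), fun v => ?_⟩
        rw [Subgroup.smul_def, hs, k2])
  have hρ1 : ρ ⟨t1, subset_closure (by simp)⟩ = xx 1 := by
    apply act_inj
    intro v
    apply hιinj
    rw [← hρ, Subgroup.smul_def, k1]
  have hρ2 : ρ ⟨t2, subset_closure (by simp)⟩ = yy (c : ZMod p) := by
    apply act_inj
    intro v
    apply hιinj
    rw [← hρ, Subgroup.smul_def, k2]
  have hsurj : Function.Surjective ρ := by
    rw [← MonoidHom.range_eq_top, eq_top_iff, ← closure_xx_yy p hc0, closure_le]
    rintro m (rfl | hm)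
    · exact ⟨_, hρ1⟩
    · rw [Set.mem_singleton_iff] at hm
      subst hm
      exact ⟨_, hρ2⟩
  let E := (closure {t1, t2} : Subgroup (normalizer (V : Set G))).equivMapOfInjective (normalizer (V : Set G)).subtype
    (subtype_injective _)
  have hE : ∀ k, (((E.symm k : (closure {t1, t2} : Subgroup (normalizer (V : Set G)))) : normalizer (V : Set G)) : G) =
      (k : G) := by
    intro k
    obtain ⟨k, rfl⟩ := E.surjective k
    rw [MulEquiv.symm_apply_apply]
    rfl
  refine ⟨(closure {t1, t2} : Subgroup (normalizer (V : Set G))).map (normalizer (V : Set G)).subtype,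
    { j := Subgroup.subtype _
      ρ := ρ.comp E.symm.toMonoidHom
      ι := fun v => ((Additive.toMul (ι v) : V) : G)
      j_inj := subtype_injective _
      ρ_surj := hsurj.comp E.symm.surjective
      ι_inj := fun v w h => hιinj (Additive.toMul.injective (Subtype.ext h))
      ι_add := fun v w => by rw [map_add]; rfl
      compat := fun k v => by
        have := hρ (E.symm k) v
        have h5 := congrArg (fun a => ((Additive.toMul a : V) : G)) this
        simp only [Subgroup.smul_def, hsm, hE] at h5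
        exact h5 }, rfl, ?_, fun v => (Additive.toMul (ι v) : V).2⟩
  rintro _ ⟨k, hk, rfl⟩
  apply hclos
  have : closure {t1, t2} ≤ closure {(⟨x, hx⟩ : normalizer (V : Set G)), ⟨y, hy⟩} := by
    rw [closure_le]
    rintro m (rfl | hm)
    · exact ht1
    · rw [Set.mem_singleton_iff] at hm
      subst hm
      exact ht2
  exact this hk

end Cfsg.Agent.H12.Dk
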