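import Mathlib
import Cfsg.Agent.H12.Dk17
import Cfsg.Agent.H12.Cores
import Cfsg.Agent.S0199
import Cfsg.Agent.Lib.Helper27.Involves

set_option autoImplicit false
set_option linter.unusedSimpArgs false
set_option linter.unusedSectionVars false

namespace Cfsg.Agent.H12.Dk

open Subgroup Matrix
open scoped commutatorElement

variable {G : Type*} [Group G]

/-- Baer–Suzuki, element form -/
theorem baer_suzuki_elt {Q : Type*} [Group Q] [Finite Q] (p : ℕ) [Fact p.Prime] {x : Q} (hx : ∃ n : ℕ, x ^ (p ^ n) = 1)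
    (hx' : x ∉ Cfsg.pCore p Q) : ∃ g : Q, ∃ l ∈ closure {x, g * x * g⁻¹}, ∀ n : ℕ, l ^ (p ^ n) ≠ 1 := by
  by_contra hcon
  push Not at hcon
  apply hx'
  have hX : IsPGroup p (zpowers x) := by
    obtain ⟨n, hn⟩ := hx
    rintro ⟨y, hy⟩
    obtain ⟨k, rfl⟩ := mem_zpowers_iff.mp hy
    refine ⟨n, Subtype.ext ?_⟩
    change (x ^ k) ^ (p ^ n) = 1
    rw [← zpow_natCast, ← _root_.zpow_mul, mul_comm, _root_.zpow_mul, zpow_natCast, hn, _root_.one_zpow]
  obtain ⟨N, hN, hNp, hle⟩ := Cfsg.Agent.S0199.result (zpowers x) hX (by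
    intro g
    have e : zpowers x ⊔ (zpowers x).map (MulAut.conj g).toMonoidHom = closure {x, g * x * g⁻¹} := by
      rw [MonoidHom.map_zpowers, zpowers_eq_closure, zpowers_eq_closure, ← Subgroup.closure_union]
      rfl
    rw [e]
    rintro ⟨l, hl⟩
    obtain ⟨n, hn⟩ := hcon g l hl
    exact ⟨n, Subtype.ext hn⟩)
  exact Cfsg.Agent.H12.le_pCore hN hNp (hle (mem_zpowers x))

lemma QuadOn.conj {x : G} {V : Subgroup G} (h : QuadOn x V) {g : G} (hg : g ∈ normalizer (V : Set G)) :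
    QuadOn (g * x * g⁻¹) V := by
  intro v hv
  have hv' : g⁻¹ * v * g ∈ V := by
    have := (mem_normalizer_iff.mp (inv_mem hg) v).mp hv
    rwa [inv_inv] at this
  have h1 := h _ hv'
  have h2 := congrArg (fun z => g * z * g⁻¹) h1
  have e1 : g * x * g⁻¹ * (g * x * g⁻¹ * v * (g * x * g⁻¹)⁻¹ * v⁻¹) * (g * x * g⁻¹)⁻¹ =
      g * (x * (x * (g⁻¹ * v * g) * x⁻¹ * (g⁻¹ * v * g)⁻¹) * x⁻¹) * g⁻¹ := by group
  have e2 : g * x * g⁻¹ * v * (g * x * g⁻¹)⁻¹ * v⁻¹ = g * (x * (g⁻¹ * v * g) * x⁻¹ * (g⁻¹ * v * g)⁻¹) * g⁻¹ := by group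
  rw [e1, e2, h2]

/-- a surjection from a subgroup gives a section in the explicit form -/
lemma section_of_surj {X : Type*} [Group X] (K : Subgroup G) (ρ : K →* X) (hρ : Function.Surjective ρ) :
    ∃ (L : Subgroup G) (_ : (L.subgroupOf K).Normal), Nonempty ((K ⧸ L.subgroupOf K) ≃* X) := by
  have hk : ((ρ.ker).map K.subtype).subgroupOf K = ρ.ker := by
    ext x
    rw [mem_subgroupOf, mem_map]
    constructor
    · rintro ⟨y, hy, hyx⟩
      have : y = x := Subtype.ext hyx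
      rwa [← this]
    · intro hx
      exact ⟨x, hx, rfl⟩
  have hn : (((ρ.ker).map K.subtype).subgroupOf K).Normal := by
    rw [hk]; infer_instance
  exact ⟨(ρ.ker).map K.subtype, hn,
    ⟨(QuotientGroup.quotientMulEquivOfEq hk).trans (QuotientGroup.quotientKerEquivOfSurjective ρ hρ)⟩⟩

end Cfsg.Agent.H12.Dk
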