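import Mathlib
import Cfsg.Agent.H12.Dk18

set_option autoImplicit false
set_option linter.unusedSimpArgs false
set_option linter.unusedSectionVars false

namespace Cfsg.Agent.H12.Dk

open Subgroup Matrix

variable {F : Type*} [Field F]

/-- the natural action as an instance (local use only) -/
@[reducible] def actInst : DistribMulAction (SpecialLinearGroup (Fin 2) F) (F × F) where
  smul g v := act g v
  one_smul v := act_one v
  mul_smul g h v := act_mul g h v
  smul_zero g := by
    change act g 0 = 0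
    unfold act; simp
  smul_add g v w := act_add g v w

lemma tr_eq_two_of_pow (p : ℕ) [Fact p.Prime] [CharP F p] {x : SpecialLinearGroup (Fin 2) F} {n : ℕ}
    (h : x ^ (p ^ n) = 1) : tr x = 2 := by
  have : CharP (Matrix (Fin 2) (Fin 2) F) p := Matrix.charP p
  have h1 : ((x : Matrix (Fin 2) (Fin 2) F) - 1) ^ (p ^ n) = 0 := by
    have h0 : (x : Matrix (Fin 2) (Fin 2) F) ^ (p ^ n) = 1 := by
      have := congrArg (fun z : SpecialLinearGroup (Fin 2) F => (z : Matrix (Fin 2) (Fin 2) F)) h
      simpa using this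
    rw [sub_pow_char_pow_of_commute p n (Commute.one_right _), one_pow, h0, sub_self]
  have h2 : IsNilpotent ((x : Matrix (Fin 2) (Fin 2) F) - 1) := ⟨_, h1⟩
  have h3 := (Matrix.isNilpotent_trace_of_isNilpotent h2).eq_zero
  rw [Matrix.trace_sub, Matrix.trace_fin_two, Matrix.trace_one] at h3
  simp only [Fintype.card_fin, Nat.cast_ofNat] at h3
  unfold tr e00 e11
  exact sub_eq_zero.mp h3

lemma quad_of_tr_two {x : SpecialLinearGroup (Fin 2) F} (h : tr x = 2) (v : F × F) :
    act x (act x v - v) - (act x v - v) = 0 := by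
  have hd := sl_det x
  unfold tr at h
  unfold act
  ext
  · simp only [Prod.fst_sub, Prod.snd_sub, Prod.fst_zero]
    linear_combination (e00 x * v.1 + e01 x * v.2) * h - v.1 * hd
  · simp only [Prod.fst_sub, Prod.snd_sub, Prod.snd_zero]
    linear_combination (e10 x * v.1 + e11 x * v.2) * h - v.2 * hd

lemma eq_one_of_fix {k t : SpecialLinearGroup (Fin 2) F} {e f : F × F} (he : e ≠ 0) (h1 : act t e = e)
    (h2 : act t f = f + e) (k1 : act k e = e) (k2 : act k f = f) : k = 1 := by
  have hdet : e.1 * f.2 - e.2 * f.1 ≠ 0 := by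
    intro h
    apply he
    unfold act at h1 h2
    have a1 := congrArg Prod.fst h1
    have a2 := congrArg Prod.snd h1
    have b1 := congrArg Prod.fst h2
    have b2 := congrArg Prod.snd h2
    simp only [Prod.fst_add, Prod.snd_add] at a1 a2 b1 b2
    -- e.1 * (t f) - f.1 * (t e) etc.
    have c1 : e.1 * e.1 = 0 := by
      linear_combination (-e.1) * b1 + f.1 * a1 + e01 t * h
    have c2 : e.2 * e.2 = 0 := by
      linear_combination (-e.2) * b2 + f.2 * a2 - e10 t * h
    exact Prod.ext (mul_self_eq_zero.mp c1) (mul_self_eq_zero.mp c2)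
  unfold act at k1 k2
  have a1 := congrArg Prod.fst k1
  have a2 := congrArg Prod.snd k1
  have b1 := congrArg Prod.fst k2
  have b2 := congrArg Prod.snd k2
  simp only at a1 a2 b1 b2
  apply sl_ext
  · rw [e00_one]
    have : (e00 k - 1) * (e.1 * f.2 - e.2 * f.1) = 0 := by linear_combination f.2 * a1 - e.2 * b1
    exact sub_eq_zero.mp ((mul_eq_zero.mp this).resolve_right hdet)
  · rw [e01_one]
    have : (e01 k) * (e.1 * f.2 - e.2 * f.1) = 0 := by linear_combination (-f.1) * a1 + e.1 * b1
    exact (mul_eq_zero.mp this).resolve_right hdet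
  · rw [e10_one]
    have : (e10 k) * (e.1 * f.2 - e.2 * f.1) = 0 := by linear_combination f.2 * a2 - e.2 * b2
    exact (mul_eq_zero.mp this).resolve_right hdet
  · rw [e11_one]
    have : (e11 k - 1) * (e.1 * f.2 - e.2 * f.1) = 0 := by linear_combination (-f.1) * a2 + e.1 * b2
    exact sub_eq_zero.mp ((mul_eq_zero.mp this).resolve_right hdet)

/-- Dickson: two `p`-elements of `SL₂(F)` not generating a `p`-group generate a subgroup containing `SL₂(p)`. -/
theorem dickson_sl2p [Finite F] (p : ℕ) [Fact p.Prime] [CharP F p] (hp : p ≠ 2) {x y : SpecialLinearGroup (Fin 2) F}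
    (hx : ∃ n : ℕ, x ^ (p ^ n) = 1) (hy : ∃ n : ℕ, y ^ (p ^ n) = 1)
    (hl : ∃ l ∈ closure {x, y}, ∀ n : ℕ, l ^ (p ^ n) ≠ 1) :
    ∃ K : Subgroup (SpecialLinearGroup (Fin 2) F), K ≤ closure {x, y} ∧
      Nonempty (K ≃* SpecialLinearGroup (Fin 2) (ZMod p)) := by
  letI : DistribMulAction (SpecialLinearGroup (Fin 2) F) (F × F) := actInst
  have hsm : ∀ (g : SpecialLinearGroup (Fin 2) F) (v : F × F), g • v = act g v := fun g v => rfl
  have hA : ∀ a : F × F, p • a = 0 := by
    intro a
    ext <;> simp [CharP.cast_eq_zero F p]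
  have hq : ∀ z : SpecialLinearGroup (Fin 2) F, (∃ n : ℕ, z ^ (p ^ n) = 1) → Quad (F × F) z := by
    rintro z ⟨n, hn⟩ a
    rw [nn_apply, nn_apply, hsm, hsm]
    exact quad_of_tr_two (tr_eq_two_of_pow p hn) a
  obtain ⟨t1, ht1, t2, ht2, e, f, c, he, hcc, h1, h2, h3, h4⟩ := quad_pair p hp hA (hq x hx) (hq y hy) (by
    intro h
    obtain ⟨l, hl, hln⟩ := hl
    obtain ⟨n, hn⟩ := h l hl
    apply hln n
    apply act_inj
    intro v
    rw [act_one]
    exact hn v)
  obtain ⟨ι, hιinj, hιe, hιf, k1, k2⟩ := pair_natural p hA he hcc h1 h2 h3 h4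
  have hc0 : (c : ZMod p) ≠ 0 := by
    rcases hcc with rfl | rfl
    · simp
    · simp
  obtain ⟨ρ, hρ⟩ := exists_hom_sl2 (Γ := (closure {t1, t2} : Subgroup (SpecialLinearGroup (Fin 2) F))) (F := ZMod p) ι hιinj
    (((↑) : (closure {t1, t2} : Subgroup (SpecialLinearGroup (Fin 2) F)) → SpecialLinearGroup (Fin 2) F) ⁻¹' {t1, t2})
    (closure_closure_coe_preimage) (by
      intro s hs
      rcases hs with hs | hs
      · refine ⟨xx 1, fun v => ?_⟩
        rw [Subgroup.smul_def, hs, k1]
      · rw [Set.mem_singleton_iff] at hs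
        refine ⟨yy (c : ZMod p), fun v => ?_⟩
        rw [Subgroup.smul_def, hs, k2])
  have hρ1 : ρ ⟨t1, subset_closure (by simp)⟩ = xx 1 := by
    apply act_inj
    intro v
    apply hιinj
    rw [← hρ, Subgroup.smul_def, k1]
  have hρ2 : ρ ⟨t2, subset_closure (by simp)⟩ = yy (c : ZMod p) := by
    apply act_inj
    intro v
    apply hιinj
    rw [← hρ, Subgroup.smul_def, k2]
  have hsurj : Function.Surjective ρ := by
    rw [← MonoidHom.range_eq_top, eq_top_iff, ← closure_xx_yy p hc0, closure_le]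
    rintro m (rfl | hm)
    · exact ⟨_, hρ1⟩
    · rw [Set.mem_singleton_iff] at hm
      subst hm
      exact ⟨_, hρ2⟩
  have hinj : Function.Injective ρ := by
    rw [injective_iff_map_eq_one]
    intro k hk
    have h5 := hρ k
    rw [hk] at h5
    simp only [act_one, Subgroup.smul_def, hsm] at h5
    apply Subtype.ext
    exact eq_one_of_fix he h1 h2 (by rw [← hιe]; exact h5 _) (by rw [← hιf]; exact h5 _)
  refine ⟨closure {t1, t2}, ?_, ⟨MulEquiv.ofBijective ρ ⟨hinj, hsurj⟩⟩⟩
  rw [closure_le]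
  rintro m (rfl | hm)
  · exact ht1
  · rw [Set.mem_singleton_iff] at hm
    subst hm
    exact ht2

end Cfsg.Agent.H12.Dk
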