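import Mathlib
import Cfsg.Agent.H12.Dk18
import Cfsg.Prelude.Def_PLocal
import Cfsg.Prelude.Def_LocalEven

set_option autoImplicit false
set_option linter.unusedSimpArgs false
set_option linter.unusedSectionVars false

namespace Cfsg.Agent.H12.Dk

open Subgroup Matrix

section aff

variable {F : Type*} [Field F]

/-- affine matrices -/
def aff (m : SpecialLinearGroup (Fin 2) F) (v : F × F) : SpecialLinearGroup (Fin 3) F :=
  ⟨!![e00 m, e01 m, v.1; e10 m, e11 m, v.2; 0, 0, 1], by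
    rw [det_fin_three]
    simp
    linear_combination sl_det m⟩

lemma aff_coe (m : SpecialLinearGroup (Fin 2) F) (v : F × F) :
    (aff m v : Matrix (Fin 3) (Fin 3) F) = !![e00 m, e01 m, v.1; e10 m, e11 m, v.2; 0, 0, 1] := rfl

lemma aff_mul (m m' : SpecialLinearGroup (Fin 2) F) (v v' : F × F) :
    aff m v * aff m' v' = aff (m * m') (v + act m v') := by
  apply Matrix.SpecialLinearGroup.ext
  intro i j
  simp only [Matrix.SpecialLinearGroup.coe_mul, aff_coe]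
  unfold act
  fin_cases i <;> fin_cases j <;> simp [Matrix.mul_apply, Fin.sum_univ_three] <;> ring

lemma aff_one : aff (1 : SpecialLinearGroup (Fin 2) F) 0 = 1 := by
  apply Matrix.SpecialLinearGroup.ext
  intro i j
  simp only [aff_coe, Matrix.SpecialLinearGroup.coe_one]
  fin_cases i <;> fin_cases j <;> simp

lemma aff_inv (m : SpecialLinearGroup (Fin 2) F) (v : F × F) : (aff m v)⁻¹ = aff m⁻¹ (-(act m⁻¹ v)) := by
  apply inv_eq_of_mul_eq_one_left
  rw [aff_mul, inv_mul_cancel, neg_add_cancel, aff_one]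

/-- translation part -/
def trv (M : SpecialLinearGroup (Fin 3) F) : F × F := (M.1 0 2, M.1 1 2)

@[simp] lemma trv_aff (m : SpecialLinearGroup (Fin 2) F) (v : F × F) : trv (aff m v) = v := by
  unfold trv
  change ((aff m v : Matrix (Fin 3) (Fin 3) F) 0 2, (aff m v : Matrix (Fin 3) (Fin 3) F) 1 2) = v
  rw [aff_coe]
  simp

lemma exists_aff {M : SpecialLinearGroup (Fin 3) F} (h0 : (M : Matrix (Fin 3) (Fin 3) F) 2 0 = 0)
    (h1 : (M : Matrix (Fin 3) (Fin 3) F) 2 1 = 0) (h2 : (M : Matrix (Fin 3) (Fin 3) F) 2 2 = 1) : ∃ m v, M = aff m v := by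
  have hd := M.2
  rw [det_fin_three, h0, h1, h2] at hd
  have hdet2 : (!![(M : Matrix (Fin 3) (Fin 3) F) 0 0, (M : Matrix (Fin 3) (Fin 3) F) 0 1;
    (M : Matrix (Fin 3) (Fin 3) F) 1 0, (M : Matrix (Fin 3) (Fin 3) F) 1 1]).det = 1 := by
    rw [det_fin_two]
    simp
    linear_combination hd
  obtain ⟨m, hm⟩ : ∃ m : SpecialLinearGroup (Fin 2) F, (m : Matrix (Fin 2) (Fin 2) F) =
    !![(M : Matrix (Fin 3) (Fin 3) F) 0 0, (M : Matrix (Fin 3) (Fin 3) F) 0 1;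
    (M : Matrix (Fin 3) (Fin 3) F) 1 0, (M : Matrix (Fin 3) (Fin 3) F) 1 1] := ⟨⟨_, hdet2⟩, rfl⟩
  have m00 : e00 m = (M : Matrix (Fin 3) (Fin 3) F) 0 0 := by
    change (m : Matrix (Fin 2) (Fin 2) F) 0 0 = _
    rw [hm]; simp
  have m01 : e01 m = (M : Matrix (Fin 3) (Fin 3) F) 0 1 := by
    change (m : Matrix (Fin 2) (Fin 2) F) 0 1 = _
    rw [hm]; simp
  have m10 : e10 m = (M : Matrix (Fin 3) (Fin 3) F) 1 0 := by
    change (m : Matrix (Fin 2) (Fin 2) F) 1 0 = _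
    rw [hm]; simp
  have m11 : e11 m = (M : Matrix (Fin 3) (Fin 3) F) 1 1 := by
    change (m : Matrix (Fin 2) (Fin 2) F) 1 1 = _
    rw [hm]; simp
  refine ⟨m, ((M : Matrix (Fin 3) (Fin 3) F) 0 2, (M : Matrix (Fin 3) (Fin 3) F) 1 2), ?_⟩
  apply Matrix.SpecialLinearGroup.ext
  intro i j
  simp only [aff_coe]
  fin_cases i <;> fin_cases j <;> simp [m00, m01, m10, m11, h0, h1, h2]

/-- the affine group -/
def affSub (F : Type*) [Field F] : Subgroup (SpecialLinearGroup (Fin 3) F) where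
  carrier := {M | ∃ m v, M = aff m v}
  mul_mem' := by
    rintro _ _ ⟨m, v, rfl⟩ ⟨m', v', rfl⟩
    exact ⟨_, _, aff_mul _ _ _ _⟩
  one_mem' := ⟨1, 0, aff_one.symm⟩
  inv_mem' := by
    rintro _ ⟨m, v, rfl⟩
    exact ⟨_, _, aff_inv _ _⟩

lemma qdOver_eq : Cfsg.qdOver F = affSub F := by
  apply le_antisymm
  · unfold Cfsg.qdOver
    rw [closure_le]
    rintro M ⟨h0, h1, h2⟩
    exact exists_aff h0 h1 h2
  · rintro _ ⟨m, v, rfl⟩
    apply Subgroup.subset_closure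
    refine ⟨?_, ?_, ?_⟩ <;> rw [aff_coe] <;> simp

end aff

lemma qd_eq (p : ℕ) [Fact p.Prime] : Cfsg.qd p = affSub (ZMod p) := qdOver_eq

lemma mem_qd (p : ℕ) [Fact p.Prime] (M : SpecialLinearGroup (Fin 3) (ZMod p)) :
    M ∈ Cfsg.qd p ↔ ∃ m v, M = aff m v := by
  rw [qd_eq]; rfl

section span

variable {G Γ : Type*} [Group G] [Group Γ] {p : ℕ} [Fact p.Prime]

/-- the pull-back group -/
def affGrp (ρ : Γ →* SpecialLinearGroup (Fin 2) (ZMod p)) : Subgroup (Γ × SpecialLinearGroup (Fin 3) (ZMod p)) where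
  carrier := {x | ∃ v, x.2 = aff (ρ x.1) v}
  mul_mem' := by
    rintro ⟨k, M⟩ ⟨k', M'⟩ ⟨v, hv⟩ ⟨v', hv'⟩
    refine ⟨v + act (ρ k) v', ?_⟩
    simp only at hv hv'
    simp only [Prod.mk_mul_mk, hv, hv', aff_mul, map_mul]
  one_mem' := ⟨0, by simp [aff_one]⟩
  inv_mem' := by
    rintro ⟨k, M⟩ ⟨v, hv⟩
    refine ⟨-(act (ρ k)⁻¹ v), ?_⟩
    simp only at hv
    simp only [Prod.inv_mk, hv, aff_inv, map_inv]

lemma NatData.ι_zero (D : NatData p G Γ) : D.ι 0 = 1 := by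
  have := D.ι_add 0 0
  rw [add_zero] at this
  exact (mul_eq_left.mp this.symm)

lemma NatData.ι_neg (D : NatData p G Γ) (v : ZMod p × ZMod p) : D.ι (-v) = (D.ι v)⁻¹ := by
  apply eq_inv_of_mul_eq_one_left
  rw [← D.ι_add, neg_add_cancel, D.ι_zero]

theorem NatData.involves_qd (D : NatData p G Γ) (hdisj : ∀ k v, D.j k = D.ι v → v = 0) :
    Cfsg.Involves ↥(Cfsg.qd p) G := by
  let i : affGrp D.ρ →* G := MonoidHom.mk' (fun x => D.ι (trv x.1.2) * D.j x.1.1) (by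
    rintro ⟨⟨k, M⟩, v, hv⟩ ⟨⟨k', M'⟩, v', hv'⟩
    simp only at hv hv'
    subst hv hv'
    change D.ι (trv (aff (D.ρ k) v * aff (D.ρ k') v')) * D.j (k * k') =
      D.ι (trv (aff (D.ρ k) v)) * D.j k * (D.ι (trv (aff (D.ρ k') v')) * D.j k')
    rw [aff_mul, trv_aff, trv_aff, trv_aff, D.ι_add, ← D.compat, map_mul]
    group)
  let f : affGrp D.ρ →* ↥(Cfsg.qd p) := MonoidHom.mk' (fun x => ⟨x.1.2, by
    obtain ⟨v, hv⟩ := x.2
    exact (mem_qd p _).mpr ⟨_, _, hv⟩⟩) (by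
    intro x y
    rfl)
  refine Cfsg.Agent.Lib.Helper27.involves_of_span i f ?_ ?_
  · rw [injective_iff_map_eq_one]
    rintro ⟨⟨k, M⟩, v, hv⟩ h
    simp only at hv
    subst hv
    change D.ι (trv (aff (D.ρ k) v)) * D.j k = 1 at h
    rw [trv_aff] at h
    have h1 : D.j k = D.ι (-v) := by
      rw [D.ι_neg]
      exact eq_inv_of_mul_eq_one_right h
    have h2 := hdisj _ _ h1
    have h3 : v = 0 := neg_eq_zero.mp h2
    subst h3
    rw [D.ι_zero, one_mul] at h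
    have h4 : k = 1 := D.j_inj (by rw [h, map_one])
    subst h4
    apply Subtype.ext
    change ((1 : Γ), aff (D.ρ 1) 0) = 1
    rw [map_one, aff_one]
    rfl
  · rintro ⟨M, hM⟩
    obtain ⟨m, v, rfl⟩ := (mem_qd p _).mp hM
    obtain ⟨k, rfl⟩ := D.ρ_surj m
    exact ⟨⟨⟨k, aff (D.ρ k) v⟩, v, rfl⟩, rfl⟩

end span

end Cfsg.Agent.H12.Dk
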