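import Mathlib
import Cfsg.Agent.H12.Dk20

set_option autoImplicit false
set_option linter.unusedSimpArgs false
set_option linter.unusedSectionVars false

namespace Cfsg.Agent.H12.Dk

open Subgroup Matrix

variable {G Γ : Type*} [Group G] [Group Γ] {p : ℕ} [Fact p.Prime]

lemma act_neg_one {F : Type*} [Field F] (v : F × F) : act (-1 : SpecialLinearGroup (Fin 2) F) v = -v := by
  unfold act
  ext <;> simp

lemma NatData.ι_nsmul (D : NatData p G Γ) (n : ℕ) (v : ZMod p × ZMod p) : D.ι (n • v) = D.ι v ^ n := by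
  induction n with
  | zero => simp [D.ι_zero]
  | succ n ih => rw [succ_nsmul, D.ι_add, ih, pow_succ]

/-- restriction of natural data to a subgroup still mapping onto `SL₂(p)` -/
def NatData.restrict (D : NatData p G Γ) (K : Subgroup Γ) (hK : ∀ m, ∃ k ∈ K, D.ρ k = m) : NatData p G K where
  j := D.j.comp K.subtype
  ρ := D.ρ.comp K.subtype
  ι := D.ι
  j_inj := D.j_inj.comp K.subtype_injective
  ρ_surj := fun m => by
    obtain ⟨k, hk, h⟩ := hK m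
    exact ⟨⟨k, hk⟩, h⟩
  ι_inj := D.ι_inj
  ι_add := D.ι_add
  compat := fun k v => D.compat k v

theorem NatData.exists_compl [Finite Γ] (hp : p ≠ 2) (D : NatData p G Γ) :
    ∃ (K₁ : Subgroup Γ) (D₁ : NatData p G K₁), D₁.j = D.j.comp K₁.subtype ∧ D₁.ι = D.ι ∧
      ∀ k v, D₁.j k = D₁.ι v → v = 0 := by
  obtain ⟨t, ht⟩ := D.ρ_surj (-1)
  have ho : orderOf t ≠ 0 := (orderOf_pos t).ne'
  obtain ⟨a, m, hm, hom⟩ := Nat.exists_eq_two_pow_mul_odd ho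
  obtain ⟨t2, ht2def⟩ : ∃ t2, t2 = t ^ m := ⟨_, rfl⟩
  have ht2 : D.ρ t2 = -1 := by rw [ht2def, map_pow, ht, hm.neg_one_pow]
  have ht2' : t2 ^ (2 ^ a) = 1 := by rw [ht2def, ← pow_mul, mul_comm, ← hom, pow_orderOf_eq_one]
  let Dn : Subgroup Γ := (pm ⊥).comap D.ρ
  have hmemD : ∀ g, g ∈ Dn ↔ D.ρ g = 1 ∨ D.ρ g = -1 := by
    intro g
    change D.ρ g ∈ pm ⊥ ↔ _
    rw [mem_pm, mem_bot, mem_bot, neg_eq_iff_eq_neg]
  have hDn : Dn.Normal := by
    constructor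
    intro n hn g
    rw [hmemD] at hn ⊢
    rcases hn with h | h
    · left; rw [map_mul, map_mul, h, mul_one, map_inv, mul_inv_cancel]
    · right; rw [map_mul, map_mul, h, mul_neg, mul_one, neg_mul, map_inv, mul_inv_cancel]
  have ht2D : t2 ∈ Dn := (hmemD _).mpr (Or.inr ht2)
  have h2grp : IsPGroup 2 (zpowers (⟨t2, ht2D⟩ : Dn)) := by
    rintro ⟨y, hy⟩
    obtain ⟨k, rfl⟩ := mem_zpowers_iff.mp hy
    refine ⟨a, Subtype.ext ?_⟩
    change ((⟨t2, ht2D⟩ : Dn) ^ k) ^ (2 ^ a) = 1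
    have h1 : (⟨t2, ht2D⟩ : Dn) ^ (2 ^ a) = 1 := Subtype.ext ht2'
    rw [← zpow_natCast, ← _root_.zpow_mul, mul_comm, _root_.zpow_mul, zpow_natCast, h1, _root_.one_zpow]
  obtain ⟨T, hT⟩ := h2grp.exists_le_sylow
  have hfr := Sylow.normalizer_sup_eq_top T
  have ht2T : t2 ∈ (T : Subgroup Dn).map Dn.subtype := ⟨⟨t2, ht2D⟩, hT (mem_zpowers _), rfl⟩
  have hsurj : ∀ m, ∃ k ∈ normalizer (((T : Subgroup Dn).map Dn.subtype : Subgroup Γ) : Set Γ), D.ρ k = m := by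
    intro m
    obtain ⟨g, rfl⟩ := D.ρ_surj m
    have hg : g ∈ normalizer (((T : Subgroup Dn).map Dn.subtype : Subgroup Γ) : Set Γ) ⊔ Dn := by rw [hfr]; trivial
    obtain ⟨k, hk, d, hd, rfl⟩ := mem_sup_of_normal_right.mp hg
    rcases (hmemD d).mp hd with h | h
    · exact ⟨k, hk, by rw [map_mul, h, mul_one]⟩
    · exact ⟨k * t2, mul_mem hk (le_normalizer ht2T), by rw [map_mul, map_mul, h, ht2]⟩
  refine ⟨_, D.restrict _ hsurj, rfl, rfl, ?_⟩
  rintro ⟨k, hk⟩ v hkv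
  change D.j k = D.ι v at hkv
  -- the commutator `k t2 k⁻¹ t2⁻¹`
  have hc : k * t2 * k⁻¹ * t2⁻¹ ∈ (T : Subgroup Dn).map Dn.subtype :=
    mul_mem ((mem_normalizer_iff.mp hk t2).mp ht2T) (inv_mem ht2T)
  obtain ⟨c, hcT, hcc⟩ := hc
  obtain ⟨b, hb⟩ := T.2 ⟨c, hcT⟩
  have hb' : (k * t2 * k⁻¹ * t2⁻¹) ^ (2 ^ b) = 1 := by
    rw [← hcc]
    have := congrArg (fun z : (T : Subgroup Dn) => ((z : Dn) : Γ)) hb
    simpa using this
  have hj : D.j (k * t2 * k⁻¹ * t2⁻¹) = D.ι (2 • v) := by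
    have h1 : D.j t2 * D.ι (-v) * (D.j t2)⁻¹ = D.ι v := by
      rw [D.compat, ht2, act_neg_one, neg_neg]
    rw [two_nsmul, D.ι_add]
    nth_rewrite 2 [← h1]
    rw [D.ι_neg, ← hkv]
    simp only [map_mul, map_inv]
    group
  have h3 : D.ι ((2 ^ b) • (2 • v)) = D.ι 0 := by
    rw [D.ι_nsmul, ← hj, ← map_pow, hb', map_one, D.ι_zero]
  have h4 := D.ι_inj h3
  rw [smul_smul, ← pow_succ] at h4
  have h2 : ((2 ^ (b + 1) : ℕ) : ZMod p) ≠ 0 := by
    intro h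
    rw [ZMod.natCast_eq_zero_iff] at h
    have := (Fact.out : p.Prime).dvd_of_dvd_pow h
    exact hp ((Nat.prime_dvd_prime_iff_eq Fact.out Nat.prime_two).mp this)
  have h5 := congrArg Prod.fst h4
  have h6 := congrArg Prod.snd h4
  simp only [Prod.smul_fst, Prod.smul_snd, nsmul_eq_mul, Prod.fst_zero, Prod.snd_zero] at h5 h6
  exact Prod.ext ((mul_eq_zero.mp h5).resolve_left h2) ((mul_eq_zero.mp h6).resolve_left h2)

/-- natural `SL₂(p)`-data give a `Qd(p)` section -/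
theorem NatData.involves_qd' [Finite Γ] (hp : p ≠ 2) (D : NatData p G Γ) : Cfsg.Involves ↥(Cfsg.qd p) G := by
  obtain ⟨K₁, D₁, -, -, h⟩ := D.exists_compl hp
  exact D₁.involves_qd h

end Cfsg.Agent.H12.Dk
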