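import Mathlib
import Cfsg.Agent.H12.Dk21

set_option autoImplicit false
set_option linter.unusedSimpArgs false
set_option linter.unusedSectionVars false

namespace Cfsg.Agent.H12.Dk

open Subgroup Matrix Cfsg.Agent.Lib.Helper27

theorem involves_of_surjective {H G G' : Type*} [Group H] [Group G] [Group G'] (h : Cfsg.Involves H G)
    (f : G' →* G) (hf : Function.Surjective f) : Cfsg.Involves H G' := by
  obtain ⟨K, φ, hφ⟩ := Cfsg.Agent.Lib.Helper27.Involves.exists_span h
  exact involves_of_span (X := K.comap f) (K.comap f).subtype (φ.comp (f.subgroupComap K)) (subtype_injective _)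
    (hφ.comp (f.subgroupComap_surjective_of_surjective K hf))

theorem involves_of_le {H G : Type*} [Group H] [Group G] {A B : Subgroup G} (hAB : A ≤ B) (h : Cfsg.Involves H A) :
    Cfsg.Involves H B :=
  Cfsg.Agent.Lib.Helper27.Involves.of_injective h (Subgroup.inclusion hAB) (Subgroup.inclusion_injective hAB)

theorem involves_section {H G : Type*} [Group H] [Group G] (K R : Subgroup G) [(R.subgroupOf K).Normal]
    (h : Cfsg.Involves H (K ⧸ R.subgroupOf K)) : Cfsg.Involves H G :=
  Cfsg.Agent.Lib.Helper27.Involves.of_injective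
    (involves_of_surjective h (QuotientGroup.mk' _) (QuotientGroup.mk'_surjective _)) K.subtype K.subtype_injective

/-- the conclusion of the reduction theorem -/
def Cq (p : ℕ) [Fact p.Prime] (G : Type*) [Group G] : Prop :=
  Cfsg.Involves ↥(Cfsg.qd p) G ∧ ∃ P₀ : Subgroup G, IsPGroup p P₀ ∧ P₀ ≠ ⊥ ∧
    Cfsg.Involves (SpecialLinearGroup (Fin 2) (ZMod p)) ↥(normalizer (P₀ : Set G))

variable {p : ℕ} [Fact p.Prime]

theorem Cq.of_injective {G G' : Type*} [Group G] [Group G'] (h : Cq p G') (f : G' →* G) (hf : Function.Injective f) :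
    Cq p G := by
  obtain ⟨h1, P₀, hP, hne, h2⟩ := h
  refine ⟨Cfsg.Agent.Lib.Helper27.Involves.of_injective h1 f hf, P₀.map f, hP.map f, ?_, ?_⟩
  · intro h
    exact hne ((map_eq_bot_iff_of_injective _ hf).mp h)
  · refine Cfsg.Agent.Lib.Helper27.Involves.of_injective h2
      ((f.comp (normalizer (P₀ : Set G')).subtype).codRestrict (normalizer ((P₀.map f : Subgroup G) : Set G)) ?_) ?_
    · intro n
      exact le_normalizer_map f ⟨n, n.2, rfl⟩
    · intro a b hab
      have : f a = f b := congrArg Subtype.val hab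
      exact Subtype.ext (hf this)

/-- Frattini-type lifting of normalizers of `p`-subgroups -/
theorem exists_lift_pSubgroup {G G' : Type*} [Group G] [Group G'] [Finite G'] (f : G' →* G)
    (hf : Function.Surjective f) (P₀ : Subgroup G) (hP : IsPGroup p P₀) :
    ∃ P₁ : Subgroup G', IsPGroup p P₁ ∧ P₁.map f = P₀ ∧
      ∀ n ∈ normalizer (P₀ : Set G), ∃ n' ∈ normalizer (P₁ : Set G'), f n' = n := by
  obtain ⟨S⟩ : Nonempty (Sylow p (P₀.comap f)) := inferInstance
  have hsurj : Function.Surjective (f.subgroupComap P₀) := f.subgroupComap_surjective_of_surjective P₀ hf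
  have h1 : ((S.mapSurjective hsurj : Sylow p P₀) : Subgroup P₀) = ⊤ :=
    ((S.mapSurjective hsurj).3 (Q := ⊤) (hP.of_injective (⊤ : Subgroup P₀).subtype (Subgroup.subtype_injective _)) le_top).symm
  rw [Sylow.coe_mapSurjective] at h1
  have hmap : ((S : Subgroup (P₀.comap f)).map (P₀.comap f).subtype).map f = P₀ := by
    apply le_antisymm
    · rintro _ ⟨_, ⟨s, _, rfl⟩, rfl⟩
      exact s.2
    · intro a ha
      have : (⟨a, ha⟩ : P₀) ∈ (S : Subgroup (P₀.comap f)).map (f.subgroupComap P₀) := by rw [h1]; trivial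
      obtain ⟨s, hs, hsa⟩ := this
      exact ⟨s, ⟨s, hs, rfl⟩, congrArg Subtype.val hsa⟩
  refine ⟨(S : Subgroup (P₀.comap f)).map (P₀.comap f).subtype, S.2.map _, hmap, ?_⟩
  intro n hn
  obtain ⟨n', rfl⟩ := hf n
  have hn' : n' ∈ normalizer ((P₀.comap f : Subgroup G') : Set G') := by
    rw [← comap_normalizer_eq_of_surjective _ hf]
    exact hn
  -- conjugate Sylow subgroup
  have hnorm : ∀ x : P₀.comap f, n' * x * n'⁻¹ ∈ P₀.comap f := fun x => (mem_normalizer_iff.mp hn' x).mp x.2
  let c : (P₀.comap f) →* (P₀.comap f) := MonoidHom.mk' (fun x => ⟨n' * x * n'⁻¹, hnorm x⟩) (by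
    intro x y
    apply Subtype.ext
    change n' * (x * y) * n'⁻¹ = (n' * x * n'⁻¹) * (n' * y * n'⁻¹)
    group)
  have hcinj : Function.Injective c := by
    intro x y hxy
    have : n' * (x : G') * n'⁻¹ = n' * y * n'⁻¹ := congrArg Subtype.val hxy
    rw [mul_left_inj, mul_right_inj] at this
    exact Subtype.ext this
  have hcp : IsPGroup p ((S : Subgroup (P₀.comap f)).map c) := S.2.map c
  obtain ⟨S', hS'⟩ := hcp.exists_le_sylow
  obtain ⟨u, hu⟩ := MulAction.exists_smul_eq (P₀.comap f) S' S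
  -- `u * c(S) * u⁻¹ ≤ S`
  have hle : ∀ s ∈ (S : Subgroup (P₀.comap f)), u * c s * u⁻¹ ∈ (S : Subgroup (P₀.comap f)) := by
    intro s hs
    rw [← hu, Sylow.coe_subgroup_smul, Subgroup.mem_pointwise_smul_iff_inv_smul_mem]
    apply hS'
    rw [MulAut.smul_def, ← map_inv, MulAut.conj_apply]
    refine ⟨s, hs, ?_⟩
    simp only [inv_inv]
    group
  -- write `u = s₀ * r`
  have hu0 : (⟨f u, u.2⟩ : P₀) ∈ (S : Subgroup (P₀.comap f)).map (f.subgroupComap P₀) := by rw [h1]; trivial
  obtain ⟨s₀, hs₀, hs₀u⟩ := hu0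
  have hs₀u' : f (s₀ : G') = f (u : G') := congrArg Subtype.val hs₀u
  refine ⟨(s₀ : G')⁻¹ * u * n', ?_, by rw [map_mul, map_mul, map_inv, hs₀u', inv_mul_cancel, one_mul]⟩
  -- it maps `P₁` into itself; finite, so normalizes
  have hsub : ∀ x ∈ (S : Subgroup (P₀.comap f)).map (P₀.comap f).subtype,
      ((s₀ : G')⁻¹ * u * n') * x * ((s₀ : G')⁻¹ * u * n')⁻¹ ∈ (S : Subgroup (P₀.comap f)).map (P₀.comap f).subtype := by
    rintro _ ⟨s, hs, rfl⟩
    refine ⟨s₀⁻¹ * (u * c s * u⁻¹) * s₀, mul_mem (mul_mem (inv_mem hs₀) (hle s hs)) hs₀, ?_⟩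
    change (s₀ : G')⁻¹ * ((u : G') * (n' * s * n'⁻¹) * (u : G')⁻¹) * s₀ = _
    simp only [Subgroup.coe_subtype]
    group
  rw [mem_normalizer_iff]
  intro x
  constructor
  · exact hsub x
  · intro hx
    -- injective self-map of a finite set is surjective
    let P₁ := (S : Subgroup (P₀.comap f)).map (P₀.comap f).subtype
    let φ : P₁ → P₁ := fun x => ⟨_, hsub x x.2⟩
    have hφ : Function.Injective φ := by
      intro a b hab
      have := congrArg Subtype.val hab
      simp only [φ] at this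
      rw [mul_left_inj, mul_right_inj] at this
      exact Subtype.ext this
    obtain ⟨y, hy⟩ := (Finite.injective_iff_surjective.mp hφ) ⟨_, hx⟩
    have := congrArg Subtype.val hy
    simp only [φ] at this
    rw [mul_left_inj, mul_right_inj] at this
    rw [← this]
    exact y.2

theorem Cq.of_surjective {G G' : Type*} [Group G] [Group G'] [Finite G'] (h : Cq p G) (f : G' →* G)
    (hf : Function.Surjective f) : Cq p G' := by
  obtain ⟨h1, P₀, hP, hne, h2⟩ := h
  obtain ⟨P₁, hP₁, hmap, hlift⟩ := exists_lift_pSubgroup f hf P₀ hP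
  refine ⟨involves_of_surjective h1 f hf, P₁, hP₁, ?_, ?_⟩
  · rintro rfl
    rw [Subgroup.map_bot] at hmap
    exact hne hmap.symm
  · refine involves_of_surjective h2
      ((f.comp (normalizer (P₁ : Set G')).subtype).codRestrict (normalizer (P₀ : Set G)) ?_) ?_
    · intro n
      have := le_normalizer_map f (H := P₁) ⟨n, n.2, rfl⟩
      rwa [hmap] at this
    · rintro ⟨n, hn⟩
      obtain ⟨n', hn', rfl⟩ := hlift n hn
      exact ⟨⟨n', hn'⟩, rfl⟩

theorem Cq.of_section {G : Type*} [Group G] [Finite G] (K R : Subgroup G) [(R.subgroupOf K).Normal]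
    (h : Cq p (K ⧸ R.subgroupOf K)) : Cq p G :=
  (h.of_surjective (QuotientGroup.mk' _) (QuotientGroup.mk'_surjective _)).of_injective K.subtype K.subtype_injective

end Cfsg.Agent.H12.Dk
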