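import Mathlib
import Cfsg.Agent.H12.Dk22

set_option autoImplicit false
set_option linter.unusedSimpArgs false
set_option linter.unusedSectionVars false

namespace Cfsg.Agent.H12.Dk

open Subgroup Matrix Cfsg.Agent.Lib.Helper27

section basic

variable {G : Type*} [Group G]

lemma stab_pow {m a c : G} (hc : c = m * a * m⁻¹ * a⁻¹) (hm : m * c * m⁻¹ = c) (k : ℕ) :
    m ^ k * a * (m ^ k)⁻¹ = c ^ k * a := by
  induction k with
  | zero => simp
  | succ k ih =>
    have h1 : m ^ (k + 1) * a * (m ^ (k + 1))⁻¹ = m * (m ^ k * a * (m ^ k)⁻¹) * m⁻¹ := by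
      rw [pow_succ']; group
    have h2 : m * (c ^ k * a) * m⁻¹ = (m * c * m⁻¹) ^ k * (m * a * m⁻¹ * a⁻¹) * a := by
      rw [conj_pow]; group
    rw [h1, ih, h2, hm, ← hc, pow_succ]

lemma pow_mem_centralizer_of_stab {Z P : Subgroup G} [Finite Z] {m : G} (hmZ : m ∈ centralizer (Z : Set G))
    (h : ∀ a ∈ P, m * a * m⁻¹ * a⁻¹ ∈ Z) : m ^ Nat.card Z ∈ centralizer (P : Set G) := by
  rw [mem_centralizer_iff]
  intro a ha
  have hc := h a ha
  have h1 : m * (m * a * m⁻¹ * a⁻¹) * m⁻¹ = m * a * m⁻¹ * a⁻¹ := by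
    have := mem_centralizer_iff.mp hmZ _ hc
    rw [← this]; group
  have h2 := stab_pow rfl h1 (Nat.card Z)
  have h3 : (m * a * m⁻¹ * a⁻¹) ^ Nat.card Z = 1 := by
    have := pow_card_eq_one' (G := Z) (x := ⟨_, hc⟩)
    exact congrArg Subtype.val this
  rw [h3, one_mul] at h2
  exact (mul_inv_eq_iff_eq_mul.mp h2).symm

/-- `Ω₁(Z(P))` -/
def omZ (p : ℕ) (P : Subgroup G) : Subgroup G where
  carrier := {a | a ∈ P ∧ a ∈ centralizer (P : Set G) ∧ a ^ p = 1}
  mul_mem' := by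
    rintro a b ⟨ha, ha', hap⟩ ⟨hb, hb', hbp⟩
    refine ⟨mul_mem ha hb, mul_mem ha' hb', ?_⟩
    have : Commute a b := (mem_centralizer_iff.mp ha' b hb).symm
    rw [this.mul_pow, hap, hbp, one_mul]
  one_mem' := ⟨one_mem _, one_mem _, one_pow _⟩
  inv_mem' := by
    rintro a ⟨ha, ha', hap⟩
    exact ⟨inv_mem ha, inv_mem ha', by rw [inv_pow, hap, inv_one]⟩

lemma mem_omZ {p : ℕ} {P : Subgroup G} {a : G} : a ∈ omZ p P ↔ a ∈ P ∧ a ∈ centralizer (P : Set G) ∧ a ^ p = 1 := Iff.rfl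

lemma omZ_le (p : ℕ) (P : Subgroup G) : omZ p P ≤ P := fun _ h => h.1

lemma omZ_elem (p : ℕ) (P : Subgroup G) : Cfsg.IsElementaryAbelian p (omZ p P) := by
  refine ⟨⟨⟨?_⟩⟩, fun a ha => ha.2.2⟩
  rintro ⟨a, ha⟩ ⟨b, hb⟩
  apply Subtype.ext
  exact (mem_centralizer_iff.mp ha.2.1 b hb.1).symm

lemma normalizer_le_omZ (p : ℕ) (P : Subgroup G) : normalizer (P : Set G) ≤ normalizer (omZ p P : Set G) := by
  have key : ∀ n ∈ normalizer (P : Set G), ∀ a ∈ omZ p P, n * a * n⁻¹ ∈ omZ p P := by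
    rintro n hn a ⟨ha, ha', hap⟩
    refine ⟨(mem_normalizer_iff.mp hn a).mp ha, ?_, by rw [conj_pow, hap]; simp⟩
    rw [mem_centralizer_iff]
    intro b hb
    have hb' : n⁻¹ * b * n ∈ P := by
      have := (mem_normalizer_iff.mp (inv_mem hn) b).mp hb
      rwa [inv_inv] at this
    have := mem_centralizer_iff.mp ha' _ hb'
    calc b * (n * a * n⁻¹) = n * ((n⁻¹ * b * n) * a) * n⁻¹ := by group
      _ = n * (a * (n⁻¹ * b * n)) * n⁻¹ := by rw [this]
      _ = n * a * n⁻¹ * b := by group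
  intro n hn
  rw [mem_normalizer_iff]
  intro a
  refine ⟨key n hn a, fun h => ?_⟩
  have := key n⁻¹ (inv_mem hn) _ h
  have e : n⁻¹ * (n * a * n⁻¹) * n⁻¹⁻¹ = a := by group
  rwa [e] at this

lemma omZ_ne_bot (p : ℕ) [Fact p.Prime] {P : Subgroup G} [Finite P] (hP : IsPGroup p P) (hne : P ≠ ⊥) : omZ p P ≠ ⊥ := by
  have : Nontrivial P := (nontrivial_iff_ne_bot P).mpr hne
  have hnt : Nontrivial (center P) := hP.center_nontrivial
  have hcp : IsPGroup p (center P) := hP.to_subgroup _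
  have hdvd : p ∣ Nat.card (center P) := by
    rcases hcp.card_eq_or_dvd with h | h
    · exfalso
      have := Finite.one_lt_card (α := center P)
      omega
    · exact h
  obtain ⟨z, hz⟩ := exists_prime_orderOf_dvd_card' p hdvd
  intro hbot
  have hz1 : ((z : P) : G) ∈ omZ p P := by
    refine ⟨(z : P).2, ?_, ?_⟩
    · rw [mem_centralizer_iff]
      intro b hb
      have := mem_center_iff.mp z.2 ⟨b, hb⟩
      exact congrArg Subtype.val this
    · have : z ^ p = 1 := by rw [← hz, pow_orderOf_eq_one]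
      exact congrArg (fun w : center P => ((w : P) : G)) this
  rw [hbot, mem_bot] at hz1
  have : z = 1 := Subtype.ext (Subtype.ext hz1)
  rw [this, orderOf_one] at hz
  exact (Fact.out : p.Prime).one_lt.ne hz

lemma QuadOn.mono {x : G} {V W : Subgroup G} (h : QuadOn x V) (hWV : W ≤ V) : QuadOn x W := fun v hv => h v (hWV hv)

lemma QuadOn.map {G' : Type*} [Group G'] {x : G} {V : Subgroup G} (h : QuadOn x V) (f : G →* G') :
    QuadOn (f x) (V.map f) := by
  rintro _ ⟨v, hv, rfl⟩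
  have := congrArg f (h v hv)
  simpa only [map_mul, map_inv] using this

end basic

end Cfsg.Agent.H12.Dk
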