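import Mathlib
import Cfsg.Agent.H12.Dk23

set_option autoImplicit false
set_option linter.unusedSimpArgs false
set_option linter.unusedSectionVars false

universe u

namespace Cfsg.Agent.H12.Dk

open Subgroup Matrix Cfsg.Agent.Lib.Helper27

variable {p : ℕ} [Fact p.Prime]

/-- elementary abelian case -/
theorem cq_of_elem {G : Type u} [Group G] [Finite G] (hp : p ≠ 2) (V : Subgroup G)
    (hV : Cfsg.IsElementaryAbelian p V) {x y : G} (hx : x ∈ normalizer (V : Set G)) (hy : y ∈ normalizer (V : Set G))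
    (qx : QuadOn x V) (qy : QuadOn y V)
    (hnp : ∃ l ∈ closure {x, y}, ∀ n : ℕ, l ^ (p ^ n) ∉ centralizer (V : Set G)) : Cq p G := by
  obtain ⟨K, D, hj, hK, hι⟩ := exists_natData p hp V hV hx hy qx qy hnp
  have hVp : IsPGroup p V := by
    rintro ⟨a, ha⟩
    exact ⟨1, Subtype.ext (by rw [pow_one]; exact hV.2 a ha)⟩
  have hne : V ≠ ⊥ := by
    rintro rfl
    obtain ⟨l, -, hl⟩ := hnp
    apply hl 0
    rw [mem_centralizer_iff]
    intro a ha
    have : a = 1 := ha
    rw [this, one_mul, mul_one]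
  have hKN : K ≤ normalizer (V : Set G) := by
    refine hK.trans ?_
    rw [closure_le]
    rintro z (rfl | hz)
    · exact hx
    · rw [Set.mem_singleton_iff] at hz
      subst hz
      exact hy
  exact ⟨D.involves_qd' hp, V, hVp, hne,
    involves_of_span (Subgroup.inclusion hKN) D.ρ (Subgroup.inclusion_injective hKN) D.ρ_surj⟩

theorem reduction (hp : p ≠ 2) : ∀ (n : ℕ) (G : Type u) [Group G] [Finite G] (P : Subgroup G), Nat.card P = n →
    IsPGroup p P → ∀ x y : G, x ∈ normalizer (P : Set G) → y ∈ normalizer (P : Set G) → QuadOn x P → QuadOn y P →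
    (∃ l ∈ closure {x, y}, ∀ n : ℕ, l ^ (p ^ n) ∉ centralizer (P : Set G)) → Cq p G := by
  intro n
  induction n using Nat.strong_induction_on with
  | _ n ih =>
  intro G _ _ P hcard hP x y hx hy qx qy hnp
  obtain ⟨l, hl, hln⟩ := hnp
  have hne : P ≠ ⊥ := by
    rintro rfl
    apply hln 0
    rw [mem_centralizer_iff]
    intro a ha
    have : a = 1 := ha
    rw [this, one_mul, mul_one]
  have hZne := omZ_ne_bot p hP hne
  have hNZ := normalizer_le_omZ p P
  by_cases hA : ∀ n : ℕ, l ^ (p ^ n) ∉ centralizer (omZ p P : Set G)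
  · exact cq_of_elem hp (omZ p P) (omZ_elem p P) (hNZ hx) (hNZ hy) (qx.mono (omZ_le p P)) (qy.mono (omZ_le p P))
      ⟨l, hl, hA⟩
  push Not at hA
  obtain ⟨n₀, hn₀⟩ := hA
  -- pass to the quotient
  obtain ⟨Z, hZdef⟩ : ∃ Z, Z = omZ p P := ⟨_, rfl⟩
  rw [← hZdef] at hZne hNZ hn₀
  have hZP : Z ≤ P := hZdef ▸ omZ_le p P
  have hZp : IsPGroup p Z := hP.to_le hZP
  let π := QuotientGroup.mk' (Z.subgroupOf (normalizer (Z : Set G)))
  have hπ : ∀ g : normalizer (Z : Set G), π g = 1 ↔ (g : G) ∈ Z := by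
    intro g
    rw [QuotientGroup.mk'_apply, QuotientGroup.eq_one_iff, mem_subgroupOf]
  have hPN : P ≤ normalizer (Z : Set G) := le_normalizer.trans hNZ
  apply Cq.of_section (normalizer (Z : Set G)) Z
  have hlt : Nat.card ((P.subgroupOf (normalizer (Z : Set G))).map π) < n := by
    rw [← hcard]
    let φ : P → (P.subgroupOf (normalizer (Z : Set G))).map π := fun a => ⟨π ⟨a, hPN a.2⟩, ⟨_, a.2, rfl⟩⟩
    have hφs : Function.Surjective φ := by
      rintro ⟨_, ⟨a, ha, rfl⟩⟩
      exact ⟨⟨a, ha⟩, rfl⟩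
    have hφi : ¬ Function.Injective φ := by
      intro hinj
      apply hZne
      rw [eq_bot_iff]
      intro z hz
      have h1 : φ ⟨z, hZP hz⟩ = φ 1 := by
        apply Subtype.ext
        change π ⟨z, _⟩ = π ⟨1, _⟩
        have e1 : π ⟨z, hPN (hZP hz)⟩ = 1 := (hπ _).mpr hz
        have e2 : π ⟨1, hPN (one_mem P)⟩ = 1 := (hπ _).mpr (one_mem Z)
        rw [e1, e2]
      have := congrArg Subtype.val (hinj h1)
      exact this
    have := Fintype.ofFinite P
    have := Fintype.ofFinite ((P.subgroupOf (normalizer (Z : Set G))).map π)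
    rw [Nat.card_eq_fintype_card, Nat.card_eq_fintype_card]
    exact Fintype.card_lt_of_surjective_not_injective φ hφs hφi
  have hnorm : ∀ g (hg : g ∈ normalizer (P : Set G)),
      π ⟨g, hNZ hg⟩ ∈ normalizer (((P.subgroupOf (normalizer (Z : Set G))).map π : Subgroup _) : Set _) := by
    intro g hg
    apply le_normalizer_map π
    refine ⟨_, ?_, rfl⟩
    rw [SetLike.mem_coe, mem_normalizer_iff]
    intro h
    rw [mem_subgroupOf, mem_subgroupOf]
    exact mem_normalizer_iff.mp hg h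
  have hquad : ∀ g (hg : g ∈ normalizer (P : Set G)), QuadOn g P →
      QuadOn (π ⟨g, hNZ hg⟩) ((P.subgroupOf (normalizer (Z : Set G))).map π) := by
    intro g hg qg
    apply QuadOn.map
    intro v hv
    apply Subtype.ext
    exact qg v hv
  have hl' : l ∈ (closure {(⟨x, hNZ hx⟩ : normalizer (Z : Set G)), ⟨y, hNZ hy⟩}).map (normalizer (Z : Set G)).subtype := by
    rw [MonoidHom.map_closure, Set.image_pair]
    exact hl
  obtain ⟨l', hl'c, hl'l⟩ := hl'
  refine ih _ hlt _ ((P.subgroupOf (normalizer (Z : Set G))).map π) rfl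
    ((hP.comap_of_injective _ (subtype_injective _)).map π) (π ⟨x, hNZ hx⟩) (π ⟨y, hNZ hy⟩) (hnorm x hx) (hnorm y hy)
    (hquad x hx qx) (hquad y hy qy) ⟨π l', ?_, ?_⟩
  · have : π l' ∈ (closure {(⟨x, hNZ hx⟩ : normalizer (Z : Set G)), ⟨y, hNZ hy⟩}).map π := mem_map_of_mem _ hl'c
    rw [MonoidHom.map_closure, Set.image_pair] at this
    exact this
  · intro k hk
    have hk' := pow_mem hk (p ^ n₀)
    rw [← pow_mul, ← pow_add, ← map_pow] at hk'
    obtain ⟨r, hr⟩ := (IsPGroup.iff_card.mp hZp)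
    have hcz : l ^ (p ^ (k + n₀)) ∈ centralizer (Z : Set G) := by
      rw [add_comm, pow_add, pow_mul]
      exact pow_mem hn₀ _
    have hst : ∀ a ∈ P, l ^ (p ^ (k + n₀)) * a * (l ^ (p ^ (k + n₀)))⁻¹ * a⁻¹ ∈ Z := by
      intro a ha
      have h1 := mem_centralizer_iff.mp hk' (π ⟨a, hPN ha⟩) ⟨_, ha, rfl⟩
      have h2 : π (l' ^ (p ^ (k + n₀)) * ⟨a, hPN ha⟩ * (l' ^ (p ^ (k + n₀)))⁻¹ * (⟨a, hPN ha⟩ : normalizer (Z : Set G))⁻¹) = 1 := by
        rw [map_mul, map_mul, map_mul, ← h1, map_inv, map_inv]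
        group
      have h3 := (hπ _).mp h2
      simp only [Subgroup.coe_mul, Subgroup.coe_inv, Subgroup.coe_pow] at h3
      rw [← hl'l]
      exact h3
    have := pow_mem_centralizer_of_stab hcz hst
    rw [hr, ← pow_mul, ← pow_add] at this
    exact hln _ this

end Cfsg.Agent.H12.Dk
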