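import Mathlib
import Cfsg.Agent.H12.Dk24

set_option autoImplicit false
set_option linter.unusedSimpArgs false
set_option linter.unusedSectionVars false

universe u

namespace Cfsg.Agent.H12.Dk

open Subgroup Matrix Cfsg.Agent.Lib.Helper27

variable {p : ℕ} [Fact p.Prime]

lemma QuadOn.pow_card_mem_centralizer {G : Type*} [Group G] {g : G} {P : Subgroup G} [Finite P]
    (hg : g ∈ normalizer (P : Set G)) (q : QuadOn g P) : g ^ Nat.card P ∈ centralizer (P : Set G) := by
  rw [mem_centralizer_iff]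
  intro a ha
  have hc : g * a * g⁻¹ * a⁻¹ ∈ P := mul_mem ((mem_normalizer_iff.mp hg a).mp ha) (inv_mem ha)
  have h2 := stab_pow rfl (q a ha) (Nat.card P)
  have h3 : (g * a * g⁻¹ * a⁻¹) ^ Nat.card P = 1 := by
    have := pow_card_eq_one' (G := P) (x := ⟨_, hc⟩)
    exact congrArg Subtype.val this
  rw [h3, one_mul] at h2
  exact (mul_inv_eq_iff_eq_mul.mp h2).symm

/-- the core statement: a quadratic element outside `O_p(N(P)/C(P))` forces `Qd(p)` and `SL₂(p)` sections -/
theorem cq_of_quad {G : Type u} [Group G] [Finite G] (hp : p ≠ 2) (P : Subgroup G) (hP : IsPGroup p P) (g : G)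
    (hg : g ∈ normalizer (P : Set G)) (qg : QuadOn g P)
    (hnot : (QuotientGroup.mk (s := (centralizer (P : Set G)).subgroupOf (normalizer (P : Set G)))
          (⟨g, hg⟩ : ↥(normalizer (P : Set G)))) ∉
        Cfsg.pCore p (↥(normalizer (P : Set G)) ⧸ (centralizer (P : Set G)).subgroupOf (normalizer (P : Set G)))) :
    Cq p G := by
  obtain ⟨r, hr⟩ := (IsPGroup.iff_card.mp hP)
  have hpow : ∃ n : ℕ, (QuotientGroup.mk (s := (centralizer (P : Set G)).subgroupOf (normalizer (P : Set G)))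
          (⟨g, hg⟩ : ↥(normalizer (P : Set G)))) ^ (p ^ n) = 1 := by
    refine ⟨r, ?_⟩
    rw [← QuotientGroup.mk_pow, QuotientGroup.eq_one_iff, mem_subgroupOf, ← hr]
    exact qg.pow_card_mem_centralizer hg
  obtain ⟨g', l, hl, hln⟩ := baer_suzuki_elt p hpow hnot
  obtain ⟨n', rfl⟩ := QuotientGroup.mk_surjective g'
  have hl1 : l ∈ (closure {(⟨g, hg⟩ : normalizer (P : Set G)), n' * ⟨g, hg⟩ * n'⁻¹}).map
      (QuotientGroup.mk' ((centralizer (P : Set G)).subgroupOf (normalizer (P : Set G)))) := by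
    rw [MonoidHom.map_closure, Set.image_pair]
    exact hl
  obtain ⟨l', hl', rfl⟩ := hl1
  have hl2 : (l' : G) ∈ closure {g, (n' : G) * g * (n' : G)⁻¹} := by
    have h1 : (normalizer (P : Set G)).subtype l' ∈ (closure {(⟨g, hg⟩ : normalizer (P : Set G)), n' * ⟨g, hg⟩ * n'⁻¹}).map
        (normalizer (P : Set G)).subtype := mem_map_of_mem _ hl'
    rw [MonoidHom.map_closure, Set.image_pair] at h1
    exact h1
  refine reduction hp _ G P rfl hP g ((n' : G) * g * (n' : G)⁻¹) hg (mul_mem (mul_mem n'.2 hg) (inv_mem n'.2)) qg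
    (qg.conj n'.2) ⟨l', hl2, ?_⟩
  intro n hn
  apply hln n
  rw [← map_pow, QuotientGroup.mk'_apply, QuotientGroup.eq_one_iff, mem_subgroupOf]
  exact hn

theorem cq_of_not_stable {G : Type u} [Group G] [Finite G] (hp : p ≠ 2) (h : ¬ Cfsg.IsNormalizerPStable p G) :
    Cq p G := by
  unfold Cfsg.IsNormalizerPStable at h
  push Not at h
  obtain ⟨P, hP, g, hg, hq, hnot⟩ := h
  exact cq_of_quad hp P hP g hg (quadOn_of_comm hq) hnot

/-- `Qd(p)`-free groups have all sections `p`-stable -/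
theorem stable_of_qd_free {G : Type u} [Group G] [Finite G] (hp : p ≠ 2) (h : ¬ Cfsg.Involves ↥(Cfsg.qd p) G)
    (K R : Subgroup G) [hR : (R.subgroupOf K).Normal] : Cfsg.IsNormalizerPStable p (K ⧸ R.subgroupOf K) := by
  by_contra hcon
  exact h (involves_section K R (cq_of_not_stable hp hcon).1)

end Cfsg.Agent.H12.Dk
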