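import Mathlib
import Cfsg.Agent.H12.Dk25

set_option autoImplicit false
set_option linter.unusedSimpArgs false
set_option linter.unusedSectionVars false

universe u

namespace Cfsg.Agent.H12.Dk

open Subgroup Matrix Cfsg.Agent.Lib.Helper27
open scoped commutatorElement

variable {p : ℕ} [Fact p.Prime] {G Γ : Type*} [Group G] [Group Γ]

/-- transport of natural data along an injective homomorphism -/
def NatData.mapInj {G' : Type*} [Group G'] (D : NatData p G Γ) (f : G →* G') (hf : Function.Injective f) :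
    NatData p G' Γ where
  j := f.comp D.j
  ρ := D.ρ
  ι := fun v => f (D.ι v)
  j_inj := hf.comp D.j_inj
  ρ_surj := D.ρ_surj
  ι_inj := hf.comp D.ι_inj
  ι_add := fun v w => by rw [D.ι_add, map_mul]
  compat := fun k v => by
    rw [← D.compat]
    simp only [MonoidHom.comp_apply, map_mul, map_inv]

/-- the canonical natural data of `Qd(p)` -/
def qdData (p : ℕ) [Fact p.Prime] : NatData p ↥(Cfsg.qd p) (SpecialLinearGroup (Fin 2) (ZMod p)) where
  j := MonoidHom.mk' (fun m => ⟨aff m 0, (mem_qd p _).mpr ⟨_, _, rfl⟩⟩) (by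
    intro a b
    apply Subtype.ext
    change aff (a * b) 0 = aff a 0 * aff b 0
    rw [aff_mul]
    congr 1
    unfold act; ext <;> simp)
  ρ := MonoidHom.id _
  ι := fun v => ⟨aff 1 v, (mem_qd p _).mpr ⟨_, _, rfl⟩⟩
  j_inj := by
    intro a b hab
    have h1 : aff a 0 = aff b 0 := congrArg Subtype.val hab
    have h2 := congrArg (fun M : SpecialLinearGroup (Fin 3) (ZMod p) => (M : Matrix (Fin 3) (Fin 3) (ZMod p))) h1
    simp only [aff_coe] at h2
    apply sl_ext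
    · simpa using congrFun (congrFun h2 0) 0
    · simpa using congrFun (congrFun h2 0) 1
    · simpa using congrFun (congrFun h2 1) 0
    · simpa using congrFun (congrFun h2 1) 1
  ρ_surj := Function.surjective_id
  ι_inj := by
    intro a b hab
    have h1 : aff (1 : SpecialLinearGroup (Fin 2) (ZMod p)) a = aff 1 b := congrArg Subtype.val hab
    have := congrArg trv h1
    simpa using this
  ι_add := by
    intro v w
    apply Subtype.ext
    change aff 1 (v + w) = aff 1 v * aff 1 w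
    rw [aff_mul, act_one, one_mul]
  compat := by
    intro k v
    apply Subtype.ext
    change aff k 0 * aff 1 v * (aff k 0)⁻¹ = aff 1 (act k v)
    rw [aff_inv, aff_mul, aff_mul]
    congr 1
    · simp
    · have : act k⁻¹ (0 : ZMod p × ZMod p) = 0 := by unfold act; simp
      rw [this]
      have h2 : act (k * 1) (-(0 : ZMod p × ZMod p)) = 0 := by unfold act; simp
      rw [h2]; simp

/-- the module as a subgroup -/
def NatData.W (D : NatData p G Γ) : Subgroup G where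
  carrier := Set.range D.ι
  mul_mem' := by
    rintro _ _ ⟨v, rfl⟩ ⟨w, rfl⟩
    exact ⟨v + w, D.ι_add v w⟩
  one_mem' := ⟨0, D.ι_zero⟩
  inv_mem' := by
    rintro _ ⟨v, rfl⟩
    exact ⟨-v, D.ι_neg v⟩

lemma NatData.mem_W (D : NatData p G Γ) {g : G} : g ∈ D.W ↔ ∃ v, D.ι v = g := Iff.rfl

lemma NatData.W_isPGroup (D : NatData p G Γ) : IsPGroup p D.W := by
  rintro ⟨_, v, rfl⟩
  refine ⟨1, Subtype.ext ?_⟩
  change D.ι v ^ (p ^ 1) = 1
  rw [pow_one, ← D.ι_nsmul]
  have : p • v = 0 := by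
    ext <;> simp
  rw [this, D.ι_zero]

lemma NatData.j_mem_normalizer (D : NatData p G Γ) (k : Γ) : D.j k ∈ normalizer (D.W : Set G) := by
  rw [mem_normalizer_iff]
  intro h
  constructor
  · rintro ⟨v, rfl⟩
    exact ⟨_, (D.compat k v).symm⟩
  · rintro ⟨v, hv⟩
    refine ⟨act (D.ρ k⁻¹) v, ?_⟩
    rw [← D.compat, hv, map_inv]
    group

lemma NatData.comm (D : NatData p G Γ) (k : Γ) (v : ZMod p × ZMod p) :
    ⁅D.ι v, D.j k⁆ = D.ι (v - act (D.ρ k) v) := by
  rw [commutatorElement_def, sub_eq_add_neg, D.ι_add, D.ι_neg, ← D.compat]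
  group

theorem NatData.not_stable (hp : p ≠ 2) (D : NatData p G Γ) : ¬ Cfsg.IsNormalizerPStable p G := by
  intro hst
  obtain ⟨k₁, hk₁⟩ := D.ρ_surj (xx 1)
  have hzp : ∀ z ∈ zpowers (D.j k₁), ∃ (k : Γ) (s : ZMod p), z = D.j k ∧ D.ρ k = xx s := by
    intro z hz
    obtain ⟨n, rfl⟩ := mem_zpowers_iff.mp hz
    refine ⟨k₁ ^ n, (n : ZMod p), by rw [map_zpow], ?_⟩
    rw [map_zpow, hk₁]
    have hnat : ∀ m : ℕ, (xx (1 : ZMod p)) ^ m = xx (m : ZMod p) := fun m => by rw [xx_pow, mul_one]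
    cases n with
    | ofNat m => simp [hnat]
    | negSucc m =>
      rw [zpow_negSucc, hnat]
      apply inv_eq_of_mul_eq_one_left
      rw [xx_mul]
      apply sl_ext <;> simp
  let W₁ : Subgroup G :=
    { carrier := {g | ∃ s : ZMod p, g = D.ι (s, 0)}
      mul_mem' := by
        rintro _ _ ⟨s, rfl⟩ ⟨t, rfl⟩
        exact ⟨s + t, by rw [← D.ι_add]; simp⟩
      one_mem' := ⟨0, D.ι_zero.symm⟩
      inv_mem' := by
        rintro _ ⟨s, rfl⟩
        exact ⟨-s, by rw [← D.ι_neg]; simp⟩ }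
  have h1 : ⁅D.W, zpowers (D.j k₁)⁆ ≤ W₁ := by
    rw [commutator_le]
    rintro _ ⟨v, rfl⟩ z hz
    obtain ⟨k, s, rfl, hk⟩ := hzp z hz
    rw [D.comm, hk]
    refine ⟨-(s * v.2), ?_⟩
    congr 1
    unfold act
    ext <;> simp
  have h2 : ⁅W₁, zpowers (D.j k₁)⁆ = ⊥ := by
    rw [eq_bot_iff, commutator_le]
    rintro _ ⟨t, rfl⟩ z hz
    obtain ⟨k, s, rfl, hk⟩ := hzp z hz
    rw [D.comm, hk, mem_bot]
    have : ((t, 0) : ZMod p × ZMod p) - act (xx s) (t, 0) = 0 := by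
      unfold act
      ext <;> simp
    rw [this, D.ι_zero]
  have hq : ⁅⁅D.W, zpowers (D.j k₁)⁆, zpowers (D.j k₁)⁆ = ⊥ := by
    rw [eq_bot_iff, ← h2]
    exact commutator_mono h1 le_rfl
  have hmem := hst D.W D.W_isPGroup (D.j k₁) (D.j_mem_normalizer k₁) hq
  let φ : Γ →* (↥(normalizer (D.W : Set G)) ⧸ (centralizer (D.W : Set G)).subgroupOf (normalizer (D.W : Set G))) :=
    (QuotientGroup.mk' _).comp (D.j.codRestrict (normalizer (D.W : Set G)) D.j_mem_normalizer)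
  have hchar := Cfsg.Agent.H12.pCore_characteristic p
    (↥(normalizer (D.W : Set G)) ⧸ (centralizer (D.W : Set G)).subgroupOf (normalizer (D.W : Set G)))
  have hOn : (Cfsg.pCore p
    (↥(normalizer (D.W : Set G)) ⧸ (centralizer (D.W : Set G)).subgroupOf (normalizer (D.W : Set G)))).Normal :=
    inferInstance
  have hMn : (((Cfsg.pCore p _).comap φ).map D.ρ).Normal := (hOn.comap φ).map D.ρ D.ρ_surj
  have hx1 : xx 1 ∈ ((Cfsg.pCore p _).comap φ).map D.ρ := ⟨k₁, hmem, hk₁⟩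
  obtain ⟨w₀, hw₀⟩ : ∃ w₀ : SpecialLinearGroup (Fin 2) (ZMod p), w₀ * xx 1 * w₀⁻¹ = yy (-1) := by
    obtain ⟨w₀, h00, h01, h10, h11⟩ : ∃ w₀ : SpecialLinearGroup (Fin 2) (ZMod p),
        e00 w₀ = 0 ∧ e01 w₀ = 1 ∧ e10 w₀ = -1 ∧ e11 w₀ = 0 :=
      ⟨⟨!![0, 1; -1, 0], by simp [det_fin_two]⟩, by simp [e00], by simp [e01], by simp [e10], by simp [e11]⟩
    refine ⟨w₀, ?_⟩
    apply sl_ext <;> simp [h00, h01, h10, h11]
  have hy1 : yy (-1) ∈ ((Cfsg.pCore p _).comap φ).map D.ρ := by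
    rw [← hw₀]
    exact hMn.conj_mem _ hx1 _
  have htop : ((Cfsg.pCore p _).comap φ).map D.ρ = ⊤ := by
    rw [eq_top_iff, ← closure_xx_yy p (c := -1) (by simp), closure_le]
    rintro m (rfl | hm)
    · exact hx1
    · rw [Set.mem_singleton_iff] at hm
      subst hm
      exact hy1
  have hneg : (-1 : SpecialLinearGroup (Fin 2) (ZMod p)) ∈ ((Cfsg.pCore p _).comap φ).map D.ρ := by rw [htop]; trivial
  obtain ⟨kz, hkz, hρz⟩ := hneg
  obtain ⟨m, hm⟩ := (Cfsg.Agent.H12.pCore_isPGroup p _) ⟨φ kz, hkz⟩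
  have hm' : φ (kz ^ (p ^ m)) = 1 := by
    rw [map_pow]
    exact congrArg Subtype.val hm
  have hcen : D.j (kz ^ (p ^ m)) ∈ centralizer (D.W : Set G) := by
    have := (QuotientGroup.eq_one_iff _).mp hm'
    exact this
  have hc := mem_centralizer_iff.mp hcen (D.ι (1, 0)) ⟨_, rfl⟩
  have hodd : Odd (p ^ m) := ((Fact.out : p.Prime).odd_of_ne_two hp).pow
  have h5 := D.compat (kz ^ (p ^ m)) (1, 0)
  rw [map_pow D.ρ, hρz, hodd.neg_one_pow, act_neg_one, ← hc, mul_inv_cancel_right] at h5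
  have h6 := congrArg Prod.fst (D.ι_inj h5)
  simp only [Prod.fst_neg] at h6
  have h7 : (2 : ZMod p) = 0 := by linear_combination h6
  have h8 : ((2 : ℕ) : ZMod p) = 0 := by exact_mod_cast h7
  rw [ZMod.natCast_eq_zero_iff] at h8
  exact hp ((Nat.prime_dvd_prime_iff_eq Fact.out Nat.prime_two).mp h8)

end Cfsg.Agent.H12.Dk
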