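import Mathlib
import Cfsg.Prelude.Def_KGroupFacts
import Cfsg.Prelude.Def_Transfer
import Cfsg.Agent.H1.PAut
import Cfsg.Agent.H1.Class2
import Cfsg.Agent.H4.Nilp
import Cfsg.Agent.Fus.Residual
import Cfsg.Agent.S0120
import Cfsg.Agent.S1898

set_option autoImplicit false
set_option linter.unusedSimpArgs false
set_option linter.unusedSectionVars false
set_option linter.style.haveILetI false

/-! A critical subgroup invariant under a prescribed group of automorphisms. -/

namespace Cfsg.Agent.H12.GCrit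

open scoped commutatorElement

variable {P : Type*} [Group P]

/-- elements of order dividing `p` in the centre -/
def omegaCenter (p : ℕ) (Q : Type*) [Group Q] : Subgroup Q where
  carrier := {z | z ∈ Subgroup.center Q ∧ z ^ p = 1}
  one_mem' := ⟨Subgroup.one_mem _, one_pow _⟩
  mul_mem' := by
    rintro a b ⟨ha, ha'⟩ ⟨hb, hb'⟩
    refine ⟨Subgroup.mul_mem _ ha hb, ?_⟩
    have hc : Commute a b := Subgroup.mem_center_iff.mp hb a
    rw [hc.mul_pow, ha', hb', one_mul]
  inv_mem' := by
    rintro a ⟨ha, ha'⟩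
    exact ⟨Subgroup.inv_mem _ ha, by rw [inv_pow, ha', inv_one]⟩

/-- invariance under a group of automorphisms -/
def Inv (G : Subgroup (MulAut P)) (D : Subgroup P) : Prop := ∀ α ∈ G, ∀ d ∈ D, α d ∈ D

lemma Inv.map_eq {G : Subgroup (MulAut P)} {D : Subgroup P} (h : Inv G D) {α : MulAut P} (hα : α ∈ G) :
    D.map α.toMonoidHom = D := by
  apply le_antisymm
  · rintro _ ⟨d, hd, rfl⟩
    exact h α hα d hd
  · intro d hd
    exact ⟨α⁻¹ d, h α⁻¹ (G.inv_mem hα) d hd, by simp⟩

lemma Inv.normal {G : Subgroup (MulAut P)} {D : Subgroup P} (hG : Cfsg.Inn P ≤ G) (h : Inv G D) : D.Normal := by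
  refine ⟨fun d hd g => ?_⟩
  have := h (MulAut.conj g) (hG ⟨g, rfl⟩) d hd
  rwa [MulAut.conj_apply] at this

lemma Inv.centralizer_inf {G : Subgroup (MulAut P)} {A B : Subgroup P} (hA : Inv G A) (hB : Inv G B) :
    Inv G (A ⊓ Subgroup.centralizer (B : Set P)) := by
  intro α hα x hx
  refine ⟨hA α hα x hx.1, ?_⟩
  change α x ∈ Subgroup.centralizer (B : Set P)
  rw [Subgroup.mem_centralizer_iff]
  intro b hb
  have h1 := Subgroup.mem_centralizer_iff.mp hx.2 (α⁻¹ b) (hB α⁻¹ (G.inv_mem hα) b hb)
  have h2 := congrArg α h1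
  simpa using h2

/-- the restriction homomorphism -/
def res (G : Subgroup (MulAut P)) (C : Subgroup P) (h : Inv G C) : ↥G →* MulAut ↥C where
  toFun α :=
    { toFun := fun x => ⟨(α : MulAut P) x, h α α.2 x x.2⟩
      invFun := fun x => ⟨(α : MulAut P)⁻¹ x, h _ (G.inv_mem α.2) x x.2⟩
      left_inv := fun x => Subtype.ext (by simp)
      right_inv := fun x => Subtype.ext (by simp)
      map_mul' := fun x y => Subtype.ext (by simp) }
  map_one' := by ext x; rfl
  map_mul' := fun a b => by ext x; rfl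

/-- an automorphism fixing a normal subgroup `A` pointwise moves elements only by elements centralizing `A` -/
lemma comm_mem_centralizer {A : Subgroup P} (hA : A.Normal) (α : MulAut P) (h : ∀ a ∈ A, α a = a) (g : P) :
    g⁻¹ * α g ∈ Subgroup.centralizer (A : Set P) := by
  rw [Subgroup.mem_centralizer_iff]
  intro x hx
  have h1 : g * x * g⁻¹ ∈ A := hA.conj_mem x hx g
  have h2 := h _ h1
  rw [map_mul, map_mul, map_inv, h x hx] at h2
  calc x * (g⁻¹ * α g) = g⁻¹ * (g * x * g⁻¹) * α g := by group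
    _ = g⁻¹ * (α g * x * (α g)⁻¹) * α g := by rw [h2]
    _ = g⁻¹ * α g * x := by group

set_option maxHeartbeats 1000000 in
theorem main [Finite P] {p : ℕ} [hp : Fact p.Prime] (hP : IsPGroup p P) (G : Subgroup (MulAut P))
    (hG : Cfsg.Inn P ≤ G) :
    ∃ D : Subgroup P,
      (∀ α ∈ G, D.map α.toMonoidHom = D) ∧
      D ≤ Subgroup.closure {y : P | ∃ α ∈ Cfsg.pResidual p ↥G, ∃ x : P, y = x⁻¹ * (α : MulAut P) x} ∧
      (∀ d ∈ D, d ^ p = 1 ∨ (p = 2 ∧ d ^ 4 = 1)) ∧
      ⁅D, (⊤ : Subgroup P)⁆ ≤ D ⊓ Subgroup.centralizer (D : Set P) ∧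
      (∀ α ∈ G, (orderOf α).Coprime p → (∀ d ∈ D, α d = d) → α = 1) ∧
      ∀ A : Subgroup P, A ≤ D → IsMulCommutative ↥A →
        (∀ B : Subgroup P, A ≤ B → B ≤ D → IsMulCommutative ↥B → B = A) →
        A.Normal ∧ ∀ α ∈ G, (∀ a ∈ A, α a = a) → ∃ k : ℕ, orderOf α = p ^ k := by
  classical
  set R : Subgroup P :=
    Subgroup.closure {y : P | ∃ α ∈ Cfsg.pResidual p ↥G, ∃ x : P, y = x⁻¹ * (α : MulAut P) x} with hR
  have hRinv : Inv G R := by
    intro β hβ r hr
    have : R.map β.toMonoidHom ≤ R := by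
      rw [hR, MonoidHom.map_closure, Subgroup.closure_le]
      rintro _ ⟨_, ⟨α, hα, x, rfl⟩, rfl⟩
      apply Subgroup.subset_closure
      have hn := Cfsg.Agent.Fus.pResidual_normal' p ↥G
      have hmem : (⟨β, hβ⟩ : ↥G) * α * (⟨β, hβ⟩ : ↥G)⁻¹ ∈ Cfsg.pResidual p ↥G := hn.conj_mem α hα _
      refine ⟨_, hmem, β x, ?_⟩
      change β (x⁻¹ * (α : MulAut P) x) = (β x)⁻¹ * (β * (α : MulAut P) * β⁻¹) (β x)
      simp
    exact this ⟨r, hr, rfl⟩
  have hres : ∀ α ∈ G, (orderOf α).Coprime p → ∀ x : P, x⁻¹ * α x ∈ R := by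
    intro α hα hc x
    apply Subgroup.subset_closure
    refine ⟨⟨α, hα⟩, Subgroup.subset_closure ?_, x, rfl⟩
    change (orderOf (⟨α, hα⟩ : ↥G)).Coprime p
    rw [← Subgroup.orderOf_coe]
    exact hc
  obtain ⟨M, ⟨hMR, hMinv, hMab⟩, hMmax⟩ := Set.Finite.exists_maximal
    (s := {M : Subgroup P | M ≤ R ∧ Inv G M ∧ ∀ a ∈ M, ∀ b ∈ M, a * b = b * a}) (Set.toFinite _)
    ⟨⊥, bot_le, fun α _ d hd => by rw [Subgroup.mem_bot] at hd ⊢; rw [hd, map_one],
      fun a ha b hb => by rw [Subgroup.mem_bot] at ha hb; rw [ha, hb]⟩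
  haveI hMn : M.Normal := hMinv.normal hG
  let π := QuotientGroup.mk' M
  set K : Subgroup P := (omegaCenter p (P ⧸ M)).comap π with hKdef
  have hK : ∀ x, x ∈ K ↔ (∀ y, ⁅x, y⁆ ∈ M) ∧ x ^ p ∈ M := by
    intro x
    have e1 : x ∈ K ↔ π x ∈ Subgroup.center (P ⧸ M) ∧ (π x) ^ p = 1 := Iff.rfl
    rw [e1, ← map_pow]
    have e2 : π (x ^ p) = 1 ↔ x ^ p ∈ M := QuotientGroup.eq_one_iff _
    rw [e2]
    refine and_congr_left fun _ => ?_
    rw [Subgroup.mem_center_iff]
    constructor
    · intro h y
      apply (QuotientGroup.eq_one_iff (N := M) _).mp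
      change π ⁅x, y⁆ = 1
      rw [map_commutatorElement, commutatorElement_eq_one_iff_mul_comm]
      exact (h (π y)).symm
    · intro h g
      obtain ⟨y, rfl⟩ := QuotientGroup.mk'_surjective M g
      have h1 : π ⁅x, y⁆ = 1 := (QuotientGroup.eq_one_iff (N := M) _).mpr (h y)
      rw [map_commutatorElement, commutatorElement_eq_one_iff_mul_comm] at h1
      exact h1.symm
  have hKinv : Inv G K := by
    intro α hα x hx
    rw [hK] at hx ⊢
    constructor
    · intro y
      have h1 := hMinv α hα _ (hx.1 (α⁻¹ y))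
      rw [map_commutatorElement] at h1
      simpa using h1
    · rw [← map_pow]
      exact hMinv α hα _ hx.2
  set C : Subgroup P := (R ⊓ Subgroup.centralizer (M : Set P)) ⊓ K with hCdef
  have hCinv : Inv G C := fun α hα x hx => ⟨hRinv.centralizer_inf hMinv α hα x hx.1, hKinv α hα x hx.2⟩
  have hCR : C ≤ R := fun x hx => hx.1.1
  have hCM : ∀ x ∈ C, ∀ m ∈ M, m * x = x * m := fun x hx m hm => Subgroup.mem_centralizer_iff.mp hx.1.2 m hm
  have hCcomm : ∀ x ∈ C, ∀ y, ⁅x, y⁆ ∈ M := fun x hx => ((hK x).mp hx.2).1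
  have hCpow : ∀ x ∈ C, x ^ p ∈ M := fun x hx => ((hK x).mp hx.2).2
  have hMC : M ≤ C := by
    intro m hm
    refine ⟨⟨hMR hm, ?_⟩, ?_⟩
    · change m ∈ Subgroup.centralizer (M : Set P)
      rw [Subgroup.mem_centralizer_iff]
      intro b hb
      exact hMab b hb m hm
    · apply (hK m).mpr
      refine ⟨fun y => ?_, M.pow_mem hm p⟩
      rw [commutatorElement_def]
      have := hMn.conj_mem _ (M.inv_mem hm) y
      have h2 := M.mul_mem hm this
      simpa [mul_assoc] using h2
  haveI hCn : C.Normal := hCinv.normal hG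
  -- the centre of `C`
  have hZC : C ⊓ Subgroup.centralizer (C : Set P) ≤ M := by
    apply hMmax
    · refine ⟨inf_le_left.trans hCR, hCinv.centralizer_inf hCinv, ?_⟩
      intro a ha b hb
      exact Subgroup.mem_centralizer_iff.mp hb.2 a ha.1
    · intro m hm
      refine ⟨hMC hm, ?_⟩
      change m ∈ Subgroup.centralizer (C : Set P)
      rw [Subgroup.mem_centralizer_iff]
      intro c hc
      exact (hCM c hc m hm).symm
  -- `C` is self-centralizing in `R`
  have hself : R ⊓ Subgroup.centralizer (C : Set P) ≤ M := by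
    set Q := R ⊓ Subgroup.centralizer (C : Set P) with hQ
    have hQinv : Inv G Q := hRinv.centralizer_inf hCinv
    haveI hQn : Q.Normal := hQinv.normal hG
    by_contra hcon
    have hne : Q.map π ≠ ⊥ := by
      intro h
      apply hcon
      intro q hq
      have : π q ∈ Q.map π := ⟨q, hq, rfl⟩
      rw [h, Subgroup.mem_bot] at this
      exact (QuotientGroup.eq_one_iff _).mp this
    haveI : (Q.map π).Normal := hQn.map π (QuotientGroup.mk'_surjective M)
    have hPQ : IsPGroup p (P ⧸ M) := hP.to_quotient M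
    haveI : Group.IsNilpotent (P ⧸ M) := hPQ.isNilpotent
    have hB := Cfsg.Agent.H4.normal_inf_center_ne_bot (Q.map π) hne
    set B := Q.map π ⊓ Subgroup.center (P ⧸ M) with hBdef
    have hdvd : p ∣ Nat.card B := by
      obtain ⟨k, hk⟩ := IsPGroup.iff_card.1 (hPQ.to_subgroup B)
      have h1 : Nat.card B ≠ 1 := fun h => hB (Subgroup.card_eq_one.mp h)
      rw [hk] at h1 ⊢
      have : k ≠ 0 := by rintro rfl; simp at h1
      exact dvd_pow_self p this
    obtain ⟨w, hw⟩ := exists_prime_orderOf_dvd_card' p hdvd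
    obtain ⟨q, hq, hqw⟩ := w.2.1
    have hq1 : π q ≠ 1 := by
      rw [hqw]
      intro h
      have : w = 1 := Subtype.ext h
      rw [this, orderOf_one] at hw
      exact hp.out.one_lt.ne hw
    apply hq1
    apply (QuotientGroup.eq_one_iff _).mpr
    apply hZC
    refine ⟨⟨⟨hq.1, ?_⟩, ?_⟩, hq.2⟩
    · change q ∈ Subgroup.centralizer (M : Set P)
      rw [Subgroup.mem_centralizer_iff]
      intro m hm
      exact Subgroup.mem_centralizer_iff.mp hq.2 m (hMC hm)
    · change π q ∈ omegaCenter p (P ⧸ M)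
      rw [hqw]
      refine ⟨w.2.2, ?_⟩
      have := pow_orderOf_eq_one w
      rw [hw] at this
      exact congrArg Subtype.val this
  -- faithful action on `C`
  have hfaithC : ∀ α ∈ G, (orderOf α).Coprime p → (∀ c ∈ C, α c = c) → α = 1 := by
    intro α hα hc hfix
    have h1 : ∀ r ∈ R, α r = r := by
      intro r hr
      apply Cfsg.H1.aut_fix_of_comm_fixed α hc r _ (hP _)
      apply hfix
      apply hMC
      apply hself
      exact ⟨R.mul_mem (R.inv_mem hr) (hRinv α hα r hr), comm_mem_centralizer hCn α hfix r⟩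
    ext x
    rw [MulAut.one_apply]
    exact Cfsg.H1.aut_fix_of_comm_fixed α hc x (h1 _ (hres α hα hc x)) (hP _)
  -- the subgroup `D`
  set e : ℕ := if p = 2 then 4 else p with he
  have hedvd : p ∣ e.choose 2 := by
    rw [he]
    split_ifs with h2
    · rw [h2]; decide
    · exact Cfsg.H1.prime_dvd_choose_two hp.out h2
  let D : Subgroup P :=
    { carrier := {g | g ∈ C ∧ g ^ e = 1}
      one_mem' := ⟨C.one_mem, one_pow _⟩
      mul_mem' := by
        rintro x y ⟨hx, hx'⟩ ⟨hy, hy'⟩
        refine ⟨C.mul_mem hx hy, ?_⟩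
        have hcM : ⁅y, x⁆ ∈ M := hCcomm y hy x
        have c1 : Commute ⁅y, x⁆ x := hCM x hx _ hcM
        have c2 : Commute ⁅y, x⁆ y := hCM y hy _ hcM
        have h1 : ⁅y, x⁆ ^ p = 1 := by
          rw [← Cfsg.H1.commutator_pow_left_of_central c1 c2 p, commutatorElement_eq_one_iff_mul_comm]
          exact hCM x hx _ (hCpow y hy)
        obtain ⟨k, hk⟩ := hedvd
        rw [Cfsg.H1.mul_pow_of_comm_central c1 c2, hx', hy', hk, pow_mul, h1, one_pow, one_mul, one_mul]
      inv_mem' := by
        rintro x ⟨hx, hx'⟩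
        exact ⟨C.inv_mem hx, by rw [inv_pow, hx', inv_one]⟩ }
  have hDmem : ∀ g, g ∈ D ↔ g ∈ C ∧ g ^ e = 1 := fun g => Iff.rfl
  have hDC : D ≤ C := fun g hg => hg.1
  have hDinv : Inv G D := fun α hα d hd => ⟨hCinv α hα d hd.1, by rw [← map_pow, hd.2, map_one]⟩
  haveI hDn : D.Normal := hDinv.normal hG
  have hfaithD : ∀ α ∈ G, (orderOf α).Coprime p → (∀ d ∈ D, α d = d) → α = 1 := by
    intro α hα hc hfix
    apply hfaithC α hα hc
    set φ : MulAut ↥C := res G C hCinv ⟨α, hα⟩ with hφ
    have hφo : (orderOf φ).Coprime p := by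
      have h1 : orderOf φ ∣ orderOf (⟨α, hα⟩ : ↥G) := orderOf_map_dvd _ _
      rw [← Subgroup.orderOf_coe] at h1
      exact Nat.Coprime.coprime_dvd_left h1 hc
    have hφ1 : φ = 1 := by
      by_cases h2 : p = 2
      · subst h2
        have he4 : e = 4 := by rw [he]; simp
        have hcen : commutator ↥C ≤ Subgroup.center ↥C := by
          rw [commutator_def, Subgroup.commutator_le]
          intro a _ b _
          rw [Subgroup.mem_center_iff]
          intro g
          apply Subtype.ext
          exact (hCM g g.2 _ (hCcomm a a.2 b)).symm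
        have hel : Cfsg.IsElementaryAbelian 2 (commutator ↥C) := by
          constructor
          · refine ⟨⟨?_⟩⟩
            intro a b
            apply Subtype.ext
            exact Subgroup.mem_center_iff.mp (hcen b.2) a
          · intro x hx
            rw [commutator_def] at hx
            induction hx using Subgroup.closure_induction with
            | mem x hx =>
              obtain ⟨a, _, b, _, rfl⟩ := hx
              apply Subtype.ext
              change ⁅(a : P), (b : P)⁆ ^ 2 = 1
              have hcM : ⁅(a : P), (b : P)⁆ ∈ M := hCcomm a a.2 b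
              have c1 : Commute ⁅(a : P), (b : P)⁆ (b : P) := hCM b b.2 _ hcM
              have c2 : Commute ⁅(a : P), (b : P)⁆ (a : P) := hCM a a.2 _ hcM
              rw [← Cfsg.H1.commutator_pow_left_of_central c1 c2 2, commutatorElement_eq_one_iff_mul_comm]
              exact hCM b b.2 _ (hCpow a a.2)
            | one => exact one_pow _
            | mul x y hx hy hx' hy' =>
              have hyc : y ∈ Subgroup.center ↥C := hcen (by rw [commutator_def]; exact hy)
              have hcomm : Commute x y := Subgroup.mem_center_iff.mp hyc x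
              rw [hcomm.mul_pow, hx', hy', one_mul]
            | inv x _ hx' => rw [inv_pow, hx', inv_one]
        obtain ⟨k, hk⟩ := (Cfsg.Agent.S1898.result (hP.to_subgroup C) hel hcen).2 φ (by
          intro g hg
          apply Subtype.ext
          exact hfix g ⟨g.2, by rw [he4]; exact congrArg Subtype.val hg⟩)
        have h1 : orderOf φ ∣ 2 ^ k := orderOf_dvd_of_pow_eq_one hk
        have h3 : orderOf φ ∣ Nat.gcd (orderOf φ) (2 ^ k) := Nat.dvd_gcd dvd_rfl h1
        rw [Nat.Coprime.pow_right k hφo, Nat.dvd_one, orderOf_eq_one_iff] at h3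
        exact h3
      · have hep : e = p := by rw [he]; simp [h2]
        apply Cfsg.Agent.S0120.result h2 (hP.to_subgroup C) φ hφo
        intro g hg
        apply Subtype.ext
        exact hfix g ⟨g.2, by rw [hep]; exact congrArg Subtype.val hg⟩
    intro c hc'
    have := congrArg (fun ψ : MulAut ↥C => ((ψ ⟨c, hc'⟩ : ↥C) : P)) hφ1
    exact this
  have hDcomm : ⁅D, (⊤ : Subgroup P)⁆ ≤ D ⊓ Subgroup.centralizer (D : Set P) := by
    rw [Subgroup.commutator_le]
    intro d hd y _
    refine ⟨?_, ?_⟩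
    · rw [commutatorElement_def]
      have := hDn.conj_mem _ (D.inv_mem hd) y
      have h2 := D.mul_mem hd this
      simpa [mul_assoc] using h2
    · change ⁅d, y⁆ ∈ Subgroup.centralizer (D : Set P)
      rw [Subgroup.mem_centralizer_iff]
      intro x hx
      exact (hCM x (hDC hx) _ (hCcomm d (hDC hd) y)).symm
  refine ⟨D, fun α hα => hDinv.map_eq hα, hDC.trans hCR, ?_, hDcomm, hfaithD, ?_⟩
  · intro d hd
    have h1 := hd.2
    by_cases h2 : p = 2
    · right
      refine ⟨h2, ?_⟩
      rw [he, if_pos h2] at h1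
      exact h1
    · left
      rw [he, if_neg h2] at h1
      exact h1
  · intro A hAD hAc hAmax
    -- `A` is self-centralizing in `D`
    have hAself : ∀ x ∈ D, (∀ a ∈ A, a * x = x * a) → x ∈ A := by
      intro x hx hxa
      have hB : A ⊔ Subgroup.zpowers x = A := by
        apply hAmax _ le_sup_left (sup_le hAD (Subgroup.zpowers_le.mpr hx))
        have e1 : A ⊔ Subgroup.zpowers x = Subgroup.closure ((A : Set P) ∪ {x}) := by
          rw [Subgroup.closure_union, Subgroup.closure_eq, Subgroup.zpowers_eq_closure]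
        rw [e1]
        apply Subgroup.isMulCommutative_closure
        rintro a (ha | ha) b (hb | hb)
        · exact congrArg Subtype.val (hAc.is_comm.comm ⟨a, ha⟩ ⟨b, hb⟩)
        · rw [Set.mem_singleton_iff] at hb
          rw [hb]; exact hxa a ha
        · rw [Set.mem_singleton_iff] at ha
          rw [ha]; exact (hxa b hb).symm
        · rw [Set.mem_singleton_iff] at ha hb
          rw [ha, hb]
      rw [← hB]
      exact Subgroup.mem_sup_right (Subgroup.mem_zpowers x)
    have hAn : A.Normal := by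
      refine ⟨fun a ha y => ?_⟩
      have h1 : ⁅y, a⁆ ∈ D ⊓ Subgroup.centralizer (D : Set P) := by
        have h2 : ⁅a, y⁆ ∈ D ⊓ Subgroup.centralizer (D : Set P) :=
          hDcomm (Subgroup.commutator_mem_commutator (hAD ha) (Subgroup.mem_top y))
        rw [← commutatorElement_inv]
        exact Subgroup.inv_mem _ h2
      have h3 : ⁅y, a⁆ ∈ A := hAself _ h1.1 (fun b hb => Subgroup.mem_centralizer_iff.mp h1.2 b (hAD hb))
      have h4 := A.mul_mem h3 ha
      rw [commutatorElement_def] at h4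
      simpa using h4
    refine ⟨hAn, ?_⟩
    intro α hα hfix
    have h0 : orderOf α ≠ 0 := (orderOf_pos α).ne'
    set k := (orderOf α).factorization p
    refine ⟨k, ?_⟩
    set β := α ^ p ^ k with hβ
    have hβG : β ∈ G := G.pow_mem hα _
    have hβo : (orderOf β).Coprime p := by
      rw [hβ, orderOf_pow_of_dvd (pow_ne_zero _ hp.out.ne_zero) (Nat.ordProj_dvd _ _)]
      exact (Nat.coprime_ordCompl hp.out h0).symm
    have hβfix : ∀ a ∈ A, β a = a := by
      intro a ha
      have : ∀ n : ℕ, (α ^ n) a = a := by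
        intro n
        induction n with
        | zero => simp
        | succ n ih => rw [pow_succ, MulAut.mul_apply, hfix a ha, ih]
      exact this _
    have hβ1 : β = 1 := by
      apply hfaithD β hβG hβo
      intro d hd
      apply Cfsg.H1.aut_fix_of_comm_fixed β hβo d _ (hP _)
      apply hβfix
      apply hAself _ (D.mul_mem (D.inv_mem hd) (hDinv β hβG d hd))
      intro a ha
      exact Subgroup.mem_centralizer_iff.mp (comm_mem_centralizer hAn β hβfix d) a ha
    have h1 : orderOf α ∣ p ^ k := orderOf_dvd_of_pow_eq_one hβ1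
    exact Nat.dvd_antisymm h1 (Nat.ordProj_dvd _ _)

end Cfsg.Agent.H12.GCrit
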