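import Mathlib
import Cfsg.Agent.H12.Control2
import Cfsg.Agent.H12.AG

set_option autoImplicit false
set_option linter.unusedSectionVars false

/-! Local-to-global control of strong fusion through the subgroups `Z(S) ≤ U ≤ S`. -/

namespace Cfsg.Agent.H12

open Cfsg

variable {G : Type*} [Group G]

/-- the `p`-elements centralizing `R` lie in `R` -/
def FCen (p : ℕ) (R : Subgroup G) : Prop :=
  ∀ x ∈ Subgroup.centralizer (R : Set G), (∃ k : ℕ, x ^ p ^ k = 1) → x ∈ R

lemma FCen.mono {p : ℕ} {R R' : Subgroup G} (h : FCen p R) (hle : R ≤ R') : FCen p R' :=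
  fun x hx hk => hle (h x (Subgroup.centralizer_le hle hx) hk)

lemma FCen.conj {p : ℕ} {R : Subgroup G} (h : FCen p R) (g : G) : FCen p (cj R g) := by
  intro x hx ⟨k, hk⟩
  rw [centralizer_cj] at hx
  rw [mem_cj] at hx ⊢
  refine h _ hx ⟨k, ?_⟩
  rw [conj_pow, hk]
  group

lemma FCen.center_le {p : ℕ} {R S : Subgroup G} (h : FCen p R) (hS : IsPGroup p S) (hRS : R ≤ S) :
    S ⊓ Subgroup.centralizer (S : Set G) ≤ R ⊓ Subgroup.centralizer (R : Set G) := by
  rintro z ⟨hzS, hzC⟩
  have hzR : z ∈ Subgroup.centralizer (R : Set G) := Subgroup.centralizer_le hRS hzC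
  obtain ⟨k, hk⟩ := hS ⟨z, hzS⟩
  exact ⟨h z hzR ⟨k, congrArg Subtype.val hk⟩, hzR⟩

variable [Finite G] {p : ℕ} [Fact p.Prime]

lemma FCen.of_fullyNormalized (S : Sylow p G) {U : Subgroup G} (hfn : FullyNormalized p S U)
    (hc : (S : Subgroup G) ⊓ Subgroup.centralizer (U : Set G) ≤ U) : FCen p U := by
  intro x hx ⟨k, hk⟩
  have hxp : IsPGroup p (Subgroup.zpowers x) := by
    rw [IsPGroup.iff_card]
    have h1 : orderOf x ∣ p ^ k := orderOf_dvd_of_pow_eq_one hk
    obtain ⟨j, -, hj⟩ := (Nat.dvd_prime_pow Fact.out).mp h1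
    exact ⟨j, by rw [Nat.card_zpowers, hj]⟩
  have hxN : Subgroup.zpowers x ≤ Subgroup.normalizer (U : Set G) :=
    Subgroup.zpowers_le.mpr (Subgroup.centralizer_le_normalizer _ hx)
  obtain ⟨n, hn, hle⟩ := exists_conj_le_of_relIndex
    (H := Subgroup.normalizer (U : Set G)) (T := (S : Subgroup G) ⊓ Subgroup.normalizer (U : Set G))
    inf_le_right (S.2.to_le inf_le_left) hfn hxN hxp
  have h1 : n * x * n⁻¹ ∈ (S : Subgroup G) :=
    (hle ⟨x, Subgroup.mem_zpowers x, rfl⟩).1
  have h2 : n * x * n⁻¹ ∈ Subgroup.centralizer (U : Set G) := by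
    have h3 : n * x * n⁻¹ ∈ cj (Subgroup.centralizer (U : Set G)) n⁻¹ := by
      have := conj_mem_cj (g := n⁻¹) hx
      simpa using this
    rwa [← centralizer_cj, cj_eq_self (inv_mem hn)] at h3
  have h4 := hc ⟨h1, h2⟩
  have h5 := (Subgroup.mem_normalizer_iff.mp hn x).mpr h4
  exact h5

/-- **Local-to-global through `Z(S) ≤ U ≤ S`.**  -/
theorem zlocal_global (S : Sylow p G) (𝓦 : Set (Subgroup G → Subgroup G))
    (h𝓦 : ∀ W ∈ 𝓦, IsConjugacyFunctor p W)
    (hWZ : ∀ W ∈ 𝓦, ∀ T : Subgroup G, IsPGroup p T → T ⊓ Subgroup.centralizer (T : Set G) ≤ W T)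
    (X : Set G) (hXinv : ∀ x ∈ X, x⁻¹ ∈ X)
    (hXN : ∀ g ∈ Subgroup.normalizer ((S : Subgroup G) : Set G), g ∈ X)
    (hXW : ∀ W ∈ 𝓦, ∀ g ∈ Subgroup.normalizer ((W (S : Subgroup G) : Subgroup G) : Set G), g ∈ X)
    (hloc : ∀ U : Subgroup G, (S : Subgroup G) ⊓ Subgroup.centralizer ((S : Subgroup G) : Set G) ≤ U → U ≤ S →
      FullyNormalized p S U → ∀ (A : Subgroup G) (y : G), A ≤ (S : Subgroup G) ⊓ Subgroup.normalizer (U : Set G) →
        y ∈ Subgroup.normalizer (U : Set G) → cj A y ≤ (S : Subgroup G) ⊓ Subgroup.normalizer (U : Set G) →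
        WC {x | x ∈ X ∨ ∃ W ∈ 𝓦, x ∈ Subgroup.normalizer
          ((W ((S : Subgroup G) ⊓ Subgroup.normalizer (U : Set G)) : Subgroup G) : Set G)}
          ((S : Subgroup G) ⊓ Subgroup.normalizer (U : Set G)) A y) :
    ∀ (A : Subgroup G) (g : G), A ≤ S → cj A g ≤ S → WC X S A g := by
  have hC : FusionClosed (S : Subgroup G) (WC X S) := WC.fusionClosed (X := X) (S : Subgroup G) hXinv
  -- the claim
  have claim : ∀ (n : ℕ) (U : Subgroup G), U ≤ S → FullyNormalized p S U →
      (S : Subgroup G) ⊓ Subgroup.centralizer ((S : Subgroup G) : Set G) ≤ U →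
      FCen p ((S : Subgroup G) ⊓ Subgroup.normalizer (U : Set G)) →
      Nat.card (S : Subgroup G) - Nat.card ((S : Subgroup G) ⊓ Subgroup.normalizer (U : Set G) : Subgroup G) = n →
      (∀ R : Subgroup G, R ≤ S → Nat.card ((S : Subgroup G) ⊓ Subgroup.normalizer (U : Set G) : Subgroup G) < Nat.card R →
        ∀ g, cj R g ≤ S → WC X S R g) →
      ∀ (A : Subgroup G) (y : G), A ≤ (S : Subgroup G) ⊓ Subgroup.normalizer (U : Set G) →
        y ∈ Subgroup.normalizer (U : Set G) → cj A y ≤ (S : Subgroup G) ⊓ Subgroup.normalizer (U : Set G) →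
        WC X S A y := by
    intro n
    induction n using Nat.strong_induction_on with
    | _ n ih =>
      intro U hUS hfn hZU hcen hn IH A y hA hy hAy
      set S₁ := (S : Subgroup G) ⊓ Subgroup.normalizer (U : Set G) with hS₁
      have hS₁p : IsPGroup p S₁ := S.2.to_le inf_le_left
      obtain ⟨g', hg1, hg2⟩ := hloc U hZU hUS hfn A y hA hy hAy
      refine WC.of_agree ?_ hg2
      have hchain : ∀ (B : Subgroup G) (g : G),
          WChain {x | x ∈ X ∨ ∃ W ∈ 𝓦, x ∈ Subgroup.normalizer ((W S₁ : Subgroup G) : Set G)} S₁ B g →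
          B ≤ S₁ → WC X S B g := by
        intro B g hBg
        induction hBg with
        | nil B => intro _; exact ⟨1, WChain.nil B, fun _ _ => rfl⟩
        | @cons B x g hx hBx hrest ih2 =>
          intro hB
          have hBS : B ≤ S := hB.trans inf_le_left
          have hBxS : cj B x ≤ S := hBx.trans inf_le_left
          have hend : cj B (x * g) ≤ S := by
            rw [← cj_mul]; exact (hrest.cj_le hBx).trans inf_le_left
          refine hC.comp hBS hBxS hend ?_ (ih2 hBx)
          rcases hx with hxX | ⟨W, hW, hx2⟩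
          · exact ⟨x, WChain.single hxX hBxS, fun _ _ => rfl⟩
          by_cases hS₁S : S₁ = S
          · refine ⟨x, WChain.single (hXW W hW x ?_) hBxS, fun _ _ => rfl⟩
            rw [← hS₁S]; exact hx2
          · have hW₁ : W S₁ ≤ S := (functor_le (h𝓦 W hW) hS₁p).trans inf_le_left
            obtain ⟨k, hk0, hkfn, hk2⟩ := exists_fully_normalized_extremal S (W S₁) hW₁
            set S₂ := (S : Subgroup G) ⊓ Subgroup.normalizer ((W S₁ : Subgroup G) : Set G) with hS₂
            have hlt : S₁ < S₂ := by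
              refine lt_of_lt_of_le (lt_inf_normalizer S.2 (lt_of_le_of_ne inf_le_left hS₁S)) ?_
              exact inf_le_inf_left _ (normalizer_le_normalizer_functor (h𝓦 W hW) hS₁p)
            have hk3 : cj S₂ k ≤ (S : Subgroup G) ⊓ Subgroup.normalizer ((cj (W S₁) k : Subgroup G) : Set G) := by
              refine le_inf hk2 ?_
              rw [normalizer_cj]; exact cj_mono inf_le_right k
            have hS₁k : cj S₁ k ≤ S := (cj_mono hlt.le k).trans hk2
            have hcen1 : FCen p (cj S₁ k) := hcen.conj k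
            have hcen2 : FCen p ((S : Subgroup G) ⊓ Subgroup.normalizer ((cj (W S₁) k : Subgroup G) : Set G)) :=
              hcen1.mono ((cj_mono hlt.le k).trans hk3)
            have hZ2 : (S : Subgroup G) ⊓ Subgroup.centralizer ((S : Subgroup G) : Set G) ≤ cj (W S₁) k := by
              rw [← functor_cj (h𝓦 W hW) hS₁p]
              exact (hcen1.center_le S.2 hS₁k).trans (hWZ W hW _ (isPGroup_cj hS₁p k))
            have hc12 := card_lt_of_lt hlt
            have hc2 : Nat.card S₂ ≤ Nat.card ((S : Subgroup G) ⊓ Subgroup.normalizer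
                ((cj (W S₁) k : Subgroup G) : Set G) : Subgroup G) := by
              have := Subgroup.card_le_of_le hk3
              rwa [card_cj] at this
            have hc3 : Nat.card ((S : Subgroup G) ⊓ Subgroup.normalizer
                ((cj (W S₁) k : Subgroup G) : Set G) : Subgroup G) ≤ Nat.card (S : Subgroup G) :=
              Subgroup.card_le_of_le inf_le_left
            have hS₂k : WC X S S₂ k := IH S₂ inf_le_left hc12 k (hk3.trans inf_le_left)
            have hBS₂ : B ≤ S₂ := hB.trans hlt.le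
            have hBxS₂ : cj B x ≤ S₂ := hBx.trans hlt.le
            have s1 : WC X S B k := hC.res hBS₂ inf_le_left (hk3.trans inf_le_left) hS₂k
            have s3 : WC X S (cj B x) k := hC.res hBxS₂ inf_le_left (hk3.trans inf_le_left) hS₂k
            have hmem : k⁻¹ * x * k ∈ Subgroup.normalizer ((cj (W S₁) k : Subgroup G) : Set G) := by
              rw [normalizer_cj]; exact conj_mem_cj hx2
            have e1 : cj (cj B k) (k⁻¹ * x * k) = cj (cj B x) k := by
              rw [cj_mul, cj_mul]; congr 1; group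
            have s2 : WC X S (cj B k) (k⁻¹ * x * k) := by
              refine ih _ (by omega) (cj (W S₁) k) hk0 hkfn hZ2 hcen2 rfl ?_ (cj B k) (k⁻¹ * x * k)
                ((cj_mono hBS₂ k).trans hk3) hmem (by rw [e1]; exact (cj_mono hBxS₂ k).trans hk3)
              intro R hR hlt' g hg
              exact IH R hR (by omega) g hg
            have hBk : cj B k ≤ S := (cj_mono hBS₂ k).trans (hk3.trans inf_le_left)
            have hBxk : cj (cj B x) k ≤ S := (cj_mono hBxS₂ k).trans (hk3.trans inf_le_left)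
            have t1 : WC X S B (k * (k⁻¹ * x * k)) := by
              refine hC.comp hBS hBk ?_ s1 s2
              rw [← cj_mul, e1]; exact hBxk
            have s3' := hC.inv hBxS hBxk s3
            have e2 : k * (k⁻¹ * x * k) * k⁻¹ = x := by group
            have t2 : WC X S B (k * (k⁻¹ * x * k) * k⁻¹) := by
              refine hC.comp hBS (by rw [← cj_mul, e1]; exact hBxk) (by rw [e2]; exact hBxS) t1 ?_
              rw [← cj_mul, e1]; exact s3'
            rwa [e2] at t2
      exact hchain A g' hg1 hA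
  intro A g hA hAg
  refine alperin_abstract S (WC X S) hC ?_ ?_ A hA g hAg
  · intro g hg
    exact ⟨g, WChain.single (hXN g hg) (by rw [cj_eq_self hg]), fun _ _ => rfl⟩
  · intro T hT hne
    obtain ⟨h, hUS, hfn⟩ := exists_fully_normalized S T (S.2.to_le hT)
    refine ⟨h, hUS, hfn, ?_⟩
    intro IH m hm
    have hcard : Nat.card (cj T h) = Nat.card T := card_cj T h
    generalize cj T h = U at *
    have hUN : U ≤ (S : Subgroup G) ⊓ Subgroup.normalizer (U : Set G) := le_inf hUS Subgroup.le_normalizer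
    by_cases hc : (S : Subgroup G) ⊓ Subgroup.centralizer (U : Set G) ≤ U
    · have hcenU : FCen p U := FCen.of_fullyNormalized S hfn hc
      refine claim _ U hUS hfn ((hcenU.center_le S.2 hUS).trans inf_le_left) (hcenU.mono hUN) rfl ?_ U m hUN hm
        (by rw [cj_eq_self hm]; exact hUN)
      intro R hR hlt g hg
      have := Subgroup.card_le_of_le hUN
      exact IH R hR (by omega) g hg
    · -- the Frattini argument
      set C := Subgroup.centralizer (U : Set G) with hCdef
      set D := (S : Subgroup G) ⊓ C with hD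
      have hCN : C ≤ Subgroup.normalizer (U : Set G) := Subgroup.centralizer_le_normalizer _
      have hCn : ∀ x ∈ Subgroup.normalizer (U : Set G), cj C x = C := by
        intro x hx
        rw [hCdef, ← centralizer_cj, cj_eq_self hx]
      have hidx : ¬ p ∣ (((S : Subgroup G) ⊓ Subgroup.normalizer (U : Set G)) ⊓ C).relIndex C :=
        sylow_rel_inf_normal inf_le_right (S.2.to_le inf_le_left) hfn hCN hCn
      have e0 : ((S : Subgroup G) ⊓ Subgroup.normalizer (U : Set G)) ⊓ C = D := by
        rw [inf_assoc, inf_eq_right.mpr hCN]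
      rw [e0] at hidx
      have hDp : IsPGroup p D := S.2.to_le inf_le_left
      have hDm : cj D m ≤ C := by
        rw [← hCn m hm]; exact cj_mono inf_le_right m
      obtain ⟨c, hcC, hle⟩ := exists_conj_le_of_relIndex (H := C) (T := D) inf_le_right hDp hidx hDm (isPGroup_cj hDp m)
      have hle' : cj D (m * c⁻¹) ≤ D := by
        rw [← cj_mul]; unfold cj at hle ⊢; simpa using hle
      have hDeq : cj D (m * c⁻¹) = D := cj_eq_of_le hle'
      have hnU : m * c⁻¹ ∈ Subgroup.normalizer (U : Set G) := mul_mem hm (inv_mem (hCN hcC))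
      have hR : cj (U ⊔ D) (m * c⁻¹) = U ⊔ D := by
        have e : cj (U ⊔ D) (m * c⁻¹) = cj U (m * c⁻¹) ⊔ cj D (m * c⁻¹) := by
          unfold cj; exact Subgroup.map_sup _ _ _
        rw [e, cj_eq_self hnU, hDeq]
      have hRS : U ⊔ D ≤ S := sup_le hUS inf_le_left
      have hlt : U < U ⊔ D := by
        refine lt_of_le_of_ne le_sup_left ?_
        intro h
        apply hc
        rw [h]; exact le_sup_right
      have h1 : WC X S (U ⊔ D) (m * c⁻¹) := by
        refine IH _ hRS ?_ _ (by rw [hR]; exact hRS)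
        have := card_lt_of_lt hlt
        omega
      have h2 : WC X S U (m * c⁻¹) := hC.res le_sup_left hRS (by rw [hR]; exact hRS) h1
      refine h2.of_agree ?_
      intro a ha
      have ha' : m⁻¹ * a * m ∈ U := by
        have := conj_mem_cj (g := m) ha
        rwa [cj_eq_self hm] at this
      have h3 := (Subgroup.mem_centralizer_iff.mp hcC) _ ha'
      calc (m * c⁻¹)⁻¹ * a * (m * c⁻¹) = c * (m⁻¹ * a * m) * c⁻¹ := by group
        _ = (m⁻¹ * a * m) * c * c⁻¹ := by rw [h3]
        _ = m⁻¹ * a * m := by group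

end Cfsg.Agent.H12
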