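import Mathlib
import Cfsg.Agent.H12.Dk26
import Cfsg.Agent.H12.Dk19
import Cfsg.Agent.H12.Cores
import Cfsg.Agent.Lib.Helper13.PStab4

set_option autoImplicit false
set_option linter.unusedSimpArgs false
set_option linter.unusedSectionVars false

/-! `Z(J(T))` does not control strong fusion in `Qd(p)`. -/

namespace Cfsg.Agent.H12.Zj

open Subgroup Matrix Cfsg.Agent.H12.Dk Cfsg.Agent.Lib.Helper13

universe u

variable {p : ℕ} [hpf : Fact p.Prime]

/-- an abstract copy of `Qd(p)` -/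
structure QdPar (p : ℕ) [Fact p.Prime] (Y : Type u) [Group Y] where
  A : SpecialLinearGroup (Fin 2) (ZMod p) → ZMod p × ZMod p → Y
  mul : ∀ m v m' v', A m v * A m' v' = A (m * m') (v + act m v')
  surj : ∀ y, ∃ m v, y = A m v
  inj : ∀ m v m' v', A m v = A m' v' → m = m' ∧ v = v'

namespace QdPar

variable {Y : Type u} [Group Y] (D : QdPar p Y)

lemma one : D.A 1 0 = 1 := by
  have := D.mul 1 0 1 0
  rw [one_mul, act_one, add_zero] at this
  exact mul_eq_left.mp this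

lemma inv (m : SpecialLinearGroup (Fin 2) (ZMod p)) (v : ZMod p × ZMod p) :
    (D.A m v)⁻¹ = D.A m⁻¹ (-(act m⁻¹ v)) := by
  apply inv_eq_of_mul_eq_one_left
  rw [D.mul, inv_mul_cancel, neg_add_cancel, D.one]

lemma pow (m : SpecialLinearGroup (Fin 2) (ZMod p)) (v : ZMod p × ZMod p) (k : ℕ) :
    ∃ w, (D.A m v) ^ k = D.A (m ^ k) w := by
  induction k with
  | zero => exact ⟨0, by rw [pow_zero, pow_zero, D.one]⟩
  | succ k ih =>
    obtain ⟨w, hw⟩ := ih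
    exact ⟨_, by rw [pow_succ, hw, D.mul, ← pow_succ]⟩

/-- the upper triangular Sylow subgroup -/
def T0 : Subgroup Y where
  carrier := {y | ∃ t v, y = D.A (xx t) v}
  mul_mem' := by
    rintro _ _ ⟨t, v, rfl⟩ ⟨t', v', rfl⟩
    exact ⟨t + t', _, by rw [D.mul, xx_mul]⟩
  one_mem' := ⟨0, 0, by
    have : (xx (0 : ZMod p)) = 1 := by
      apply sl_ext <;> simp
    rw [this, D.one]⟩
  inv_mem' := by
    rintro _ ⟨t, v, rfl⟩
    have : (xx t)⁻¹ = xx (-t) := by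
      apply inv_eq_of_mul_eq_one_left
      rw [xx_mul, neg_add_cancel]
      apply sl_ext <;> simp
    exact ⟨-t, _, by rw [D.inv, this]⟩

/-- the translation subgroup -/
def W0 : Subgroup Y where
  carrier := {y | ∃ v, y = D.A 1 v}
  mul_mem' := by
    rintro _ _ ⟨v, rfl⟩ ⟨v', rfl⟩
    exact ⟨_, by rw [D.mul, one_mul]⟩
  one_mem' := ⟨0, D.one.symm⟩
  inv_mem' := by
    rintro _ ⟨v, rfl⟩
    exact ⟨_, by rw [D.inv, inv_one]⟩

/-- the other abelian subgroup -/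
def A1 : Subgroup Y where
  carrier := {y | ∃ t s, y = D.A (xx t) (s, 0)}
  mul_mem' := by
    rintro _ _ ⟨t, s, rfl⟩ ⟨t', s', rfl⟩
    refine ⟨t + t', s + s', ?_⟩
    rw [D.mul, xx_mul]
    congr 1
    unfold act
    ext <;> simp
  one_mem' := ⟨0, 0, by
    have : (xx (0 : ZMod p)) = 1 := by
      apply sl_ext <;> simp
    rw [this]
    exact D.one.symm⟩
  inv_mem' := by
    rintro _ ⟨t, s, rfl⟩
    refine ⟨-t, -s, ?_⟩
    rw [D.inv]
    have : (xx t)⁻¹ = xx (-t) := by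
      apply inv_eq_of_mul_eq_one_left
      rw [xx_mul, neg_add_cancel]
      apply sl_ext <;> simp
    rw [this]
    congr 1
    unfold act
    ext <;> simp

lemma xx_inj {s t : ZMod p} (h : xx s = xx t) : s = t := by
  have := congrArg e01 h
  simpa using this

lemma xx_zero : (xx (0 : ZMod p)) = 1 := by
  apply sl_ext <;> simp

lemma card_T0 : Nat.card D.T0 = p ^ 3 := by
  have e : (ZMod p × (ZMod p × ZMod p)) ≃ D.T0 := Equiv.ofBijective
    (fun x => ⟨D.A (xx x.1) x.2, x.1, x.2, rfl⟩) (by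
      constructor
      · rintro ⟨t, v⟩ ⟨t', v'⟩ h
        have h1 := D.inj _ _ _ _ (congrArg Subtype.val h)
        rw [Prod.mk.injEq]
        exact ⟨xx_inj h1.1, h1.2⟩
      · rintro ⟨_, t, v, rfl⟩
        exact ⟨(t, v), rfl⟩)
  rw [← Nat.card_congr e, Nat.card_prod, Nat.card_prod, Nat.card_zmod]
  ring

lemma card_W0 : Nat.card D.W0 = p ^ 2 := by
  have e : (ZMod p × ZMod p) ≃ D.W0 := Equiv.ofBijective
    (fun x => ⟨D.A 1 x, x, rfl⟩) (by
      constructor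
      · intro v v' h
        exact (D.inj _ _ _ _ (congrArg Subtype.val h)).2
      · rintro ⟨_, v, rfl⟩
        exact ⟨v, rfl⟩)
  rw [← Nat.card_congr e, Nat.card_prod, Nat.card_zmod]
  ring

lemma card_A1 : Nat.card D.A1 = p ^ 2 := by
  have e : (ZMod p × ZMod p) ≃ D.A1 := Equiv.ofBijective
    (fun x => ⟨D.A (xx x.1) (x.2, 0), x.1, x.2, rfl⟩) (by
      constructor
      · rintro ⟨t, s⟩ ⟨t', s'⟩ h
        have h1 := D.inj _ _ _ _ (congrArg Subtype.val h)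
        rw [Prod.mk.injEq]
        exact ⟨xx_inj h1.1, (Prod.mk.injEq _ _ _ _ ▸ h1.2).1⟩
      · rintro ⟨_, t, s, rfl⟩
        exact ⟨(t, s), rfl⟩)
  rw [← Nat.card_congr e, Nat.card_prod, Nat.card_zmod]
  ring

lemma W0_le : D.W0 ≤ D.T0 := by
  rintro _ ⟨v, rfl⟩
  exact ⟨0, v, by rw [xx_zero]⟩

lemma A1_le : D.A1 ≤ D.T0 := by
  rintro _ ⟨t, s, rfl⟩
  exact ⟨t, _, rfl⟩

lemma W0_comm : ∀ x ∈ D.W0, ∀ y ∈ D.W0, x * y = y * x := by
  rintro _ ⟨v, rfl⟩ _ ⟨v', rfl⟩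
  rw [D.mul, D.mul, act_one, act_one, add_comm]

lemma A1_comm : ∀ x ∈ D.A1, ∀ y ∈ D.A1, x * y = y * x := by
  rintro _ ⟨t, s, rfl⟩ _ ⟨t', s', rfl⟩
  rw [D.mul, D.mul, xx_mul, xx_mul, add_comm t]
  congr 1
  unfold act
  ext <;> simp
  ring

lemma act_neg' (m : SpecialLinearGroup (Fin 2) (ZMod p)) (v : ZMod p × ZMod p) : act m (-v) = -act m v := by
  unfold act
  ext <;> simp <;> ring

lemma conj (m : SpecialLinearGroup (Fin 2) (ZMod p)) (w v : ZMod p × ZMod p) :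
    D.A m w * D.A 1 v * (D.A m w)⁻¹ = D.A 1 (act m v) := by
  rw [D.inv, D.mul, D.mul, mul_one, mul_inv_cancel, act_neg', ← act_mul, mul_inv_cancel, act_one]
  congr 1
  abel

lemma W0_normal : D.W0.Normal := by
  constructor
  rintro _ ⟨v, rfl⟩ g
  obtain ⟨m, w, rfl⟩ := D.surj g
  exact ⟨act m v, D.conj m w v⟩

lemma isPGroup_T0 : IsPGroup p D.T0 := IsPGroup.of_card D.card_T0

lemma isPGroup_W0 : IsPGroup p D.W0 := IsPGroup.of_card D.card_W0

/-- a `p`-subgroup containing `T0` is `T0` -/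
lemma eq_T0 {T : Subgroup Y} (hT : IsPGroup p T) (hle : D.T0 ≤ T) : T = D.T0 := by
  apply le_antisymm _ hle
  intro y hy
  obtain ⟨m, v, rfl⟩ := D.surj y
  have key : ∀ m v, D.A m v ∈ T → tr m = 2 := by
    intro m v h
    obtain ⟨k, hk⟩ := hT ⟨_, h⟩
    have hk' : (D.A m v) ^ (p ^ k) = 1 := congrArg Subtype.val hk
    obtain ⟨w, hw⟩ := D.pow m v (p ^ k)
    rw [hk', ← D.one] at hw
    exact tr_eq_two_of_pow p (D.inj _ _ _ _ hw).1.symm
  have h1 := key m v hy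
  have h2 : D.A m v * D.A (xx 1) 0 ∈ T := T.mul_mem hy (hle ⟨1, 0, rfl⟩)
  rw [D.mul] at h2
  have h3 := key _ _ h2
  unfold tr at h1 h3
  simp only [e00_mul, e11_mul, e00_xx, e10_xx, e01_xx, e11_xx] at h3
  have h10 : e10 m = 0 := by linear_combination h3 - h1
  have hdet := sl_det m
  rw [h10, mul_zero, sub_zero] at hdet
  have h00 : (e00 m - 1) ^ 2 = 0 := by linear_combination (-1 : ZMod p) * hdet + e00 m * h1
  have h00' : e00 m = 1 := sub_eq_zero.mp (pow_eq_zero_iff (two_ne_zero) |>.mp h00)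
  have h11 : e11 m = 1 := by linear_combination h1 - h00'
  refine ⟨e01 m, v, ?_⟩
  congr 1
  apply sl_ext <;> simp [h00', h10, h11]

lemma card_le_of_abelian {B : Subgroup Y} (hB : B ≤ D.T0) (hc : ∀ x ∈ B, ∀ y ∈ B, x * y = y * x) :
    Nat.card B ≤ p ^ 2 := by
  have hdvd : Nat.card B ∣ p ^ 3 := by
    rw [← D.card_T0]
    exact card_dvd_of_le hB
  obtain ⟨k, hk, hk'⟩ := (Nat.dvd_prime_pow hpf.out).mp hdvd
  have hfin : Finite D.T0 := Nat.finite_of_card_ne_zero (by rw [D.card_T0]; exact pow_ne_zero _ hpf.out.ne_zero)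
  have hk3 : k ≠ 3 := by
    rintro rfl
    have hBT : B = D.T0 := by
      have : Finite (D.T0 : Set Y) := hfin
      apply SetLike.coe_injective
      apply Set.eq_of_subset_of_ncard_le hB _ (Set.toFinite _)
      change Nat.card D.T0 ≤ Nat.card B
      rw [hk', D.card_T0]
    have h1 : D.A (xx 1) 0 ∈ B := by rw [hBT]; exact ⟨1, 0, rfl⟩
    have h2 : D.A 1 (0, 1) ∈ B := by rw [hBT]; exact D.W0_le ⟨_, rfl⟩
    have h3 := hc _ h1 _ h2
    rw [D.mul, D.mul] at h3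
    have h4 := (D.inj _ _ _ _ h3).2
    unfold act at h4
    simp at h4
  rw [hk']
  exact Nat.pow_le_pow_right hpf.out.pos (by omega)

lemma W0_mem : D.W0 ∈ maxAb 0 D.T0 :=
  ⟨D.W0_le, ⟨D.W0_comm, fun _ _ => pow_zero _⟩, fun C hC hC' => by
    rw [D.card_W0]; exact D.card_le_of_abelian hC hC'.1⟩

lemma A1_mem : D.A1 ∈ maxAb 0 D.T0 :=
  ⟨D.A1_le, ⟨D.A1_comm, fun _ _ => pow_zero _⟩, fun C hC hC' => by
    rw [D.card_A1]; exact D.card_le_of_abelian hC hC'.1⟩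

lemma mem_zAb {y : Y} (hy : y ∈ zAb 0 D.T0) : ∃ s, y = D.A 1 (s, 0) := by
  obtain ⟨v, rfl⟩ := zAb_le_of_mem D.W0_mem hy
  obtain ⟨t, s, h⟩ := zAb_le_of_mem D.A1_mem hy
  exact ⟨s, by rw [(D.inj _ _ _ _ h).2]⟩

theorem not_controls [Finite Y] (D : QdPar p Y) : ∃ T : Sylow p Y, ¬ Cfsg.ControlsStrongFusion p (Cfsg.centerThompsonAOf (T : Subgroup Y)) := by
  obtain ⟨T, hT⟩ := IsPGroup.exists_le_sylow D.isPGroup_T0
  have hTe : (T : Subgroup Y) = D.T0 := D.eq_T0 T.2 hT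
  refine ⟨T, ?_⟩
  rw [centerThompsonAOf_eq, hTe]
  rintro ⟨T', hUT', hctl⟩
  -- nontrivial
  have hne : zAb 0 D.T0 ≠ ⊥ := by
    have h1 := (isCharPFunctor_WZ (p := p) (e := 0) (Or.inl rfl)).1 D.T0 D.isPGroup_T0 (by
      refine ⟨⟨1, ⟨D.A 1 (0, 1), D.W0_le ⟨_, rfl⟩⟩, ?_⟩⟩
      intro h
      have h2 : (1 : Y) = D.A 1 (0, 1) := congrArg Subtype.val h
      rw [← D.one] at h2
      have h3 := (D.inj _ _ _ _ h2).2
      have h4 := congrArg Prod.snd h3
      simp at h4)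
    rw [← inducedFunctor_WZ]
    intro h
    apply h1
    unfold Cfsg.inducedFunctor at h
    exact (map_eq_bot_iff_of_injective _ (subtype_injective _)).mp h
  obtain ⟨z, hz, hz1⟩ := (Subgroup.ne_bot_iff_exists_ne_one.mp hne |> fun ⟨a, ha⟩ =>
    (⟨a.1, a.2, fun h => ha (Subtype.ext h)⟩ : ∃ z, z ∈ zAb 0 D.T0 ∧ z ≠ 1))
  obtain ⟨s, rfl⟩ := D.mem_zAb hz
  have hs : s ≠ 0 := by
    rintro rfl
    exact hz1 D.one
  have hW : D.W0 ≤ T' := by
    have := D.W0_normal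
    exact D.isPGroup_W0.le_sylow_of_normal T'
  obtain ⟨w, hw⟩ : ∃ m : SpecialLinearGroup (Fin 2) (ZMod p), (m : Matrix (Fin 2) (Fin 2) (ZMod p)) = !![0, -1; 1, 0] :=
    ⟨⟨_, by simp [det_fin_two]⟩, rfl⟩
  have hact : act w (s, 0) = (0, s) := by
    unfold act e00 e01 e10 e11
    change ((w : Matrix (Fin 2) (Fin 2) (ZMod p)) 0 0 * s + (w : Matrix (Fin 2) (Fin 2) (ZMod p)) 0 1 * 0,
      (w : Matrix (Fin 2) (Fin 2) (ZMod p)) 1 0 * s + (w : Matrix (Fin 2) (Fin 2) (ZMod p)) 1 1 * 0) = _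
    rw [hw]
    simp
  have h1 := (hctl {D.A 1 (s, 0)} (by
    intro y hy
    rw [Set.mem_singleton_iff] at hy
    rw [hy]
    exact hUT' hz)).2 (D.A w 0) (by
    rintro _ ⟨y, hy, rfl⟩
    rw [Set.mem_singleton_iff] at hy
    rw [hy]
    change D.A w 0 * D.A 1 (s, 0) * (D.A w 0)⁻¹ ∈ (T' : Subgroup Y)
    rw [D.conj]
    exact hW ⟨_, rfl⟩)
  obtain ⟨x, hx, hx'⟩ := h1
  have h2 := hx' _ rfl
  rw [D.conj, hact] at h2
  have h3 : x * D.A 1 (s, 0) * x⁻¹ ∈ zAb 0 D.T0 := (mem_normalizer_iff.mp hx _).mp hz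
  rw [← h2] at h3
  obtain ⟨s', hs'⟩ := D.mem_zAb h3
  have h4 := (D.inj _ _ _ _ hs').2
  rw [Prod.mk.injEq] at h4
  exact hs h4.2

lemma aff_inj {m m' : SpecialLinearGroup (Fin 2) (ZMod p)} {v v' : ZMod p × ZMod p} (h : aff m v = aff m' v') :
    m = m' ∧ v = v' := by
  refine ⟨?_, by simpa using congrArg trv h⟩
  have h' : (aff m v : Matrix (Fin 3) (Fin 3) (ZMod p)) = aff m' v' := congrArg _ h
  rw [aff_coe, aff_coe] at h'
  apply sl_ext
  · simpa using congrFun (congrFun h' 0) 0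
  · simpa using congrFun (congrFun h' 0) 1
  · simpa using congrFun (congrFun h' 1) 0
  · simpa using congrFun (congrFun h' 1) 1

/-- a group isomorphic to `Qd(p)` -/
def ofEquiv (e : Y ≃* ↥(Cfsg.qd p)) : QdPar p Y where
  A m v := e.symm ⟨aff m v, (mem_qd p _).mpr ⟨m, v, rfl⟩⟩
  mul m v m' v' := by
    rw [← map_mul]
    congr 1
    exact Subtype.ext (aff_mul _ _ _ _)
  surj y := by
    obtain ⟨m, v, h⟩ := (mem_qd p _).mp (e y).2
    refine ⟨m, v, ?_⟩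
    rw [MulEquiv.eq_symm_apply]
    exact Subtype.ext h
  inj m v m' v' h := by
    have h1 := e.symm.injective h
    exact aff_inj (congrArg Subtype.val h1)

end QdPar

/-- the converse half of the `Qd(p)` criterion -/
theorem not_involves_of_controls {G : Type u} [Group G] [Finite G]
    (h : ∀ (K R : Subgroup G) [hR : (R.subgroupOf K).Normal], ∀ T : Sylow p (K ⧸ R.subgroupOf K),
      Cfsg.ControlsStrongFusion p (Cfsg.centerThompsonAOf (T : Subgroup (K ⧸ R.subgroupOf K)))) :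
    ¬ Cfsg.Involves ↥(Cfsg.qd p) G := by
  rintro ⟨K, R, hR, ⟨e⟩⟩
  obtain ⟨T, hT⟩ := QdPar.not_controls (QdPar.ofEquiv e)
  exact hT (h K R T)

end Cfsg.Agent.H12.Zj
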