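import Mathlib
import Cfsg.Agent.H12.Zj1
import Cfsg.Agent.H12.KInf2

set_option autoImplicit false
set_option linter.unusedSimpArgs false
set_option linter.unusedSectionVars false

/-! The lower `K`-infinity subgroup does not control strong fusion in `Qd(p)`. -/

namespace Cfsg.Agent.H12.Zj

open Subgroup Matrix Cfsg.Agent.H12.Dk Cfsg.Agent.Lib.Helper13
open scoped commutatorElement

universe u

variable {p : ℕ} [hpf : Fact p.Prime]

lemma kInfLower_eq_top_of_classTwo {P : Type u} [Group P] (h : (⊤ : Subgroup P) ∈ Cfsg.classTwoSubgroups P) :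
    Cfsg.kInfLower P = ⊤ := by
  have h1 : (⊤ : Subgroup P) ∈ Cfsg.kLowerStarFamily (Cfsg.kSeqOdd P 0) := by
    refine ⟨h, ?_, ?_⟩
    · intro x _
      rw [mem_normalizer_iff]
      intro y
      simp
    · intro A _ _ _ _ _
      refine le_inf le_top ?_
      exact (commutator_mono le_rfl le_top).trans h
  have h2 : (⊤ : Subgroup P) ≤ Cfsg.kSeqEven P 0 := le_sSup h1
  exact top_le_iff.mp (h2.trans (le_iSup (Cfsg.kSeqEven P) 0))

namespace QdPar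

variable {Y : Type u} [Group Y] (D : QdPar p Y)

lemma central_T0 (s t : ZMod p) (v : ZMod p × ZMod p) :
    D.A (xx t) v * D.A 1 (s, 0) = D.A 1 (s, 0) * D.A (xx t) v := by
  rw [D.mul, D.mul, mul_one, one_mul, act_one]
  congr 1
  unfold act
  ext <;> simp <;> ring

lemma comm_T0 (t t' : ZMod p) (v v' : ZMod p × ZMod p) :
    ∃ c, D.A (xx t) v * D.A (xx t') v' = D.A 1 (c, 0) * (D.A (xx t') v' * D.A (xx t) v) := by
  refine ⟨t * v'.2 - t' * v.2, ?_⟩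
  rw [D.mul, D.mul, D.mul, one_mul, act_one, xx_mul, xx_mul, add_comm t]
  congr 1
  unfold act
  ext <;> simp <;> ring

lemma classTwo_T0 : (⊤ : Subgroup D.T0) ∈ Cfsg.classTwoSubgroups D.T0 := by
  change ⁅(⊤ : Subgroup D.T0), ⊤⁆ ≤ centralizer _
  rw [commutator_le]
  rintro ⟨_, t, v, rfl⟩ _ ⟨_, t', v', rfl⟩ _
  rw [mem_centralizer_iff]
  rintro ⟨_, t'', v'', rfl⟩ _
  apply Subtype.ext
  obtain ⟨c, hc⟩ := D.comm_T0 t t' v v'
  have h1 : ⁅D.A (xx t) v, D.A (xx t') v'⁆ = D.A 1 (c, 0) := by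
    rw [commutatorElement_def, hc]
    group
  change D.A (xx t'') v'' * ⁅D.A (xx t) v, D.A (xx t') v'⁆ = ⁅D.A (xx t) v, D.A (xx t') v'⁆ * D.A (xx t'') v''
  rw [h1]
  exact D.central_T0 c t'' v''

lemma induced_kInfLower_T0 : Cfsg.inducedFunctor Cfsg.kInfLower D.T0 = D.T0 := by
  unfold Cfsg.inducedFunctor
  rw [kInfLower_eq_top_of_classTwo D.classTwo_T0, ← MonoidHom.range_eq_map, range_subtype]

theorem not_controls_kInfLower [Finite Y] (D : QdPar p Y) :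
    ∃ T : Sylow p Y, ¬ Cfsg.ControlsStrongFusion p (Cfsg.inducedFunctor Cfsg.kInfLower (T : Subgroup Y)) := by
  obtain ⟨T, hT⟩ := IsPGroup.exists_le_sylow D.isPGroup_T0
  have hTe : (T : Subgroup Y) = D.T0 := D.eq_T0 T.2 hT
  refine ⟨T, ?_⟩
  rw [hTe, D.induced_kInfLower_T0]
  rintro ⟨T', hUT', hctl⟩
  have hT'e : (T' : Subgroup Y) = D.T0 := D.eq_T0 T'.2 hUT'
  obtain ⟨w, hw⟩ : ∃ m : SpecialLinearGroup (Fin 2) (ZMod p), (m : Matrix (Fin 2) (Fin 2) (ZMod p)) = !![0, -1; 1, 0] :=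
    ⟨⟨_, by simp [det_fin_two]⟩, rfl⟩
  have hact : act w ((1 : ZMod p), 0) = (0, 1) := by
    unfold act e00 e01 e10 e11
    change ((w : Matrix (Fin 2) (Fin 2) (ZMod p)) 0 0 * 1 + (w : Matrix (Fin 2) (Fin 2) (ZMod p)) 0 1 * 0,
      (w : Matrix (Fin 2) (Fin 2) (ZMod p)) 1 0 * 1 + (w : Matrix (Fin 2) (Fin 2) (ZMod p)) 1 1 * 0) = _
    rw [hw]
    simp
  have h1 := (hctl {D.A 1 (1, 0)} (by
    intro y hy
    rw [Set.mem_singleton_iff] at hy
    rw [hy]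
    exact hUT' (D.W0_le ⟨_, rfl⟩))).2 (D.A w 0) (by
    rintro _ ⟨y, hy, rfl⟩
    rw [Set.mem_singleton_iff] at hy
    rw [hy]
    change D.A w 0 * D.A 1 (1, 0) * (D.A w 0)⁻¹ ∈ (T' : Subgroup Y)
    rw [D.conj]
    exact hUT' (D.W0_le ⟨_, rfl⟩))
  obtain ⟨x, hx, hx'⟩ := h1
  have h2 := hx' _ rfl
  rw [D.conj, hact] at h2
  -- `x⁻¹ * A (xx 1) 0 * x ∈ T0` commutes with `A 1 (1,0)`
  have h3 : x⁻¹ * D.A (xx 1) 0 * x ∈ D.T0 := by
    have := (mem_normalizer_iff.mp (inv_mem hx) (D.A (xx 1) 0)).mp ⟨1, 0, rfl⟩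
    rwa [inv_inv] at this
  obtain ⟨t, v, htv⟩ := h3
  have h4 := D.central_T0 1 t v
  rw [← htv] at h4
  have h5 : D.A (xx 1) 0 * D.A 1 (0, 1) = D.A 1 (0, 1) * D.A (xx 1) 0 := by
    rw [h2]
    have : D.A (xx 1) 0 = x * (x⁻¹ * D.A (xx 1) 0 * x) * x⁻¹ := by group
    calc D.A (xx 1) 0 * (x * D.A 1 (1, 0) * x⁻¹)
        = x * ((x⁻¹ * D.A (xx 1) 0 * x) * D.A 1 (1, 0)) * x⁻¹ := by group
      _ = x * (D.A 1 (1, 0) * (x⁻¹ * D.A (xx 1) 0 * x)) * x⁻¹ := by rw [h4]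
      _ = _ := by group
  rw [D.mul, D.mul] at h5
  have h6 := (D.inj _ _ _ _ h5).2
  unfold act at h6
  simp at h6

end QdPar

/-- the converse half of the `Qd(p)` criterion for the lower `K`-infinity subgroup -/
theorem not_involves_of_controls_kInfLower {G : Type u} [Group G] [Finite G]
    (h : ∀ (K R : Subgroup G) [hR : (R.subgroupOf K).Normal], ∀ T : Sylow p (K ⧸ R.subgroupOf K),
      Cfsg.ControlsStrongFusion p (Cfsg.inducedFunctor (G := (↥K ⧸ R.subgroupOf K)) Cfsg.kInfLower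
        (T : Subgroup (K ⧸ R.subgroupOf K)))) :
    ¬ Cfsg.Involves ↥(Cfsg.qd p) G := by
  rintro ⟨K, R, hR, ⟨e⟩⟩
  obtain ⟨T, hT⟩ := QdPar.not_controls_kInfLower (QdPar.ofEquiv e)
  exact hT (h K R T)

end Cfsg.Agent.H12.Zj
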