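import Mathlib
import Cfsg.Agent.H12.Zj2

set_option autoImplicit false
set_option linter.unusedSimpArgs false
set_option linter.unusedSectionVars false

/-! The Sylow `p`-subgroup of `Qd(p)` in Heisenberg coordinates. -/

namespace Cfsg.Agent.H12.Zj

open Subgroup Matrix Cfsg.Agent.H12.Dk Cfsg.Agent.Lib.Helper13
open scoped commutatorElement

universe u

variable {p : ℕ} [hpf : Fact p.Prime]

namespace QdPar

variable {Y : Type u} [Group Y] (D : QdPar p Y)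

/-- conjugating the parametrisation -/
def conjBy (g : Y) : QdPar p Y where
  A m v := g * D.A m v * g⁻¹
  mul m v m' v' := by
    rw [← D.mul]; group
  surj y := by
    obtain ⟨m, v, h⟩ := D.surj (g⁻¹ * y * g)
    exact ⟨m, v, by rw [← h]; group⟩
  inj m v m' v' h := by
    apply D.inj
    have := congrArg (fun y => g⁻¹ * y * g) h
    simpa [mul_assoc] using this

lemma conjBy_T0 (g : Y) : (D.conjBy g).T0 = D.T0.map (MulAut.conj g).toMonoidHom := by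
  ext y
  constructor
  · rintro ⟨t, v, rfl⟩
    exact ⟨D.A (xx t) v, ⟨t, v, rfl⟩, rfl⟩
  · rintro ⟨_, ⟨t, v, rfl⟩, rfl⟩
    exact ⟨t, v, rfl⟩

lemma exists_par_of_sylow [Finite Y] (D : QdPar p Y) (S : Sylow p Y) : ∃ D' : QdPar p Y, (S : Subgroup Y) = D'.T0 := by
  obtain ⟨T, hT⟩ := IsPGroup.exists_le_sylow D.isPGroup_T0
  have hTe : (T : Subgroup Y) = D.T0 := D.eq_T0 T.2 hT
  obtain ⟨g, hg⟩ := MulAction.exists_smul_eq Y T S
  refine ⟨D.conjBy g, ?_⟩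
  rw [conjBy_T0, ← hTe, ← hg]
  rfl

/-- Heisenberg coordinates -/
def hh (t a b : ZMod p) : Y := D.A (xx t) (a, b)

lemma hh_mul (t a b t' a' b' : ZMod p) :
    D.hh t a b * D.hh t' a' b' = D.hh (t + t') (a + a' + t * b') (b + b') := by
  unfold hh
  rw [D.mul, xx_mul]
  congr 1
  unfold act
  ext <;> simp <;> ring

lemma hh_inj {t a b t' a' b' : ZMod p} (h : D.hh t a b = D.hh t' a' b') : t = t' ∧ a = a' ∧ b = b' := by
  have h1 := D.inj _ _ _ _ h
  have h2 := h1.2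
  rw [Prod.mk.injEq] at h2
  exact ⟨xx_inj h1.1, h2.1, h2.2⟩

lemma hh_zero : D.hh 0 0 0 = 1 := by
  unfold hh
  rw [xx_zero]
  exact D.one

lemma hh_mem (t a b : ZMod p) : D.hh t a b ∈ D.T0 := ⟨t, (a, b), rfl⟩

lemma mem_T0 {y : Y} (hy : y ∈ D.T0) : ∃ t a b, y = D.hh t a b := by
  obtain ⟨t, ⟨a, b⟩, rfl⟩ := hy
  exact ⟨t, a, b, rfl⟩

lemma hh_inv (t a b : ZMod p) : (D.hh t a b)⁻¹ = D.hh (-t) (t * b - a) (-b) := by
  apply inv_eq_of_mul_eq_one_left
  rw [D.hh_mul, ← D.hh_zero]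
  congr 1 <;> ring

lemma hh_pow (t a b : ZMod p) (k : ℕ) :
    (D.hh t a b) ^ k = D.hh (k * t) (k * a + (k.choose 2 : ℕ) * (t * b)) (k * b) := by
  induction k with
  | zero => simp [D.hh_zero]
  | succ k ih =>
    rw [pow_succ, ih, D.hh_mul]
    have : ((k + 1).choose 2 : ℕ) = k + k.choose 2 := by
      rw [Nat.choose_succ_succ' k 1, Nat.choose_one_right]
    rw [this]
    congr 1 <;> push_cast <;> ring

lemma hh_comm (t a b t' a' b' : ZMod p) :
    ⁅D.hh t a b, D.hh t' a' b'⁆ = D.hh 0 (t * b' - t' * b) 0 := by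
  rw [commutatorElement_def, D.hh_inv, D.hh_inv, D.hh_mul, D.hh_mul, D.hh_mul]
  congr 1 <;> ring

/-- the centre -/
def Z0 : Subgroup Y where
  carrier := {y | ∃ s, y = D.hh 0 s 0}
  mul_mem' := by
    rintro _ _ ⟨s, rfl⟩ ⟨s', rfl⟩
    exact ⟨s + s', by rw [D.hh_mul]; congr 1 <;> ring⟩
  one_mem' := ⟨0, D.hh_zero.symm⟩
  inv_mem' := by
    rintro _ ⟨s, rfl⟩
    exact ⟨-s, by rw [D.hh_inv]; congr 1 <;> ring⟩

lemma card_Z0 : Nat.card D.Z0 = p := by
  have e : ZMod p ≃ D.Z0 := Equiv.ofBijective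
    (fun x => ⟨D.hh 0 x 0, x, rfl⟩) (by
      constructor
      · intro v v' h
        exact (D.hh_inj (congrArg Subtype.val h)).2.1
      · rintro ⟨_, v, rfl⟩
        exact ⟨v, rfl⟩)
  rw [← Nat.card_congr e, Nat.card_zmod]

lemma Z0_le : D.Z0 ≤ D.T0 := by
  rintro _ ⟨s, rfl⟩
  exact D.hh_mem _ _ _

lemma Z0_le_W0 : D.Z0 ≤ D.W0 := by
  rintro _ ⟨s, rfl⟩
  exact ⟨(s, 0), by unfold hh; rw [xx_zero]⟩

lemma mem_W0_iff (t a b : ZMod p) : D.hh t a b ∈ D.W0 ↔ t = 0 := by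
  constructor
  · rintro ⟨v, hv⟩
    have := (D.inj _ _ _ _ hv).1
    rw [← xx_zero] at this
    exact xx_inj this
  · rintro rfl
    exact ⟨(a, b), by unfold hh; rw [xx_zero]⟩

/-- the coordinate bijection -/
noncomputable def coord : (ZMod p × ZMod p × ZMod p) ≃ D.T0 := Equiv.ofBijective
    (fun x => ⟨D.hh x.1 x.2.1 x.2.2, D.hh_mem _ _ _⟩) (by
      constructor
      · rintro ⟨t, a, b⟩ ⟨t', a', b'⟩ h
        obtain ⟨h1, h2, h3⟩ := D.hh_inj (congrArg Subtype.val h)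
        simp only at h1 h2 h3
        rw [h1, h2, h3]
      · rintro ⟨y, hy⟩
        obtain ⟨t, a, b, rfl⟩ := D.mem_T0 hy
        exact ⟨(t, a, b), rfl⟩)

lemma coord_apply (t a b : ZMod p) : (D.coord (t, a, b) : Y) = D.hh t a b := rfl

lemma coord_symm (t a b : ZMod p) : D.coord.symm ⟨D.hh t a b, D.hh_mem _ _ _⟩ = (t, a, b) := by
  rw [Equiv.symm_apply_eq]
  rfl

/-- the automorphism exchanging the two abelian subgroups of order `p²` -/
noncomputable def swapHom : D.T0 →* D.T0 := MonoidHom.mk'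
  (fun y => D.coord ((D.coord.symm y).2.2, (D.coord.symm y).1 * (D.coord.symm y).2.2 - (D.coord.symm y).2.1,
    (D.coord.symm y).1)) (by
    rintro ⟨y, hy⟩ ⟨y', hy'⟩
    obtain ⟨t, a, b, rfl⟩ := D.mem_T0 hy
    obtain ⟨t', a', b', rfl⟩ := D.mem_T0 hy'
    have e : (⟨D.hh t a b, hy⟩ * ⟨D.hh t' a' b', hy'⟩ : D.T0) =
        ⟨D.hh (t + t') (a + a' + t * b') (b + b'), D.hh_mem _ _ _⟩ := Subtype.ext (D.hh_mul _ _ _ _ _ _)
    rw [e, D.coord_symm, D.coord_symm, D.coord_symm]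
    apply Subtype.ext
    simp only [Subgroup.coe_mul, coord_apply]
    rw [D.hh_mul]
    congr 1 <;> ring)

lemma swapHom_apply (t a b : ZMod p) :
    D.swapHom ⟨D.hh t a b, D.hh_mem _ _ _⟩ = ⟨D.hh b (t * b - a) t, D.hh_mem _ _ _⟩ := by
  change D.coord _ = _
  rw [D.coord_symm]
  rfl

lemma swapHom_swapHom (y : D.T0) : D.swapHom (D.swapHom y) = y := by
  obtain ⟨y, hy⟩ := y
  obtain ⟨t, a, b, rfl⟩ := D.mem_T0 hy
  rw [swapHom_apply, swapHom_apply]
  apply Subtype.ext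
  change D.hh _ _ _ = D.hh _ _ _
  congr 1
  ring

noncomputable def swapAut : D.T0 ≃* D.T0 :=
  MulEquiv.ofBijective D.swapHom (Function.Involutive.bijective D.swapHom_swapHom)

lemma swapAut_apply (t a b : ZMod p) :
    D.swapAut ⟨D.hh t a b, D.hh_mem _ _ _⟩ = ⟨D.hh b (t * b - a) t, D.hh_mem _ _ _⟩ :=
  D.swapHom_apply t a b

end QdPar

end Cfsg.Agent.H12.Zj
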