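import Mathlib
import Cfsg.Agent.H12.Zj3
import Cfsg.Agent.S0012
import Cfsg.Agent.S0013

set_option autoImplicit false
set_option linter.unusedSimpArgs false
set_option linter.unusedSectionVars false
set_option linter.unnecessarySeqFocus false

/-! The Sylow `p`-subgroup of `Qd(p)` is extraspecial of order `p³` and exponent `p`. -/

namespace Cfsg.Agent.H12.Zj

open Subgroup Matrix Cfsg.Agent.H12.Dk Cfsg.Agent.Lib.Helper13
open scoped commutatorElement

universe u

variable {p : ℕ} [hpf : Fact p.Prime]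

namespace QdPar

variable {Y : Type u} [Group Y] (D : QdPar p Y)

lemma mem_center_T0 (y : D.T0) : y ∈ center D.T0 ↔ (y : Y) ∈ D.Z0 := by
  obtain ⟨y, hy⟩ := y
  obtain ⟨t, a, b, rfl⟩ := D.mem_T0 hy
  constructor
  · intro h
    rw [mem_center_iff] at h
    have h1 := congrArg Subtype.val (h ⟨D.hh 0 0 1, D.hh_mem _ _ _⟩)
    have h2 := congrArg Subtype.val (h ⟨D.hh 1 0 0, D.hh_mem _ _ _⟩)
    simp only [Subgroup.coe_mul] at h1 h2
    rw [D.hh_mul, D.hh_mul] at h1 h2
    have h3 := (D.hh_inj h1).2.1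
    have h4 := (D.hh_inj h2).2.1
    have ht : t = 0 := by linear_combination -h3
    have hb : b = 0 := by linear_combination h4
    subst ht hb
    exact ⟨a, rfl⟩
  · rintro ⟨s, hs⟩
    rw [mem_center_iff]
    rintro ⟨g, hg⟩
    obtain ⟨t', a', b', rfl⟩ := D.mem_T0 hg
    apply Subtype.ext
    simp only [Subgroup.coe_mul]
    simp only at hs
    rw [hs, D.hh_mul, D.hh_mul]
    congr 1 <;> ring

lemma card_center_T0 : Nat.card (center D.T0) = p := by
  refine Eq.trans ?_ D.card_Z0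
  refine Nat.card_congr ⟨fun y => ⟨y.1.1, (D.mem_center_T0 y.1).mp y.2⟩,
    fun y => ⟨⟨y.1, D.Z0_le y.2⟩, (D.mem_center_T0 _).mpr y.2⟩, fun _ => rfl, fun _ => rfl⟩

lemma commutator_T0 : commutator D.T0 = center D.T0 := by
  apply le_antisymm
  · rw [commutator_def, commutator_le]
    rintro ⟨x, hx⟩ _ ⟨y, hy⟩ _
    obtain ⟨t, a, b, rfl⟩ := D.mem_T0 hx
    obtain ⟨t', a', b', rfl⟩ := D.mem_T0 hy
    rw [mem_center_T0]
    change ⁅D.hh t a b, D.hh t' a' b'⁆ ∈ D.Z0
    rw [D.hh_comm]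
    exact ⟨_, rfl⟩
  · intro y hy
    obtain ⟨s, hs⟩ := (D.mem_center_T0 y).mp hy
    have : y = ⁅(⟨D.hh s 0 0, D.hh_mem _ _ _⟩ : D.T0), ⟨D.hh 0 0 1, D.hh_mem _ _ _⟩⁆ := by
      apply Subtype.ext
      change (y : Y) = ⁅D.hh s 0 0, D.hh 0 0 1⁆
      rw [hs, D.hh_comm]
      congr 1
      ring
    rw [this, commutator_def]
    exact commutator_mem_commutator (mem_top _) (mem_top _)

lemma pow_p_T0 (hp : p ≠ 2) (y : D.T0) : y ^ p = 1 := by
  obtain ⟨y, hy⟩ := y
  obtain ⟨t, a, b, rfl⟩ := D.mem_T0 hy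
  apply Subtype.ext
  change (D.hh t a b) ^ p = 1
  rw [D.hh_pow, ← D.hh_zero]
  have h1 : ((p : ℕ) : ZMod p) = 0 := ZMod.natCast_self p
  have h2 : ((p.choose 2 : ℕ) : ZMod p) = 0 := by
    rw [ZMod.natCast_eq_zero_iff]
    have := hpf.out.two_le
    exact hpf.out.dvd_choose_self (by norm_num) (by omega)
  rw [h1, h2]
  congr 1 <;> ring

theorem extraspecial_T0 [Finite Y] (D : QdPar p Y) (hp : p ≠ 2) :
    Cfsg.IsExtraspecial p D.T0 ∧ Nat.card D.T0 = p ^ 3 ∧ Monoid.exponent D.T0 = p := by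
  have hP : IsPGroup p D.T0 := D.isPGroup_T0
  refine ⟨⟨⟨hP, ?_, D.commutator_T0⟩, D.card_center_T0⟩, D.card_T0, ?_⟩
  · apply le_antisymm
    · refine Cfsg.Agent.S0013.result p hP (center D.T0) D.commutator_T0.le ?_
      intro x
      rw [D.pow_p_T0 hp]
      exact one_mem _
    · rw [← D.commutator_T0]
      exact (Cfsg.Agent.S0012.result p hP).1
  · have h1 : Monoid.exponent D.T0 ∣ p := Monoid.exponent_dvd_of_forall_pow_eq_one (D.pow_p_T0 hp)
    rcases (Nat.dvd_prime hpf.out).mp h1 with h | h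
    · exfalso
      have hs : Subsingleton D.T0 := Monoid.exp_eq_one_iff.mp h
      have := D.card_T0
      rw [Nat.card_of_subsingleton (1 : D.T0)] at this
      have h2 := hpf.out.one_lt
      have h3 : 1 < p ^ 3 := Nat.one_lt_pow (by norm_num) h2
      omega
    · exact h

end QdPar

end Cfsg.Agent.H12.Zj
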